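import Cfsg.Agent.Lib.Alternating.Aut
import Cfsg.Agent.Lib.AutPSL.Descent
import Cfsg.Agent.Lib.Linear.Order

/-!
# Groups with a normal subgroup of index two that are its automorphism group
-/

set_option autoImplicit false
set_option linter.style.haveILetI false

namespace Cfsg.Agent.Lib.Suborbit46

open Subgroup

universe u v

/-- A group with a normal subgroup `N` of index two with trivial centraliser is `Aut N`, if that
has order `2|N|`. -/
theorem equiv_mulAut {A : Type u} [Group A] [Finite A] (N : Subgroup A) [N.Normal] {L : Type v}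
    [Group L] (e : N ≃* L) (hidx : N.index = 2) (hc : centralizer (N : Set A) = ⊥)
    (hL : Nat.card (MulAut L) = 2 * Nat.card L) : Nonempty (A ≃* MulAut L) := by
  let f : A →* MulAut L := (MulAut.congr e).toMonoidHom.comp (MulAut.conjNormal (H := N))
  have hinj : Function.Injective f := by
    refine (MulAut.congr e).injective.comp ?_
    rw [injective_iff_map_eq_one]
    intro a ha
    rw [← mem_bot, ← hc, mem_centralizer_iff]
    intro n hn
    have h := congrArg (fun φ : MulAut N => (φ ⟨n, hn⟩ : A)) ha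
    simp only [MulAut.conjNormal_apply, MulAut.one_apply] at h
    rw [mul_inv_eq_iff_eq_mul] at h
    exact h.symm
  haveI : Finite L := Finite.of_equiv N e.toEquiv
  haveI : Finite (MulAut L) := Nat.finite_of_card_ne_zero (by
    rw [hL]; exact mul_ne_zero two_ne_zero Nat.card_pos.ne')
  have hcard : Nat.card A = Nat.card (MulAut L) := by
    rw [hL, ← N.card_mul_index, hidx, Nat.card_congr e.toEquiv, mul_comm]
  exact ⟨MulEquiv.ofBijective f ((Nat.bijective_iff_injective_and_card f).2 ⟨hinj, hcard⟩)⟩

theorem card_mulAut_alt_five :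
    Nat.card (MulAut (alternatingGroup (Fin 5))) = 2 * Nat.card (alternatingGroup (Fin 5)) := by
  rw [Alternating.nat_card_mulAut_alt (by simp) (by simp), nat_card_alternatingGroup,
    Nat.card_eq_fintype_card, Fintype.card_fin]
  decide

theorem perm_five_equiv :
    Nonempty (MulAut (alternatingGroup (Fin 5)) ≃* Equiv.Perm (Fin 5)) :=
  ⟨(Alternating.autEquiv (by simp) (by simp)).symm⟩

theorem pgl_seven :
    Nat.card (MulAut (Matrix.ProjectiveSpecialLinearGroup (Fin 2) (ZMod 7))) =
        2 * Nat.card (Matrix.ProjectiveSpecialLinearGroup (Fin 2) (ZMod 7)) ∧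
      Nonempty (MulAut (Matrix.ProjectiveSpecialLinearGroup (Fin 2) (ZMod 7)) ≃*
        GL (Fin 2) (ZMod 7) ⧸ center (GL (Fin 2) (ZMod 7))) := by
  haveI : Fact (Nat.Prime 7) := ⟨by norm_num⟩
  have hc := AutPSL.card_mulAut_PSL (F := ZMod 7) (n := 2) (p := 7) (f := 1)
    (by rw [ZMod.card, pow_one]) le_rfl
  rw [if_pos rfl, one_mul, one_mul] at hc
  constructor
  · rw [hc, Linear.card_PGL_eq_card_SL, Linear.card_SL_eq_gcd_mul_card_PSL, Fintype.card_fin,
      Nat.card_zmod]
    rfl
  let f : GL (Fin 2) (ZMod 7) ⧸ center (GL (Fin 2) (ZMod 7)) →*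
      MulAut (Matrix.ProjectiveSpecialLinearGroup (Fin 2) (ZMod 7)) :=
    QuotientGroup.lift _ AutPSL.conjAut fun g hg => AutPSL.conjAut_eq_one_of_center hg
  have hinj : Function.Injective f := by
    rw [injective_iff_map_eq_one]
    intro a
    induction a using QuotientGroup.induction_on with | H g => ?_
    intro h
    obtain ⟨c, hc⟩ := AutPSL.exists_scalar_of_conjAut_eq_one le_rfl (show AutPSL.conjAut g = 1 from h)
    rw [QuotientGroup.eq_one_iff, Matrix.GeneralLinearGroup.center_eq_range_scalar]
    exact ⟨c, hc.symm⟩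
  haveI : Finite (MulAut (Matrix.ProjectiveSpecialLinearGroup (Fin 2) (ZMod 7))) :=
    Finite.of_injective (fun φ => (φ : Matrix.ProjectiveSpecialLinearGroup (Fin 2) (ZMod 7) →
      Matrix.ProjectiveSpecialLinearGroup (Fin 2) (ZMod 7))) DFunLike.coe_injective
  exact ⟨(MulEquiv.ofBijective f
    ((Nat.bijective_iff_injective_and_card f).2 ⟨hinj, hc.symm⟩)).symm⟩

end Cfsg.Agent.Lib.Suborbit46
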