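import Cfsg.Agent.Lib.Suborbit46.Crit

/-!
# The critical distance is one
-/

set_option autoImplicit false
set_option linter.unusedSectionVars false

namespace Cfsg.Agent.Lib.Suborbit46

open Subgroup
open scoped commutatorElement

universe u

variable {G : Type u} [Group G] [Finite G] {H P : Subgroup G} (C : Con G H P) {g₀ : G}
  (T : Turn H P g₀)

include C T

theorem Con.adj_base (σ : Bool) :
    Adj g₀ (σ, ((1 : G) : G ⧸ H)) (!σ, ((step g₀ σ : G) : G ⧸ H)) :=
  ⟨rfl, 1, rfl, by simp⟩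

/-- If commutators go to both types of vertices, the orbital is symmetric. -/
theorem Con.orb_symm (h : ∀ s, IntoA (H := H) P g₀ s) : g₀ * g₀ ∈ H := by
  set a : G ⧸ H := ((1 : G) : G ⧸ H) with ha
  set c : G ⧸ H := ((g₀ : G) : G ⧸ H) with hc
  set d : G ⧸ H := ((g₀⁻¹ : G) : G ⧸ H) with hd
  have e₁ : Adj g₀ (false, a) (true, c) := C.adj_base T false
  have e₂ : Adj g₀ (true, a) (false, d) := C.adj_base T true
  have hE : ∀ σ : G, σ ∈ normalizer (P : Set G) → σ ∉ H → St a ⊓ St ((σ : G) : G ⧸ H) = P := by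
    intro σ h1 h2
    rw [St_eq (g := 1) ha.symm, St_eq (g := σ) rfl, cj_one, C.inter_eq h1 h2]
  have hEc := hE g₀ T.norm T.notMem
  have hEd := hE g₀⁻¹ (inv_mem T.norm) (T.step true).2
  obtain ⟨x, hx, v, hv, hne⟩ := C.exists_comm_ne (e₁.edge T)
  simp only at hx hv
  have hzc : ⁅x, v⁆ ∈ Z0v P c := h true (true, c) (false, a) rfl e₁.symm x hx v hv
  have hzd : ⁅x, v⁆ ∈ Z0v P d := h false (false, d) (true, a) rfl e₂.symm x
    (by rw [hEd]; rwa [hEc] at hx) v hv
  have hcd := C.eq_of_mem_Z0v hzc hzd hne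
  have := QuotientGroup.eq.1 hcd.symm
  simpa using this

/-- In the symmetric case adjacency ignores types. -/
theorem Con.adj_flip (hsq : g₀ * g₀ ∈ H) {u w : Bool × (G ⧸ H)} (e : Adj g₀ u w) :
    Adj g₀ (!u.1, u.2) (!w.1, w.2) := by
  obtain ⟨h, g, hu, hw⟩ := e
  refine ⟨by simp [h], g, hu, ?_⟩
  rw [← hw]
  refine QuotientGroup.eq.2 ?_
  show (g * step g₀ (!u.1))⁻¹ * (g * step g₀ u.1) ∈ H
  rw [step_not]
  cases u.1 <;> simp [step, mul_assoc]
  · exact hsq
  · simpa using inv_mem hsq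

theorem Con.adj_types (hsq : g₀ * g₀ ∈ H) {u w : Bool × (G ⧸ H)} (e : Adj g₀ u w) (s : Bool) :
    Adj g₀ (s, u.2) (!s, w.2) := by
  obtain ⟨a, p⟩ := u
  obtain ⟨b, q⟩ := w
  obtain rfl : b = !a := e.1
  by_cases h : s = a
  · exact h ▸ e
  · obtain rfl : s = !a := Bool.eq_not.mpr h
    exact C.adj_flip T hsq e

/-- The asymmetric case. -/
theorem Con.no_comm {s : Bool} (hA : IntoA (H := H) P g₀ s) (hA' : ¬ IntoA (H := H) P g₀ (!s))
    (hcomm : Comm (H := H) P g₀ s) {b : ℕ} (hb : 2 ≤ b)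
    (hmin : ∀ n < b, ∀ u w : Bool × (G ⧸ H), ¬ Crit P g₀ n u w)
    {u w : Bool × (G ⧸ H)} (h : Crit P g₀ b u w) (hu : u.1 = s) (hw : w.1 = s) : False := by
  obtain ⟨b', rfl⟩ := Nat.exists_eq_add_of_le' hb
  obtain ⟨u₁, hu₁, hu₁'⟩ := h.1
  obtain ⟨w₁, hw₁', hw₁⟩ := h.1.last
  obtain ⟨v, hv, x, hx, hvE, hxE, hne⟩ := C.crit_comm T (by omega) hmin h hu₁
    (by simpa using hu₁') hw₁ (by simpa using hw₁')
  obtain ⟨hσ, hσH⟩ := T.step s
  set σ := step g₀ s with hσdef
  -- the third vertex over an edge starting at a vertex of type `s`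
  have key : ∀ p p₁ : Bool × (G ⧸ H), p.1 = s → Adj g₀ p p₁ → ∀ y ∈ St p.2 ⊓ St p₁.2,
      ∀ v ∈ Vv P p.2, ⁅y, v⁆ ≠ 1 →
      ∃ d : G ⧸ H, ⁅y, v⁆ ∈ Z0v P d ∧ Adj g₀ (s, d) (!s, p.2) := by
    rintro ⟨s', p⟩ ⟨t, p₁⟩ hps hp y hy v hv hne
    rw [show s' = s from hps] at hp
    obtain rfl : t = !s := hp.1
    simp only at hy hv ⊢
    have hA1 : ∀ x ∈ St p₁ ⊓ St p, ∀ v ∈ Vv P p₁, ⁅x, v⁆ ∈ Z0v P p := hA (s, p) (!s, p₁) rfl hp
    have hnot : ⁅y, v⁆ ∉ Z0v P p₁ := fun hmem => hA' (C.intoA_of_edge hp.symm fun y' hy' v' hv' => by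
      by_cases h1 : ⁅y', v'⁆ = 1
      · rw [h1]; exact one_mem _
      rw [((C.edge_comm (hp.edge T) hy hv).2 hne).2 y' hy' v' hv' h1]
      exact hmem)
    obtain ⟨hm, hm'⟩ := C.edge_comm (hp.edge T) hy hv
    obtain ⟨-, g, hg, hg'⟩ := id hp
    simp only at hg hg'
    set d : G ⧸ H := ((g * σ⁻¹ : G) : G ⧸ H) with hd
    refine ⟨d, ?_, rfl, g * σ⁻¹, rfl, by simp [← hσdef, hg]⟩
    -- three central involutions in a four group
    have hd1 : d ≠ p₁ := fun e => hnot <| by
      have hrev : Adj g₀ (s, p₁) (!s, p) := by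
        refine ⟨rfl, g * σ⁻¹, ?_, by simp [← hσdef, hg]⟩
        exact e
      exact hA (s, p₁) (!s, p) rfl hrev y hy v hv
    obtain ⟨g', hgp, hE, hK, hV, hZ0, hZ⟩ := C.edge_base (hp.edge T)
    simp only at hgp hE hK hV hZ0 hZ
    obtain ⟨x₁, hx₁, v₁, hv₁, hne₁⟩ := C.exists_comm_ne (hp.edge T).symm
    simp only at hx₁ hv₁
    have hp0 : ⁅x₁, v₁⁆ ∈ Z0v P p := hA1 x₁ hx₁ v₁ hv₁
    -- all three groups `Z₀` lie in the fixed subgroup of the edge
    have hEg : St p ⊓ St p₁ = cj g P := by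
      rw [← hg, ← hg', St_eq (g := g) rfl, St_eq (g := g * σ) rfl, cj_mul, cj, cj,
        ← Subgroup.map_inf _ _ _ (MulAut.conj g).injective]
      show cj g (H ⊓ cj σ H) = _
      rw [C.inter_eq hσ hσH]
    have hZg : Vv P p ⊓ centralizer ((St p ⊓ St p₁ : Subgroup G) : Set G) =
        cj g (omegaCenter P) := by
      rw [hEg, Vv_eq hg]
      ext z
      simp only [Subgroup.mem_inf, mem_cj, mem_centralizer_iff, SetLike.mem_coe]
      constructor
      · rintro ⟨hz, hz'⟩
        refine ⟨coreIn_le (C.V_le hz), fun q hq => ?_, C.sq_V hz⟩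
        have := congrArg (fun y => g⁻¹ * y * g) (hz' (g * q * g⁻¹) (by simpa [mul_assoc] using hq))
        simpa [mul_assoc] using this
      · intro hz
        refine ⟨Z_le_V hz, fun q hq => ?_⟩
        have := congrArg (fun y => g * y * g⁻¹) (hz.2.1 _ hq)
        simpa [mul_assoc] using this
    have hin : ∀ τ : G, τ ∈ normalizer (P : Set G) →
        Z0v P ((g * τ : G) : G ⧸ H) ≤ cj g (omegaCenter P) := fun τ hτ => by
      rw [Z0v_eq (g := g * τ) rfl, cj_mul]
      exact cj_mono g ((cj_mono τ C.Z0_le).trans (cj_omegaCenter_le (cj_eq_self.2 hτ)))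
    have hm₁ := hZg ▸ hm
    have hq : ∀ c : G ⧸ H, ∃ q ∈ Z0v P c, q ≠ 1 := by
      intro c
      obtain ⟨k, hk⟩ := MulAction.exists_smul_eq G p c
      refine ⟨k * ⁅x₁, v₁⁆ * k⁻¹, by rw [← hk, Z0v_smul]; exact conj_mem_cj hp0,
        fun e => hne₁ (conj_eq_one_iff.1 e)⟩
    obtain ⟨p1, hp1, hp1'⟩ := hq p₁
    obtain ⟨q0, hq0, hq0'⟩ := hq d
    have hp1Z : p1 ∈ cj g (omegaCenter P) := by
      have := hin σ hσ (show p1 ∈ Z0v P ((g * σ : G) : G ⧸ H) by rw [hg']; exact hp1)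
      exact this
    have hq0Z : q0 ∈ cj g (omegaCenter P) := hin σ⁻¹ (inv_mem hσ) hq0
    have hdp : d ≠ p := fun e => hσH <| by
      have h1 := QuotientGroup.eq.1 (e.trans hg.symm)
      simpa [mul_assoc] using h1
    have hp1p : p₁ ≠ p := fun e => hσH <| by
      have h1 := QuotientGroup.eq.1 ((hg.trans e.symm).trans hg'.symm)
      simpa [mul_assoc] using h1
    -- `Z₀(p)` has index two in the fixed subgroup
    have hmul : ∀ a ∈ cj g (omegaCenter P), ∀ a' ∈ cj g (omegaCenter P), a ∉ Z0v P p →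
        a' ∉ Z0v P p → a * a' ∈ Z0v P p := by
      intro a ha a' ha' hna hna'
      rw [Z0v_eq hg, mem_cj] at hna hna' ⊢
      have := C.mul_mem_Z0 (mem_cj.1 ha) (mem_cj.1 ha') hna hna'
      simpa [mul_assoc] using this
    have hnp1 : p1 ∉ Z0v P p := fun e => hp1p (C.eq_of_mem_Z0v hp1 e hp1')
    have hnq0 : q0 ∉ Z0v P p := fun e => hdp (C.eq_of_mem_Z0v hq0 e hq0')
    have hnm : ⁅y, v⁆ ∉ Z0v P p := (hm' hne).1
    have hinv : ∀ a ∈ cj g (omegaCenter P), a * a = 1 := fun a ha => by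
      have := congrArg (fun t => g * t * g⁻¹) (mem_cj.1 ha).2.2
      simpa [mul_assoc] using this
    have hne1 : ∀ a ∈ cj g (omegaCenter P), ∀ a', a ≠ a' → a * a' ≠ 1 := fun a ha a' hne e =>
      hne ((inv_eq_of_mul_eq_one_right (hinv a ha)).symm.trans (inv_eq_of_mul_eq_one_right e))
    have h1 : p1 * q0 ≠ 1 := hne1 _ hp1Z _ fun e => hd1 (C.eq_of_mem_Z0v (e ▸ hq0) (by exact e ▸ hp1) hq0' |>.trans rfl)
    have h2 : p1 * ⁅y, v⁆ ≠ 1 := hne1 _ hp1Z _ fun e => hnot (e ▸ hp1)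
    have := C.Z0v_eq_of_ne_one (hmul _ hp1Z _ hq0Z hnp1 hnq0) (hmul _ hp1Z _ hm₁ hnp1 hnm) h1 h2
    rw [← mul_left_cancel this]
    exact hq0
  obtain ⟨d, hd, hdu⟩ := key u u₁ hu hu₁ x hxE v hv hne
  have hne' : ⁅v, x⁆ ≠ 1 := fun e => hne (by rw [← commutatorElement_inv, e, inv_one])
  obtain ⟨d', hd', hdw⟩ := key w w₁ hw hw₁.symm v hvE x hx hne'
  rw [← commutatorElement_inv] at hd'
  obtain rfl : d = d' := C.eq_of_mem_Z0v hd (by simpa using inv_mem hd') hne
  exact hne (commutatorElement_eq_one_iff_mul_comm.2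
    (hcomm (s, d) (!s, u.2) (!s, w.2) rfl hdu hdw v hv x hx).symm)

/-- The symmetric case with critical distance two. -/
theorem Con.no_two (hsq : g₀ * g₀ ∈ H) (hA : ∀ s, IntoA (H := H) P g₀ s)
    (hmin : ∀ n < 2, ∀ u w : Bool × (G ⧸ H), ¬ Crit P g₀ n u w)
    {u w : Bool × (G ⧸ H)} (h : Crit P g₀ 2 u w) : False := by
  let R : G ⧸ H → G ⧸ H → Prop := fun p q => Adj g₀ (false, p) (true, q)
  have hRadj : ∀ {u w : Bool × (G ⧸ H)}, Adj g₀ u w → R u.2 w.2 := fun e =>
    C.adj_types T hsq e false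
  have hRs : ∀ {p q}, R p q → R q p := fun e => C.adj_types T hsq e.symm false
  have hVK : ∀ {p q}, R p q → Vv P p ≤ Kv P q := fun {p q} e =>
    C.near T hmin one_lt_two (u := (false, p)) (w := (true, q)) e.walk
  -- all paths of length two are critical
  obtain ⟨m, hum, hmw'⟩ := h.1
  obtain ⟨w', hmw, hw'⟩ := hmw'
  obtain rfl : w' = w := hw'
  have hall : ∀ p c c', R p c → R p c' → c ≠ c' → ¬ Vv P c ≤ Kv P c' := by
    intro p c c' hc hc' hcc hle
    obtain ⟨k, hkp, hkc⟩ := Adj.exists_smul (hRadj hum.symm) hc rfl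
    simp only at hkp hkc
    set c'' := k • w'.2 with hc''
    have hpc'' : R p c'' := by
      have := (C.adj_types T hsq hmw false).smul k
      simp only [hkp] at this
      exact this
    have hne : c'' ≠ c := fun e => h.2 (by
      rw [← hkc, hc''] at e
      rw [MulAction.injective k e]; exact C.Vv_le_Kv _)
    by_cases he : c'' = c'
    · refine h.2 fun y hy => ?_
      have := hle (show k * y * k⁻¹ ∈ Vv P c by rw [← hkc, Vv_smul]; exact conj_mem_cj hy)
      rw [← he, hc'', Kv_smul, mem_cj] at this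
      simpa [mul_assoc] using this
    · -- move `c''` to `c'` by the arc group of `(p, c)`
      obtain ⟨g, hgp, hE, hK, -⟩ := C.edge_base (hc.edge T)
      simp only at hgp hE hK
      obtain ⟨t, ht, htK⟩ := C.not_le_Kv (hc.edge T)
      simp only at ht htK
      have htp := mem_St.1 (Subgroup.mem_inf.1 ht).1
      have htc := mem_St.1 (Subgroup.mem_inf.1 ht).2
      have ht'' : R p (t • c'') := by
        have := hpc''.smul t
        simp only [htp] at this
        exact this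
      have hfix : ∀ d, R p d → d ≠ c → t • d ≠ d := by
        intro d hd hdc hfix
        refine hdc (C.adj_eq T hc hd ?_).symm
        intro y hy
        simp only at hy ⊢
        rw [hE, mem_cj] at hy
        have := C.setup.le_of_core_le C.ne_bot (A := cj g⁻¹ (St d))
          (t := g⁻¹ * t * g) (by rw [← mem_cj, ← hE]; exact ht) (fun h' => htK (by rwa [hK, mem_cj]))
          (fun q hq => mem_cj.2 (by
            have : g * q * g⁻¹ ∈ St d := C.Kv_le_edge (hd.edge T) (hK ▸ conj_mem_cj hq)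
            simpa using this))
          (mem_cj.2 (by simpa [mul_assoc] using mem_St.2 hfix)) hy
        simpa [mul_assoc] using mem_cj.1 this
      -- only three neighbours
      have hthree : ∀ a b d, R p a → R p b → R p d → a ≠ c → b ≠ c → d ≠ c → a ≠ b → a = d ∨ b = d := by
        have hidx : (P.subgroupOf H).index = 3 := C.setup.index_three
        intro a b d ha hb hd hac hbc hdc hab
        by_contra! hne'
        obtain ⟨⟨-, gc, hgc, hgc'⟩, ⟨-, ga, hga, hga'⟩, ⟨-, gb, hgb, hgb'⟩, ⟨-, gd, hgd, hgd'⟩⟩ :=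
          And.intro hc (And.intro ha (And.intro hb hd))
        simp only [step] at hgc hgc' hga hga' hgb hgb' hgd hgd'
        let rep : ∀ g : G, (g : G ⧸ H) = p → H ⧸ P.subgroupOf H := fun g hg =>
          QuotientGroup.mk ⟨gc⁻¹ * g, QuotientGroup.eq.1 (hgc.trans hg.symm)⟩
        have hinj : ∀ (g g' : G) (hg : (g : G ⧸ H) = p) (hg' : (g' : G ⧸ H) = p),
            rep g hg = rep g' hg' → ((g * g₀ : G) : G ⧸ H) = ((g' * g₀ : G) : G ⧸ H) := by
          intro g g' hg hg' he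
          have h1 := QuotientGroup.eq.1 he
          simp only [mem_subgroupOf, Subgroup.coe_mul, InvMemClass.coe_inv] at h1
          refine QuotientGroup.eq.2 ?_
          have h2 : g⁻¹ * g' ∈ P := by simpa [mul_assoc] using h1
          rw [← C.inter_eq T.norm T.notMem] at h2
          simpa [mul_assoc] using mem_cj.1 (Subgroup.mem_inf.1 h2).2
        let gs : Fin 4 → {g : G // (g : G ⧸ H) = p} :=
          ![⟨gc, hgc⟩, ⟨ga, hga⟩, ⟨gb, hgb⟩, ⟨gd, hgd⟩]
        let f : Fin 4 → H ⧸ P.subgroupOf H := fun i => rep (gs i).1 (gs i).2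
        have hv4 : Function.Injective ![c, a, b, d] := by
          intro i j hij
          fin_cases i <;> fin_cases j <;>
            simp [hac, hac.symm, hbc, hbc.symm, hdc, hdc.symm, hab, hab.symm, hne'.1, hne'.1.symm,
              hne'.2, hne'.2.symm] at hij ⊢
        have hval : ∀ i, (((gs i).1 * g₀ : G) : G ⧸ H) = ![c, a, b, d] i := by
          intro i
          fin_cases i <;> simp [gs, hgc', hga', hgb', hgd']
        have hf : Function.Injective f := fun i j hij =>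
          hv4 ((hval i).symm.trans ((hinj _ _ (gs i).2 (gs j).2 hij).trans (hval j)))
        have := Nat.card_le_card_of_injective f hf
        rw [Nat.card_fin, ← Subgroup.index_eq_card, hidx] at this
        omega
      have htc'' : t • c'' ≠ c := fun e => hne (MulAction.injective t (e.trans htc.symm))
      rcases hthree c'' (t • c'') c' hpc'' ht'' hc' hne htc'' hcc.symm
        (hfix c'' hpc'' hne).symm with e | e
      · exact he e
      · refine h.2 fun y hy => ?_
        have hy1 : k * y * k⁻¹ ∈ Vv P c := by rw [← hkc, Vv_smul]; exact conj_mem_cj hy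
        have hy2 : t * (k * y * k⁻¹) * t⁻¹ ∈ Vv P c := C.conj_Vv hy1 (Subgroup.mem_inf.1 ht).2
        have := hle hy2
        rw [← e, hc'', Kv_smul, Kv_smul, mem_cj, mem_cj] at this
        simpa [mul_assoc] using this
  -- a path of three edges
  have hex : ∀ p q, R p q → ∃ c, R p c ∧ c ≠ q := fun p q e => by
    obtain ⟨c, hc, hne⟩ := C.exists_other T (show Adj g₀ (false, p) (true, q) from e)
    exact ⟨c.2, hRadj hc, hne⟩
  set p₁ := m.2 with hp₁
  set p₀ := u.2 with hp₀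
  have e01 : R p₀ p₁ := hRadj hum
  obtain ⟨pm, hpm, hpmne⟩ := hex _ _ e01
  obtain ⟨p₂, hp₂, hp₂ne⟩ := hex _ _ (hRs e01)
  have Em := (hpm.edge T).symm
  have E2 := (hp₂.edge T).symm
  simp only at Em E2
  obtain ⟨a, ha, ha'⟩ : ∃ a ∈ Vv P pm,
      a ∉ Vv P pm ⊓ centralizer ((St pm ⊓ St p₀ : Subgroup G) : Set G) := by
    obtain ⟨x, hx, v, hv, hne⟩ := C.exists_comm_ne Em
    exact ⟨v, hv, fun hm => hne (commutatorElement_eq_one_iff_mul_comm.2
      (mem_centralizer_iff.1 (Subgroup.mem_inf.1 hm).2 x hx))⟩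
  obtain ⟨t, ht, ht'⟩ : ∃ t ∈ Vv P p₂,
      t ∉ Vv P p₂ ⊓ centralizer ((St p₂ ⊓ St p₁ : Subgroup G) : Set G) := by
    obtain ⟨x, hx, v, hv, hne⟩ := C.exists_comm_ne E2
    exact ⟨v, hv, fun hm => hne (commutatorElement_eq_one_iff_mul_comm.2
      (mem_centralizer_iff.1 (Subgroup.mem_inf.1 hm).2 x hx))⟩
  -- the side of `p₀`: for `a` and `t`
  have side : ∀ (p q r s : G ⧸ H) (a t : G), R p q → R p r → q ≠ r → R q s → s ≠ p →
      a ∈ Vv P r → a ∉ Vv P r ⊓ centralizer ((St r ⊓ St p : Subgroup G) : Set G) →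
      t ∈ Vv P s → t ∉ Vv P s ⊓ centralizer ((St s ⊓ St q : Subgroup G) : Set G) →
      (a * t) * (a * t) * ((a * t) * (a * t)) ∈ Z0v P p ∧
        (a * t) * (a * t) * ((a * t) * (a * t)) ≠ 1 := by
    intro p q r s a t hpq hpr hqr hqs hsp ha ha' ht ht'
    have hsK : Vv P s ≤ Kv P q := hVK (hRs hqs)
    have htp : t ∈ St p := C.Kv_le_edge ((hRs hpq).edge T) (hsK ht)
    have htq : t ∈ St q := C.Kv_le_St _ (hsK ht)
    -- `t` moves `r`
    have htK : t ∉ Kv P p := by
      intro htK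
      refine hall q s p hqs (hRs hpq) hsp fun y hy => ?_
      have hFz : ∀ z ∈ Vv P s ⊓ centralizer ((St s ⊓ St q : Subgroup G) : Set G), z ∈ Kv P p :=
        fun z hz => hVK (hRs hpq) (C.Zed_symm ((hRs hqs).edge T) hz)
      by_cases hyF : y ∈ Vv P s ⊓ centralizer ((St s ⊓ St q : Subgroup G) : Set G)
      · exact hFz y hyF
      · have := hFz _ (C.mul_mem_fixed ((hRs hqs).edge T) hy ht hyF ht')
        simpa using mul_mem this (inv_mem htK)
    have hmove : t • r ≠ r := by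
      intro hfix
      refine hqr (C.adj_eq T hpq hpr fun y hy => ?_)
      obtain ⟨g, -, hE, hK, -⟩ := C.edge_base (hpq.edge T)
      simp only at hy hE hK ⊢
      rw [hE, mem_cj] at hy
      have := C.setup.le_of_core_le C.ne_bot (A := cj g⁻¹ (St r))
        (t := g⁻¹ * t * g) (by rw [← mem_cj, ← hE]; exact Subgroup.mem_inf.2 ⟨htp, htq⟩)
        (fun h' => htK (by rwa [hK, mem_cj]))
        (fun z hz => mem_cj.2 (by
          have : g * z * g⁻¹ ∈ St r := C.Kv_le_edge (hpr.edge T) (hK ▸ conj_mem_cj hz)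
          simpa using this))
        (mem_cj.2 (by simpa [mul_assoc] using mem_St.2 hfix)) hy
      simpa [mul_assoc] using mem_cj.1 this
    have hpr' : R p (t • r) := by
      have := hpr.smul t
      simp only [mem_St.1 htp] at this
      exact this
    set b := t * a * t⁻¹ with hb
    have hbV : b ∈ Vv P (t • r) := by rw [Vv_smul]; exact conj_mem_cj ha
    have hbF : b ∉ Vv P (t • r) ⊓ centralizer ((St (t • r) ⊓ St p : Subgroup G) : Set G) := by
      intro hm
      refine ha' (Subgroup.mem_inf.2 ⟨ha, mem_centralizer_iff.2 fun y hy => ?_⟩)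
      have hy' : t * y * t⁻¹ ∈ St (t • r) ⊓ St p := Subgroup.mem_inf.2
        ⟨by rw [St_smul]; exact conj_mem_cj (Subgroup.mem_inf.1 hy).1,
          mul_mem (mul_mem htp (Subgroup.mem_inf.1 hy).2) (inv_mem htp)⟩
      have h1 := congrArg (fun z => t⁻¹ * z * t) (mem_centralizer_iff.1 (Subgroup.mem_inf.1 hm).2 _ hy')
      simpa [hb, mul_assoc] using h1
    have haK : Vv P r ≤ Kv P p := hVK (hRs hpr)
    have hbK : Vv P (t • r) ≤ Kv P p := hVK (hRs hpr')
    have hbE : b ∈ St r ⊓ St p := Subgroup.mem_inf.2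
      ⟨C.Kv_le_edge (hpr.edge T) (hbK hbV), C.Kv_le_St _ (hbK hbV)⟩
    have hz := hA true (true, p) (false, r) rfl (C.adj_types T hsq hpr true) b hbE a ha
    simp only at hz
    have hsqab : (a * t) * (a * t) = a * b := by
      rw [hb, C.inv_Vv ht]; group
    have hne : ⁅b, a⁆ ≠ 1 := by
      intro h1
      have hc : Commute b a := commutatorElement_eq_one_iff_mul_comm.1 h1
      refine hall p (t • r) r hpr' hpr hmove fun y hy => ?_
      refine C.cent_Vv (C.Kv_le_edge (hpr.edge T) (hbK hy)) fun z hz => ?_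
      have hF₁ : ∀ z ∈ Vv P r ⊓ centralizer ((St r ⊓ St p : Subgroup G) : Set G),
          ∀ y ∈ Vv P (t • r), y * z = z * y := fun z hz y hy =>
        C.comm_Kv (C.Zed_symm (hRs hpr |>.edge T) hz) (hbK hy)
      have hF₂ : ∀ y ∈ Vv P (t • r) ⊓ centralizer ((St (t • r) ⊓ St p : Subgroup G) : Set G),
          ∀ z ∈ Vv P r, y * z = z * y := fun y hy z hz =>
        (C.comm_Kv (C.Zed_symm (hRs hpr' |>.edge T) hy) (haK hz)).symm
      by_cases hyF : y ∈ Vv P (t • r) ⊓ centralizer ((St (t • r) ⊓ St p : Subgroup G) : Set G)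
      · exact hF₂ y hyF z hz
      by_cases hzF : z ∈ Vv P r ⊓ centralizer ((St r ⊓ St p : Subgroup G) : Set G)
      · exact hF₁ z hzF y hy
      have h2 := hF₂ _ (C.mul_mem_fixed ((hRs hpr').edge T) hy hbV hyF hbF) z hz
      have h3 := hF₁ _ (C.mul_mem_fixed ((hRs hpr).edge T) hz ha hzF ha') b hbV
      have hbz : Commute b z := by
        have h4 : Commute b (z * a) := h3
        have := h4.mul_right hc.inv_right
        rwa [mul_inv_cancel_right] at this
      have hyb : Commute (y * b) z := h2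
      have := hyb.mul_left hbz.inv_left
      rwa [mul_inv_cancel_right] at this
    have h4 : (a * t) * (a * t) * ((a * t) * (a * t)) = ⁅b, a⁆⁻¹ := by
      rw [hsqab, commutatorElement_inv, commutatorElement_def, C.inv_Vv ha, C.inv_Vv hbV]
      simp [mul_assoc]
    rw [h4]
    exact ⟨inv_mem hz, fun e => hne (inv_eq_one.1 e)⟩
  obtain ⟨h1, h1'⟩ := side p₀ p₁ pm p₂ a t e01 hpm hpmne.symm hp₂ hp₂ne ha ha' ht ht'
  obtain ⟨h2, h2'⟩ := side p₁ p₀ p₂ pm t a (hRs e01) hp₂ hp₂ne.symm hpm hpmne ht ht' ha ha'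
  have hinv : t * a = (a * t)⁻¹ := by rw [mul_inv_rev, C.inv_Vv ha, C.inv_Vv ht]
  rw [hinv, ← mul_inv_rev, ← mul_inv_rev, inv_mem_iff] at h2
  have h01 := C.eq_of_mem_Z0v h1 h2 h1'
  exact h.2 (by
    have := hVK e01
    exfalso
    obtain ⟨-, g, hg, hg'⟩ := e01
    simp only [step] at hg hg'
    have := QuotientGroup.eq.1 ((hg.trans h01).trans hg'.symm)
    exact T.notMem (by simpa [mul_assoc] using this))

/-- The critical distance is one: a conjugate of `V` under `N(P)` lies outside the core. -/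
theorem Con.exists_conj_not_le :
    ∃ g ∈ normalizer (P : Set G), g ∉ H ∧ ¬ cj g (V H P) ≤ coreIn H P := by
  classical
  have hex := C.exists_crit T
  set b := Nat.find hex with hb
  obtain ⟨u, w, h⟩ := Nat.find_spec hex
  have hmin : ∀ n < b, ∀ u w : Bool × (G ⧸ H), ¬ Crit P g₀ n u w := fun n hn u w hc =>
    Nat.find_min hex hn ⟨u, w, hc⟩
  by_cases hb2 : 2 ≤ b
  · exfalso
    obtain ⟨hA, hcase⟩ := C.start T hb2 hmin h
    by_cases hA' : IntoA (H := H) P g₀ (!u.1)
    · have hall : ∀ s, IntoA (H := H) P g₀ s := fun s => by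
        rcases Bool.eq_or_eq_not s u.1 with e | e <;> rw [e] <;> assumption
      have hsq := C.orb_symm T hall
      obtain ⟨b', hb'⟩ := Nat.exists_eq_add_of_le' hb2
      have h' := h
      rw [← hb, hb'] at h'
      obtain ⟨u₁, hu₁, hu₁'⟩ := h'.1
      obtain ⟨w₁, hw₁', hw₁⟩ := h'.1.last
      obtain ⟨v, hv, x, hx, hvE, hxE, hne⟩ := C.crit_comm T (b := b' + 2) (by omega)
        (hb' ▸ hmin) h' hu₁ (by simpa using hu₁') hw₁ (by simpa using hw₁')
      have h1 : ⁅x, v⁆ ∈ Z0v P u₁.2 := hall u₁.1 u₁ u rfl hu₁.symm x hxE v hv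
      have h2 : ⁅v, x⁆ ∈ Z0v P w₁.2 := hall w₁.1 w₁ w rfl hw₁ v hvE x hx
      rw [← commutatorElement_inv, inv_mem_iff] at h2
      have heq := C.eq_of_mem_Z0v h1 h2 hne
      have hwalk : Walk g₀ 2 (u.1, u.2) (u.1, w.2) := by
        refine ⟨(!u.1, u₁.2), C.adj_types T hsq hu₁ u.1, (u.1, w.2), ?_, rfl⟩
        have := C.adj_types T hsq hw₁ (!u.1)
        rw [Bool.not_not, ← heq] at this
        exact this
      have hc2 : Crit P g₀ 2 (u.1, u.2) (u.1, w.2) := ⟨hwalk, h.2⟩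
      have hb2' : b = 2 := le_antisymm
        (not_lt.1 fun hlt => hmin 2 hlt _ _ hc2) hb2
      exact C.no_two T hsq hall (hb2' ▸ hmin) hc2
    · have hw : w.1 = u.1 := by
        have hr := C.crit_rev T (by omega) hmin h
        obtain ⟨hAw, -⟩ := C.start T hb2 hmin hr
        rcases Bool.eq_or_eq_not w.1 u.1 with e | e
        · exact e
        · exact absurd (e ▸ hAw) hA'
      rcases hcase with hcomm | ⟨e, w', he, hc⟩
      · exact C.no_comm T hA hA' hcomm hb2 hmin h rfl hw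
      · exact hA' (he ▸ (C.start T hb2 hmin hc).1)
  · have hw0 : Walk g₀ b u w := h.1
    rcases (show b = 0 ∨ b = 1 by omega) with e | e
    · rw [e] at hw0
      exact absurd (by rw [show u = w from hw0]; exact C.Vv_le_Kv _) h.2
    · rw [e] at hw0
      obtain ⟨m, hm, hmw⟩ := hw0
      obtain rfl : m = w := hmw
      obtain ⟨-, g, hg, hg'⟩ := hm
      obtain ⟨hσ, hσH⟩ := T.step u.1
      refine ⟨(step g₀ u.1)⁻¹, inv_mem hσ, fun hm => hσH (by simpa using inv_mem hm), fun hle => h.2 ?_⟩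
      rw [Vv_eq hg, Kv_eq hg', cj_mul]
      refine cj_mono g ?_
      intro v hv
      have := hle (conj_mem_cj hv)
      exact mem_cj.2 (by simpa [mul_assoc] using this)

end Cfsg.Agent.Lib.Suborbit46
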