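import Mathlib

/-!
# Small facts about `GL(2,3)`, checked on quadruples
-/

set_option autoImplicit false
set_option linter.style.haveILetI false
set_option synthInstance.maxSize 4000
set_option synthInstance.maxHeartbeats 200000

namespace Cfsg.Agent.Lib.Suborbit46.GL23

open Matrix

/-- Quadruples. -/
abbrev M4 := ZMod 3 × ZMod 3 × ZMod 3 × ZMod 3

/-- The product. -/
def mul4 (m n : M4) : M4 :=
  (m.1 * n.1 + m.2.1 * n.2.2.1, m.1 * n.2.1 + m.2.1 * n.2.2.2,
    m.2.2.1 * n.1 + m.2.2.2 * n.2.2.1, m.2.2.1 * n.2.1 + m.2.2.2 * n.2.2.2)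

/-- The determinant. -/
def det4 (m : M4) : ZMod 3 := m.1 * m.2.2.2 - m.2.1 * m.2.2.1

/-- The identity. -/
def one4 : M4 := (1, 0, 0, 1)

/-- Minus the identity. -/
def neg4 : M4 := (2, 0, 0, 2)

/-- A non-central involution. -/
def Refl (m : M4) : Prop := mul4 m m = one4 ∧ m ≠ one4 ∧ m ≠ neg4

instance : DecidablePred Refl := fun m => by unfold Refl; infer_instance

theorem refl_det : ∀ t, Refl t → det4 t = 2 := by decide +kernel

theorem refl_conj : ∀ t t', Refl t → Refl t' → ∃ g, det4 g ≠ 0 ∧ mul4 g t = mul4 t' g := by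
  decide +kernel

theorem prod_refl : ∀ x, det4 x = 1 → ∃ t, Refl t ∧ Refl (mul4 t x) := by decide +kernel

theorem refl_inverts : ∀ t, Refl t → ∃ x, x ≠ one4 ∧ mul4 x (mul4 x x) = one4 ∧
    mul4 t (mul4 x t) = mul4 x x := by decide +kernel

theorem commute_three : ∀ x, x ≠ one4 → mul4 x (mul4 x x) = one4 → ∀ g, mul4 g x = mul4 x g →
    mul4 (mul4 (mul4 (mul4 g g) (mul4 g g)) (mul4 (mul4 g g) (mul4 g g)))
      (mul4 (mul4 (mul4 g g) (mul4 g g)) (mul4 (mul4 g g) (mul4 g g))) = one4 →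
    g = one4 ∨ g = neg4 := by decide +kernel

theorem comm_four : ∀ x, x ≠ one4 → mul4 x (mul4 x x) = one4 → ∃ q, det4 q = 1 ∧
    mul4 q (mul4 q (mul4 q q)) = one4 ∧
      mul4 (mul4 (mul4 (mul4 q x) (mul4 q (mul4 q q))) (mul4 x x))
        (mul4 (mul4 (mul4 q x) (mul4 q (mul4 q q))) (mul4 x x)) = neg4 := by decide +kernel

theorem sq_refl_or : ∀ g, det4 g = 1 → mul4 g g = one4 → g = one4 ∨ g = neg4 := by decide +kernel

theorem sl_four_closed : ∀ a, det4 a = 1 → mul4 (mul4 a a) (mul4 a a) = one4 → ∀ b, det4 b = 1 →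
    mul4 (mul4 b b) (mul4 b b) = one4 →
      mul4 (mul4 (mul4 a b) (mul4 a b)) (mul4 (mul4 a b) (mul4 a b)) = one4 := by decide +kernel

theorem sl_exp : ∀ a, det4 a = 1 →
    mul4 (mul4 (mul4 a a) (mul4 a a)) (mul4 (mul4 a a) (mul4 a a)) = one4 →
      mul4 (mul4 a a) (mul4 a a) = one4 := by decide +kernel

theorem central_inv : ∀ g, mul4 g g = one4 → g ≠ one4 →
    (∀ h, det4 h ≠ 0 → mul4 g h = mul4 h g) → g = neg4 := by decide +kernel

theorem comm_refl : ∀ g, det4 g = 1 → ∀ t, Refl t → mul4 g t = mul4 t g → mul4 g g = one4 := by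
  decide +kernel

theorem cube_det : ∀ g, mul4 g (mul4 g g) = one4 → det4 g = 1 := by decide +kernel

local notation "GLT" => GL (Fin 2) (ZMod 3)

/-- Reading a matrix as a quadruple. -/
def q4 (g : GLT) : M4 := ((g : Matrix (Fin 2) (Fin 2) (ZMod 3)) 0 0,
  (g : Matrix (Fin 2) (Fin 2) (ZMod 3)) 0 1, (g : Matrix (Fin 2) (Fin 2) (ZMod 3)) 1 0,
  (g : Matrix (Fin 2) (Fin 2) (ZMod 3)) 1 1)

theorem q4_mul (g h : GLT) : q4 (g * h) = mul4 (q4 g) (q4 h) := by
  simp [q4, mul4, Units.val_mul, Matrix.mul_apply, Fin.sum_univ_two]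

theorem q4_one : q4 (1 : GLT) = one4 := by simp [q4, one4]

theorem q4_injective : Function.Injective q4 := by
  intro g h e
  simp only [q4, Prod.mk.injEq] at e
  refine Units.ext (Matrix.ext fun i j => ?_)
  fin_cases i <;> fin_cases j <;> simp [e.1, e.2.1, e.2.2.1, e.2.2.2]

theorem det4_q4 (g : GLT) : det4 (q4 g) = (g : Matrix (Fin 2) (Fin 2) (ZMod 3)).det := by
  simp [det4, q4, Matrix.det_fin_two]

theorem exists_q4 {m : M4} (h : det4 m ≠ 0) : ∃ g : GLT, q4 g = m := by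
  haveI : Fact (Nat.Prime 3) := ⟨Nat.prime_three⟩
  refine ⟨GeneralLinearGroup.mkOfDetNeZero !![m.1, m.2.1; m.2.2.1, m.2.2.2]
    (by simpa [det4, Matrix.det_fin_two] using h), ?_⟩
  simp [q4, GeneralLinearGroup.mkOfDetNeZero, GeneralLinearGroup.mk', Matrix.unitOfDetInvertible]

end Cfsg.Agent.Lib.Suborbit46.GL23
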