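import Cfsg.Agent.Lib.Suborbit46.FourBase
import Cfsg.Agent.Lib.Suborbit46.GL23
import Cfsg.Agent.Lib.SDOrder.Index
import Cfsg.Agent.S1240
import Cfsg.Agent.S3277
import Cfsg.Agent.S3304
import Cfsg.Agent.S1190
import Cfsg.Agent.S1193
import Cfsg.Agent.Lib.Linear.Simple
import Cfsg.Agent.Lib.Linear.Order
import Cfsg.Agent.Lib.LargeExtra.Basic
import Cfsg.Agent.Lib.ZStar.Elements
import Cfsg.Agent.Lib.HallNumber68.Basic

/-!
# Semidihedral Sylow 2-subgroups and a self-centralising four-group: `C(z)/O(C(z)) ≅ GL(2,3)`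
-/

set_option autoImplicit false
set_option linter.unusedSectionVars false
set_option linter.style.haveILetI false

namespace Cfsg.Agent.Lib.Suborbit46

open Subgroup
open scoped commutatorElement

universe u

variable {L : Type u} [Group L] [Finite L]

/-- Coordinates of a semidihedral Sylow subgroup. -/
theorem exists_coords {S : Sylow 2 L} (hS : Cfsg.IsQuasiDihedral (S : Subgroup L)) :
    ∃ m σ y, SDOrder.SD S m σ y := by
  obtain ⟨n, hn, hcard, ⟨x, hx⟩, ⟨y, hy⟩, hxo, hyo, hxy⟩ := hS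
  obtain ⟨k, rfl⟩ : ∃ k, n = k + 3 := ⟨n - 3, by omega⟩
  rw [Subgroup.orderOf_mk] at hxo hyo
  have hconj : y * x * y⁻¹ = x ^ (2 ^ (k + 2) - 1) := by
    have := congrArg Subtype.val hxy
    simpa using this
  have hy2 : y * y = 1 := by rw [← pow_two, ← hyo, pow_orderOf_eq_one]
  have h4 : 4 ≤ 2 ^ (k + 2) := by
    rw [pow_add]; exact Nat.le_mul_of_pos_left 4 (by positivity)
  have hord : orderOf x = 2 * 2 ^ (k + 2) := by rw [hxo]; ring
  have hyx : y ∉ zpowers x := by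
    intro hmem
    obtain ⟨i, rfl⟩ := hmem
    have e : x ^ 1 = x ^ (2 ^ (k + 2) - 1) := by
      rw [pow_one, ← hconj]; group
    have hfin : IsOfFinOrder x := isOfFinOrder_of_finite x
    rw [hfin.pow_eq_pow_iff_modEq, hord, Nat.ModEq, Nat.mod_eq_of_lt (by omega),
      Nat.mod_eq_of_lt (by omega)] at e
    omega
  have hpow : ∃ a : ℕ, 2 ^ (k + 2) = 2 ^ a := ⟨_, rfl⟩
  have hdvd4 : 4 ∣ 2 ^ (k + 2) := ⟨2 ^ k, by ring⟩
  refine ⟨2 ^ (k + 2), x, y, ⟨⟨by omega, hpow, hx, hord, by rw [hcard]; ring, ?_,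
    by rw [Nat.sub_add_cancel (by omega)], by rwa [Nat.sub_add_cancel (by omega)]⟩, h4, hy, hyx, hy2⟩⟩
  intro v hv hvx
  set Z := (zpowers x).subgroupOf (S : Subgroup L) with hZ
  have hidx : Z.index = 2 := by
    have h := Z.card_mul_index
    rw [hZ, Nat.card_congr (subgroupOfEquivOfLe (zpowers_le.2 hx)).toEquiv, Nat.card_zpowers, hxo,
      hcard, pow_succ _ (k + 3)] at h
    exact Nat.eq_of_mul_eq_mul_left (pow_pos two_pos _) h
  have hm := (mul_mem_iff_of_index_two hidx (a := ⟨y, hy⟩) (b := ⟨v, hv⟩)).2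
    (by simp [hZ, mem_subgroupOf, hyx, hvx])
  rw [hZ, mem_subgroupOf] at hm
  obtain ⟨i, hi⟩ := hm
  have hv' : v = y * x ^ i := by
    have : x ^ i = y * v := hi
    rw [this, ← mul_assoc, hy2, one_mul]
  rw [hv', mul_inv_rev, show y * x ^ i * x * ((x ^ i)⁻¹ * y⁻¹) = y * x * y⁻¹ by group, hconj]

/-- The situation at one involution `z` of `W`. -/
structure SDCtx (L : Type u) [Group L] (W : Subgroup L) (c : L) (S : Sylow 2 L) (z v : L) : Prop where
  four : Four L W c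
  le : W ≤ (S : Subgroup L)
  sd : Cfsg.IsQuasiDihedral (S : Subgroup L)
  h16 : 16 ∣ Nat.card (S : Subgroup L)
  zW : z ∈ W
  z1 : z ≠ 1
  zc : ∀ s ∈ (S : Subgroup L), s * z = z * s
  vW : v ∈ W
  v1 : v ≠ 1
  vz : v ≠ z

theorem Four.noTwo {W : Subgroup L} {c : L} (F : Four L W c) : ∀ N : Subgroup L, N.index ≠ 2 := by
  intro N hN
  haveI := F.simple
  rcases (normal_of_index_eq_two hN).eq_bot_or_eq_top with h | h
  · rw [h, index_bot] at hN
    have h16 := Nat.le_of_dvd Nat.card_pos F.big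
    omega
  · rw [h, index_top] at hN
    omega

variable {W : Subgroup L} {c : L} {S : Sylow 2 L} {z v : L} (D : SDCtx L W c S z v)

/-- The centraliser of `z`. -/
abbrev Cz (z : L) : Subgroup L := centralizer ({z} : Set L)

include D

theorem SDCtx.S_le : (S : Subgroup L) ≤ Cz z := fun s hs =>
  mem_centralizer_singleton_iff.2 (D.zc s hs)

theorem SDCtx.W_le : W ≤ Cz z := D.le.trans D.S_le

theorem SDCtx.centV {g : L} (hg : g ∈ Cz z) (h : g * v = v * g) : g ∈ W :=
  D.four.mem_of_comm D.zW D.vW D.z1 D.v1 D.vz.symm (mem_centralizer_singleton_iff.1 hg) h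

theorem SDCtx.inverts {o : ↥(Cz z)} (ho : o ∈ Cfsg.oddCore ↥(Cz z)) :
    v * (o : L) * v⁻¹ = (o : L)⁻¹ := by
  set O := (Cfsg.oddCore ↥(Cz z)).map (Cz z).subtype with hO
  haveI : (Cfsg.oddCore ↥(Cz z)).Normal := by unfold Cfsg.oddCore; infer_instance
  refine LargeExtra.Basic.inverts_of_fixedPointFree (D.four.sq v D.vW) O ?_ ?_ (o : L)
    (mem_map_of_mem _ ho)
  · rintro _ ⟨a, ha, rfl⟩
    exact ⟨⟨v, D.W_le D.vW⟩ * a * (⟨v, D.W_le D.vW⟩)⁻¹,
      (inferInstance : (Cfsg.oddCore ↥(Cz z)).Normal).conj_mem a ha _, rfl⟩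
  · rintro _ ⟨a, ha, rfl⟩ hfix
    have hW : (a : L) ∈ W := D.centV a.2 (mul_inv_eq_iff_eq_mul.1 hfix).symm
    have hodd := ZStar.Elements.oddCore_odd (G := ↥(Cz z))
    have h1 : orderOf (a : L) ∣ 2 := orderOf_dvd_of_pow_eq_one (by rw [pow_two]; exact D.four.sq _ hW)
    have h2 : orderOf (a : L) ∣ Nat.card (Cfsg.oddCore ↥(Cz z)) := by
      rw [Subgroup.orderOf_coe]; exact Subgroup.orderOf_dvd_natCard _ ha
    show (a : L) = 1
    rw [← orderOf_eq_one_iff]
    rcases (Nat.dvd_prime Nat.prime_two).1 h1 with e | e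
    · exact e
    · rw [e] at h2
      exact absurd h2 hodd.not_two_dvd_nat

theorem SDCtx.card_center : Nat.card (center (S : Subgroup L)) = 2 := by
  obtain ⟨n, hn, hc, h⟩ := D.sd
  exact (Cfsg.Agent.S1193.result (S := (S : Subgroup L)) ⟨n, hn, hc, h⟩ n hc).2.2.2.1

theorem SDCtx.center_cases {g : L} (hg : g ∈ (S : Subgroup L))
    (hc : ∀ s ∈ (S : Subgroup L), s * g = g * s) : g = 1 ∨ g = z := by
  have hm : ∀ {a : L} (ha : a ∈ (S : Subgroup L)), (∀ s ∈ (S : Subgroup L), s * a = a * s) →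
      (⟨a, ha⟩ : (S : Subgroup L)) ∈ center (S : Subgroup L) := fun ha h =>
    mem_center_iff.2 fun s => Subtype.ext (h s s.2)
  have hsub : ({1, ⟨z, D.le D.zW⟩} : Set (S : Subgroup L)) = (center (S : Subgroup L) : Set _) := by
    refine Set.eq_of_subset_of_ncard_le ?_ ?_ (Set.toFinite _)
    · rintro x (rfl | rfl)
      · exact one_mem _
      · exact hm _ D.zc
    · rw [Set.ncard_pair (fun e => D.z1 (congrArg Subtype.val e).symm), ← Nat.card_coe_set_eq,
        SetLike.coe_sort_coe, D.card_center]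
  have := hm hg hc
  rw [← SetLike.mem_coe, ← hsub] at this
  rcases this with h | h
  · exact Or.inl (congrArg Subtype.val h)
  · exact Or.inr (congrArg Subtype.val h)

/-- An element of `S` interchanging `v` and `zv`, with squares in `⟨z⟩`. -/
theorem SDCtx.exists_swap : ∃ s ∈ (S : Subgroup L), s * v * s⁻¹ = z * v := by
  set T := W.subgroupOf (S : Subgroup L)
  haveI : IsKleinFour T := ⟨by rw [Nat.card_congr (subgroupOfEquivOfLe D.le).toEquiv, D.four.card],
    by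
      haveI : Nontrivial T := Finite.one_lt_card_iff_nontrivial.1 (by
        rw [Nat.card_congr (subgroupOfEquivOfLe D.le).toEquiv, D.four.card]; norm_num)
      have hd : Monoid.exponent T ∣ 2 := Monoid.exponent_dvd_iff_forall_pow_eq_one.2 fun p =>
        Subtype.ext (Subtype.ext (by simpa [pow_two] using D.four.sq _ (mem_subgroupOf.1 p.2)))
      exact ((Nat.dvd_prime Nat.prime_two).1 hd).resolve_left fun e =>
        not_subsingleton T (Monoid.exp_eq_one_iff.1 e)⟩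
  obtain ⟨-, h2⟩ := Cfsg.Agent.S1190.result D.sd
  have hrel := (h2 T inferInstance).2
  obtain ⟨s, hsN, hsT⟩ : ∃ s ∈ normalizer (T : Set (S : Subgroup L)), s ∉ T := by
    by_contra! hall
    rw [relIndex_eq_one.2 hall] at hrel
    omega
  have hsW : ∀ w ∈ W, (s : L) * w * (s : L)⁻¹ ∈ W := fun w hw =>
    mem_subgroupOf.1 ((mem_normalizer_iff.1 hsN ⟨w, D.le hw⟩).1 (mem_subgroupOf.2 hw))
  refine ⟨s, s.2, ?_⟩
  have hne : (s : L) * v * (s : L)⁻¹ ≠ v := fun e => hsT (mem_subgroupOf.2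
    (D.centV (D.S_le s.2) (mul_inv_eq_iff_eq_mul.1 e)))
  rcases D.four.cases D.zW D.vW D.z1 D.v1 D.vz.symm (hsW v D.vW) with h | h | h | h
  · exact absurd (by simpa [mul_assoc] using congrArg (fun t => (s : L)⁻¹ * t * s) h) D.v1
  · refine absurd ?_ D.vz
    have hz : (s : L) * z * (s : L)⁻¹ = z := by rw [D.zc s s.2, mul_inv_cancel_right]
    have := congrArg (fun t => (s : L)⁻¹ * t * s) (h.trans hz.symm)
    simpa [mul_assoc] using this
  · exact absurd h hne
  · exact h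

theorem SDCtx.isConj (a b : L) (ha : orderOf a = 2) (hb : orderOf b = 2) : IsConj a b := by
  obtain ⟨m, σ, y, hsd⟩ := exists_coords D.sd
  exact (hsd.involution_conj D.four.noTwo ha).trans (hsd.involution_conj D.four.noTwo hb).symm

/-- A homomorphic image of the centraliser of `z` with trivial odd core. -/
structure Quot (L : Type u) [Group L] (z v : L) (B : Type u) [Group B] (π : ↥(Cz z) →* B) :
    Prop where
  surj : Function.Surjective π
  odd : Odd (Nat.card π.ker)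
  ker : π.ker = Cfsg.oddCore ↥(Cz z)

variable {B : Type u} [Group B] [Finite B] {π : ↥(Cz z) →* B} (Q : Quot L z v B π)

include Q

theorem SDCtx.pi_inj {a : ↥(Cz z)} (h : π a = 1) (h2 : ∃ k : ℕ, a ^ 2 ^ k = 1) : a = 1 := by
  obtain ⟨k, hk⟩ := h2
  have h1 : orderOf a ∣ 2 ^ k := orderOf_dvd_of_pow_eq_one hk
  have h3 : orderOf a ∣ Nat.card π.ker := Subgroup.orderOf_dvd_natCard _ (MonoidHom.mem_ker.2 h)
  rw [← orderOf_eq_one_iff]
  exact Nat.eq_one_of_dvd_coprimes ((Nat.coprime_two_left.2 Q.odd).pow_left k) h1 h3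

theorem SDCtx.pi_eq {a b : ↥(Cz z)} (h : π a = π b) (ha : (a : L) ∈ (S : Subgroup L))
    (hb : (b : L) ∈ (S : Subgroup L)) : a = b := by
  have h1 : π (a * b⁻¹) = 1 := by rw [map_mul, map_inv, h, mul_inv_cancel]
  obtain ⟨k, hk⟩ := S.2 ⟨_, mul_mem ha (inv_mem hb)⟩
  exact mul_inv_eq_one.1 (D.pi_inj Q h1 ⟨k, Subtype.ext (by simpa using congrArg Subtype.val hk)⟩)

/-- Centralisers in the quotient lift. -/
theorem SDCtx.cent_bar {g : ↥(Cz z)} (h : π g * π ⟨v, D.W_le D.vW⟩ = π ⟨v, D.W_le D.vW⟩ * π g) :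
    ∃ w : ↥(Cz z), (w : L) ∈ W ∧ π w = π g := by
  set V : ↥(Cz z) := ⟨v, D.W_le D.vW⟩ with hV
  set o := V⁻¹ * (g * V * g⁻¹) with ho
  have hoK : o ∈ π.ker := by
    rw [MonoidHom.mem_ker, ho, map_mul, map_mul, map_mul, map_inv, map_inv, h]; group
  obtain ⟨n, hn⟩ := Q.odd
  -- a square root of `o⁻¹`
  set r := (o⁻¹) ^ (n + 1) with hr
  have hrK : r ∈ π.ker := pow_mem (inv_mem hoK) _
  have hr2 : r * r = o⁻¹ := by
    have h1 : (o⁻¹) ^ (2 * n + 1) = 1 := by
      rw [← hn]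
      exact orderOf_dvd_iff_pow_eq_one.1 (Subgroup.orderOf_dvd_natCard _ (inv_mem hoK))
    rw [hr, ← pow_add, show n + 1 + (n + 1) = 2 * n + 1 + 1 by omega, pow_succ, h1, one_mul]
  refine ⟨r⁻¹ * g, ?_, by rw [map_mul, map_inv, MonoidHom.mem_ker.1 hrK, inv_one, one_mul]⟩
  have hinv : v * (r : L) * v⁻¹ = (r : L)⁻¹ := D.inverts (Q.ker ▸ hrK)
  have hV2 : v⁻¹ = v := D.four.inv D.vW
  have hg : (g : L) * v * (g : L)⁻¹ = v * (o : L) := by
    rw [ho]; simp [hV, mul_assoc]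
  refine D.centV (r⁻¹ * g).2 ?_
  have e : (r : L)⁻¹ * (g : L) * v * ((r : L)⁻¹ * (g : L))⁻¹ = v := by
    calc (r : L)⁻¹ * (g : L) * v * ((r : L)⁻¹ * (g : L))⁻¹
        = (r : L)⁻¹ * ((g : L) * v * (g : L)⁻¹) * r := by group
      _ = (r : L)⁻¹ * v * ((o : L) * r) := by rw [hg]; group
      _ = v * ((v⁻¹ * (r : L)⁻¹ * v) * ((o : L) * r)) := by group
      _ = v * ((r : L) * ((o : L) * r)) := by
          rw [show v⁻¹ * (r : L)⁻¹ * v = (v⁻¹ * (r : L) * v)⁻¹ by group,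
            show v⁻¹ * (r : L) * v = (r : L)⁻¹ by
              rw [hV2]; simpa [hV2] using hinv, inv_inv]
      _ = v := by
          have hcm : (o : L) * r = r * o := by
            have : Commute o r := ((Commute.refl o).inv_right).pow_right _
            exact congrArg Subtype.val this.eq
          rw [hcm, ← mul_assoc (r : L), ← Subgroup.coe_mul, hr2]
          simp
  exact mul_inv_eq_iff_eq_mul.1 e

end Cfsg.Agent.Lib.Suborbit46
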