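import Cfsg.Agent.Lib.Suborbit46.GL23
import Cfsg.Agent.Lib.Linear.FamilyHom
import Cfsg.Agent.Lib.Linear.SL2
import Cfsg.Agent.Lib.Linear.Simple
import Cfsg.Agent.Lib.Linear.Order
import Cfsg.Agent.Lib.PGroups.Omega
import Cfsg.Agent.S3277
import Cfsg.Agent.S3304
import Cfsg.Prelude.Def_CaseTheorems

/-!
# A group with derived group `SL(2,F)` and a non-central involution with centraliser of order four
-/

set_option autoImplicit false
set_option linter.unusedSectionVars false
set_option linter.style.haveILetI false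

namespace Cfsg.Agent.Lib.Suborbit46

open Subgroup
open scoped commutatorElement

universe u

variable {B : Type u} [Group B] [Finite B]

/-- The situation in `C(z)/O(C(z))`. -/
structure BarData (B : Type u) [Group B] (z v s : B) (S : Sylow 2 B) : Prop where
  zc : ∀ g : B, g * z = z * g
  zz : z * z = 1
  z1 : z ≠ 1
  vv : v * v = 1
  v1 : v ≠ 1
  vz : v ≠ z
  sv : s * v * s⁻¹ = z * v
  ss : s * s = 1 ∨ s * s = z
  centV : ∀ g : B, g * v = v * g → g = 1 ∨ g = z ∨ g = v ∨ g = z * v
  sS : s ∈ (S : Subgroup B)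
  vS : v ∈ (S : Subgroup B)
  core : Cfsg.oddCore B = ⊥
  h16 : 16 ∣ Nat.card B
  comm : ∃ (F : Type) (_ : Field F) (_ : Fintype F), Odd (Fintype.card F) ∧
    Nonempty (↥(commutator B) ≃* Matrix.SpecialLinearGroup (Fin 2) F)

variable {z v s : B} {S : Sylow 2 B} (D : BarData B z v s S)

include D

theorem BarData.zS : z ∈ (S : Subgroup B) := by
  have h : z = s * v * s⁻¹ * v := by rw [D.sv, mul_assoc, D.vv, mul_one]
  rw [h]
  exact mul_mem (mul_mem (mul_mem D.sS D.vS) (inv_mem D.sS)) D.vS

theorem BarData.zv_comm : z * v = v * z := (D.zc v).symm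

theorem BarData.s_ne : s * v ≠ v * s := fun e => D.z1 (by
  have h := D.sv
  rw [e, mul_inv_cancel_right] at h
  exact mul_right_cancel (h.symm.trans (one_mul v).symm))

/-- Elements fixing `v` modulo `⟨z⟩`. -/
theorem BarData.cent_mod {g : B} (h : g * v = v * g ∨ g * v * g⁻¹ = z * v) :
    (g = 1 ∨ g = z ∨ g = v ∨ g = z * v) ∨ (g = s ∨ g = s * z ∨ g = s * v ∨ g = s * (z * v)) := by
  rcases h with h | h
  · exact Or.inl (D.centV g h)
  · right
    have h' : s⁻¹ * g * v = v * (s⁻¹ * g) := by
      refine mul_inv_eq_iff_eq_mul.1 ?_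
      calc s⁻¹ * g * v * (s⁻¹ * g)⁻¹ = s⁻¹ * (g * v * g⁻¹) * s := by group
        _ = s⁻¹ * (s * v * s⁻¹) * s := by rw [h, D.sv]
        _ = v := by group
    rcases D.centV _ h' with e | e | e | e <;>
      rw [inv_mul_eq_iff_eq_mul] at e <;> simp_all

theorem BarData.sq_swap {g : B} (h : g * v * g⁻¹ = z * v) : g * g = 1 ∨ g * g = z := by
  have hne : g * v ≠ v * g := fun e => D.z1 (by
    rw [e, mul_inv_cancel_right] at h
    exact mul_right_cancel (h.symm.trans (one_mul v).symm))
  have hc : g * g * v = v * (g * g) := by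
    refine mul_inv_eq_iff_eq_mul.1 ?_
    calc g * g * v * (g * g)⁻¹ = g * (g * v * g⁻¹) * g⁻¹ := by group
      _ = g * z * (v * g⁻¹) := by rw [h]; group
      _ = z * (g * v * g⁻¹) := by rw [D.zc g]; group
      _ = v := by rw [h, ← mul_assoc, D.zz, one_mul]
  rcases D.centV _ hc with e | e | e | e
  · exact Or.inl e
  · exact Or.inr e
  · exact absurd (show g * (g * g) = g * g * g by group) (by rw [e]; exact hne)
  · exfalso
    have h2 : g * (g * g) = g * g * g := by group
    rw [e] at h2
    refine hne (mul_left_cancel (a := z) ?_)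
    rw [← mul_assoc, ← D.zc g, mul_assoc, h2, mul_assoc]

theorem BarData.z_center {g : B} (hg : g ∈ (S : Subgroup B))
    (hc : ∀ x ∈ (S : Subgroup B), x * g = g * x) : g = 1 ∨ g = z := by
  rcases D.centV g (hc v D.vS).symm with e | e | e | e
  · exact Or.inl e
  · exact Or.inr e
  · exact absurd (e ▸ hc s D.sS) D.s_ne
  · exfalso
    have h := e ▸ hc s D.sS
    refine D.s_ne (mul_left_cancel (a := z) ?_)
    rw [← mul_assoc, ← D.zc s, mul_assoc, h, mul_assoc]

theorem BarData.z_mem_normal {N : Subgroup B} (hN : N.Normal) (h : (S : Subgroup B) ⊓ N ≠ ⊥) :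
    z ∈ N := by
  haveI : Fact (Nat.Prime 2) := ⟨Nat.prime_two⟩
  haveI := hN
  have hne : N.subgroupOf (S : Subgroup B) ≠ ⊥ := by
    intro e
    rw [subgroupOf_eq_bot, disjoint_iff, inf_comm] at e
    exact h e
  obtain ⟨⟨x, hxS⟩, hx, hx1⟩ := (bot_or_exists_ne_one _).resolve_left
    (PGroups.normal_inf_center_ne_bot S.2 (N.subgroupOf (S : Subgroup B)) hne)
  have hxN : x ∈ N := mem_subgroupOf.1 (mem_inf.1 hx).1
  rcases D.z_center hxS fun y hy =>
    congrArg Subtype.val (mem_center_iff.1 (mem_inf.1 hx).2 ⟨y, hy⟩) with e | e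
  · exact absurd (Subtype.ext e) hx1
  · exact e ▸ hxN

variable {F : Type} [Field F] [Fintype F] (hF : Odd (Fintype.card F))
  (e : ↥(commutator B) ≃* Matrix.SpecialLinearGroup (Fin 2) F)

include hF e

theorem BarData.card_comm :
    Nat.card (commutator B) = Fintype.card F * (Fintype.card F - 1) * (Fintype.card F + 1) := by
  rw [Nat.card_congr e.toEquiv, Linear.card_SL_two]

theorem BarData.eight_dvd : 8 ∣ Nat.card (commutator B) := by
  rw [D.card_comm hF e]
  obtain ⟨k, hk⟩ := hF
  rw [hk, show 2 * k + 1 - 1 = 2 * k by omega, show 2 * k + 1 + 1 = 2 * (k + 1) by ring]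
  obtain ⟨j, hj⟩ := even_iff_two_dvd.1 (Nat.even_mul_succ_self k)
  exact ⟨(2 * k + 1) * j, by linear_combination (4 * (2 * k + 1)) * hj⟩

/-- The derived group meets the Sylow subgroup in a subgroup of order divisible by eight. -/
theorem BarData.eight_dvd_inf : 8 ∣ Nat.card ↥(commutator B ⊓ (S : Subgroup B)) := by
  haveI : Fact (Nat.Prime 2) := ⟨Nat.prime_two⟩
  set M := commutator B
  have hN : M.Normal := inferInstanceAs (commutator B).Normal
  have h1 : M.relIndex ((S : Subgroup B) ⊔ M) = M.relIndex S := relIndex_sup_right _ _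
  have h2 := card_mul_index (M.subgroupOf (S : Subgroup B))
  have h3 := card_mul_index (M.subgroupOf ((S : Subgroup B) ⊔ M))
  rw [← inf_subgroupOf_right, Nat.card_congr (subgroupOfEquivOfLe inf_le_right).toEquiv,
    inf_subgroupOf_right] at h2
  rw [Nat.card_congr (subgroupOfEquivOfLe (le_sup_right (a := (S : Subgroup B)))).toEquiv] at h3
  change _ * M.relIndex _ = _ at h2
  change _ * M.relIndex _ = _ at h3
  rw [h1] at h3
  have h4 : Nat.card M * Nat.card (S : Subgroup B) ∣ Nat.card B * Nat.card ↥(M ⊓ (S : Subgroup B)) := by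
    refine Dvd.dvd.trans ⟨1, ?_⟩ (mul_dvd_mul_right
      (card_subgroup_dvd_card ((S : Subgroup B) ⊔ M)) _)
    rw [mul_one, ← h3, ← h2]; ring
  have h5 : Nat.card M * Nat.card (S : Subgroup B) ∣
      Nat.card (S : Subgroup B) * ((S : Subgroup B).index * Nat.card ↥(M ⊓ (S : Subgroup B))) := by
    rw [← mul_assoc, card_mul_index]; exact h4
  rw [mul_comm (Nat.card (S : Subgroup B))] at h5
  have h6 := Nat.dvd_of_mul_dvd_mul_right Nat.card_pos h5
  refine Nat.Coprime.dvd_of_dvd_mul_left ?_ ((D.eight_dvd hF e).trans h6)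
  rw [show (8 : ℕ) = 2 ^ 3 by norm_num]
  exact (Nat.prime_two.coprime_iff_not_dvd.2 S.not_dvd_index).pow_left 3

theorem BarData.z_mem : z ∈ commutator B := by
  refine D.z_mem_normal inferInstance fun h => ?_
  have := D.eight_dvd_inf hF e
  rw [inf_comm] at h
  rw [h, card_bot] at this
  norm_num at this

theorem BarData.sq_one_mem {g : B} (hg : g ∈ commutator B) (h : g * g = 1) : g = 1 ∨ g = z := by
  have h2 := Linear.two_ne_zero_of_odd_card hF
  by_contra! hne
  have a1 : e ⟨g, hg⟩ ≠ 1 := fun h1 => hne.1 (congrArg Subtype.val (e.map_eq_one_iff.1 h1))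
  have a2 : e ⟨g, hg⟩ * e ⟨g, hg⟩ = 1 := by rw [← map_mul]; exact e.map_eq_one_iff.2 (Subtype.ext h)
  have b1 : e ⟨z, D.z_mem hF e⟩ ≠ 1 := fun h1 =>
    D.z1 (congrArg Subtype.val (e.map_eq_one_iff.1 h1))
  have b2 : e ⟨z, D.z_mem hF e⟩ * e ⟨z, D.z_mem hF e⟩ = 1 := by
    rw [← map_mul]; exact e.map_eq_one_iff.2 (Subtype.ext D.zz)
  exact hne.2 (congrArg Subtype.val (e.injective (Subtype.ext
    ((Linear.eq_neg_one_of_mul_self h2 a1 a2).trans (Linear.eq_neg_one_of_mul_self h2 b1 b2).symm))))

theorem BarData.v_notMem : v ∉ commutator B := fun h => by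
  rcases D.sq_one_mem hF e h D.vv with e' | e'
  · exact D.v1 e'
  · exact D.vz e'

/-- For `|F| > 3` a normal subgroup of small order meets the derived group in `⟨z⟩`. -/
theorem BarData.small_inf (h5 : 5 ≤ Fintype.card F) {E : Subgroup B} (hE : E.Normal)
    (hc : Nat.card E ≤ 8) {g : B} (hg : g ∈ E) (hgM : g ∈ commutator B) : g = 1 ∨ g = z := by
  haveI := Linear.isSimpleGroup_PSL (F := F) (n := 2) le_rfl
    (fun _ => by rw [Nat.card_eq_fintype_card]; omega)
  set N := (E.subgroupOf (commutator B)).map e.toMonoidHom with hN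
  haveI : (E.subgroupOf (commutator B)).Normal := hE.comap _
  haveI : N.Normal := by rw [hN]; exact Normal.map inferInstance _ e.surjective
  set f := QuotientGroup.mk' (center (Matrix.SpecialLinearGroup (Fin 2) F)) with hf
  have hgN : e ⟨g, hgM⟩ ∈ N := mem_map_of_mem _ (mem_subgroupOf.2 hg)
  rcases (Normal.map ‹N.Normal› f
    (QuotientGroup.mk'_surjective _)).eq_bot_or_eq_top with h | h
  · have hz : e ⟨g, hgM⟩ ∈ center (Matrix.SpecialLinearGroup (Fin 2) F) := by
      rw [Subgroup.map_eq_bot_iff, hf, QuotientGroup.ker_mk'] at h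
      exact h hgN
    have hcard : Nat.card (center (Matrix.SpecialLinearGroup (Fin 2) F)) = 2 := by
      rw [Linear.card_center_SL, Fintype.card_fin, Nat.card_eq_fintype_card]
      obtain ⟨k, hk⟩ := hF
      rw [hk]; simp
    have hsq : e ⟨g, hgM⟩ * e ⟨g, hgM⟩ = 1 := by
      have h' := congrArg Subtype.val (pow_card_eq_one'
        (x := (⟨_, hz⟩ : center (Matrix.SpecialLinearGroup (Fin 2) F))))
      rw [hcard, pow_two] at h'
      exact h'
    refine D.sq_one_mem hF e hgM ?_
    rw [← map_mul] at hsq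
    exact congrArg Subtype.val (e.map_eq_one_iff.1 hsq)
  · exfalso
    have h1 : Nat.card (Matrix.ProjectiveSpecialLinearGroup (Fin 2) F) ≤ 8 := by
      refine le_trans ?_ hc
      have hd : Nat.card (Matrix.ProjectiveSpecialLinearGroup (Fin 2) F) ∣ Nat.card E := by
        have h0 : Nat.card ↥(N.map f) = Nat.card (Matrix.ProjectiveSpecialLinearGroup (Fin 2) F) := by
          rw [h]; exact card_top
        rw [← h0]
        refine (card_map_dvd N f).trans ((card_map_dvd _ _).trans ?_)
        rw [← inf_subgroupOf_right, Nat.card_congr (subgroupOfEquivOfLe inf_le_right).toEquiv]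
        exact card_dvd_of_le inf_le_left
      exact Nat.le_of_dvd Nat.card_pos hd
    have h2 := Linear.two_mul_card_PSL_two_of_odd hF (F := F)
    have h3 : 5 * 4 * 6 ≤ Fintype.card F * (Fintype.card F - 1) * (Fintype.card F + 1) :=
      Nat.mul_le_mul (Nat.mul_le_mul h5 (by omega)) (by omega)
    omega

/-- For `|F| > 3` a normal subgroup of small order centralises the derived group. -/
theorem BarData.small_comm (h5 : 5 ≤ Fintype.card F) {E : Subgroup B} (hE : E.Normal)
    (hc : Nat.card E ≤ 8) {g : B} (hg : g ∈ E) {m : B} (hm : m ∈ commutator B) :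
    g * m = m * g := by
  haveI := hE
  -- `x ↦ [g,x]` is a homomorphism into `⟨z⟩` on the derived group
  have hval : ∀ x ∈ commutator B, ⁅g, x⁆ ∈ zpowers z := fun x hx => by
    have h1 : ⁅g, x⁆ ∈ E := by
      rw [commutatorElement_def, mul_assoc, mul_assoc]
      refine mul_mem hg ?_
      rw [← mul_assoc]
      exact hE.conj_mem _ (inv_mem hg) x
    have h2 : ⁅g, x⁆ ∈ commutator B := commutator_mem_commutator (mem_top g) (mem_top x)
    rcases D.small_inf hF e h5 hE hc h1 h2 with h | h
    · rw [h]; exact one_mem _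
    · rw [h]; exact mem_zpowers z
  let χ : Matrix.SpecialLinearGroup (Fin 2) F →* ↥(zpowers z) :=
    { toFun := fun x => ⟨⁅g, ((e.symm x : ↥(commutator B)) : B)⁆, hval _ (e.symm x).2⟩
      map_one' := Subtype.ext (by simp)
      map_mul' := fun x y => Subtype.ext (by
        obtain ⟨i, hi⟩ := hval _ (e.symm y).2
        simp only [map_mul, Subgroup.coe_mul]
        have hcz : Commute ((e.symm x : ↥(commutator B)) : B) (z ^ i) :=
          Commute.zpow_right (D.zc _) i
        rw [← hi]
        calc ⁅g, ((e.symm x : ↥(commutator B)) : B) * (e.symm y : ↥(commutator B))⁆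
            = ⁅g, ((e.symm x : ↥(commutator B)) : B)⁆ * (((e.symm x : ↥(commutator B)) : B) *
              ⁅g, ((e.symm y : ↥(commutator B)) : B)⁆ * ((e.symm x : ↥(commutator B)) : B)⁻¹) := by
              simp only [commutatorElement_def]; group
          _ = _ := by rw [← hi, hcz.eq, mul_inv_cancel_right]) }
  have hker : ∀ x, χ x = 1 := fun x => by
    have hx : x ∈ commutator (Matrix.SpecialLinearGroup (Fin 2) F) := by
      rw [Linear.commutator_SL_eq_top le_rfl (fun _ => by rw [Nat.card_eq_fintype_card]; omega)]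
      exact mem_top x
    refine (?_ : commutator _ ≤ χ.ker) hx
    rw [commutator_def, commutator_le]
    intro a _ b _
    rw [MonoidHom.mem_ker, map_commutatorElement, commutatorElement_eq_one_iff_mul_comm]
    refine Subtype.ext ?_
    obtain ⟨i, hi⟩ := (χ a).2
    obtain ⟨j, hj⟩ := (χ b).2
    simp only [Subgroup.coe_mul, ← hi, ← hj]
    exact ((Commute.refl z).zpow_zpow i j).eq
  have := congrArg Subtype.val (hker (e ⟨m, hm⟩))
  simp only [χ, MonoidHom.coe_mk, OneHom.coe_mk, MulEquiv.symm_apply_apply, OneMemClass.coe_one] at this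
  exact commutatorElement_eq_one_iff_mul_comm.1 this

end Cfsg.Agent.Lib.Suborbit46
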