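import Cfsg.Agent.Lib.Suborbit46.Bar2
import Cfsg.Agent.Lib.Spectrum.SL25Recognition

/-!
# The quotient is `GL(2,3)`: the field has three elements, the order is 48
-/

set_option autoImplicit false
set_option linter.unusedSectionVars false
set_option linter.style.haveILetI false

namespace Cfsg.Agent.Lib.Suborbit46

open Subgroup
open scoped commutatorElement

universe u

variable {B : Type u} [Group B] [Finite B] {z v s : B} {S : Sylow 2 B} (D : BarData B z v s S)

include D

theorem BarData.mem_zpow {g : B} : g ∈ zpowers z ↔ g = 1 ∨ g = z := by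
  constructor
  · rintro ⟨i, rfl⟩
    show z ^ i = 1 ∨ z ^ i = z
    rcases Int.even_or_odd i with ⟨j, rfl⟩ | ⟨j, rfl⟩
    · left; rw [← two_mul, zpow_mul, zpow_two, D.zz, one_zpow]
    · right; rw [zpow_add_one, zpow_mul, zpow_two, D.zz, one_zpow, one_mul]
  · rintro (rfl | rfl)
    · exact one_mem _
    · exact mem_zpowers _

theorem BarData.zpow_normal : (zpowers z).Normal := by
  refine ⟨fun a ha g => ?_⟩
  have : g * a * g⁻¹ = a := by
    obtain ⟨i, rfl⟩ := ha
    exact mul_inv_eq_iff_eq_mul.2 ((show Commute g z from D.zc g).zpow_right i).eq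
  rwa [this]

theorem BarData.fix_mod {N : Subgroup B} (hN : N.Normal) {y : B} (hyN : y ∈ N)
    (hyS : y ∈ (S : Subgroup B)) (hy1 : y ≠ 1) (hyz : y ≠ z) :
    ∃ g ∈ N, g ≠ 1 ∧ g ≠ z ∧ (g * v = v * g ∨ g * v * g⁻¹ = z * v) := by
  haveI : Fact (Nat.Prime 2) := ⟨Nat.prime_two⟩
  haveI := D.zpow_normal
  set p := QuotientGroup.mk' (zpowers z) with hp
  have hps : Function.Surjective p := QuotientGroup.mk'_surjective _
  set S' := S.mapSurjective hps with hS'
  have hmem : ∀ a ∈ (S : Subgroup B), p a ∈ (S' : Subgroup _) := fun a ha => by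
    rw [hS', Sylow.coe_mapSurjective]; exact mem_map_of_mem _ ha
  haveI : (N.map p).Normal := Normal.map hN _ hps
  have hne : (N.map p).subgroupOf (S' : Subgroup _) ≠ ⊥ := fun h => by
    have hm : (⟨p y, hmem y hyS⟩ : (S' : Subgroup _)) ∈ (N.map p).subgroupOf (S' : Subgroup _) :=
      mem_subgroupOf.2 (mem_map_of_mem _ hyN)
    rw [h, mem_bot] at hm
    have hy : y ∈ zpowers z := (QuotientGroup.eq_one_iff y).1 (congrArg Subtype.val hm)
    rcases D.mem_zpow.1 hy with e | e
    · exact hy1 e
    · exact hyz e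
  obtain ⟨⟨x, hxS⟩, hx, hx1⟩ := (bot_or_exists_ne_one _).resolve_left
    (PGroups.normal_inf_center_ne_bot S'.2 _ hne)
  obtain ⟨g, hgN, rfl⟩ := mem_subgroupOf.1 (mem_inf.1 hx).1
  have hg : g ∉ zpowers z := fun h => hx1 (Subtype.ext ((QuotientGroup.eq_one_iff g).2 h))
  have hg' : g ≠ 1 ∧ g ≠ z := ⟨fun e => hg (D.mem_zpow.2 (Or.inl e)),
    fun e => hg (D.mem_zpow.2 (Or.inr e))⟩
  refine ⟨g, hgN, hg'.1, hg'.2, ?_⟩
  have hc : p v * p g = p g * p v :=
    congrArg Subtype.val (mem_center_iff.1 (mem_inf.1 hx).2 ⟨p v, hmem v D.vS⟩)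
  have hcm : g * v * g⁻¹ * v⁻¹ ∈ zpowers z := by
    refine (QuotientGroup.eq_one_iff _).1 ?_
    show p (g * v * g⁻¹ * v⁻¹) = 1
    rw [map_mul, map_mul, map_mul, ← hc, map_inv, map_inv]; group
  rcases D.mem_zpow.1 hcm with e | e
  · exact Or.inl (mul_inv_eq_iff_eq_mul.1 (mul_inv_eq_one.1 e))
  · exact Or.inr (mul_inv_eq_iff_eq_mul.1 e)

variable {F : Type} [Field F] [Fintype F] (hF : Odd (Fintype.card F))
  (e : ↥(commutator B) ≃* Matrix.SpecialLinearGroup (Fin 2) F)

include hF e

theorem BarData.zv_notMem : z * v ∉ commutator B := fun h =>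
  D.v_notMem hF e (by simpa [← mul_assoc, D.zz] using mul_mem (D.z_mem hF e) h)

/-- An element of the derived group interchanging `v` and `zv`. -/
theorem BarData.exists_t : ∃ t ∈ commutator B, t * v * t⁻¹ = z * v := by
  obtain ⟨y, hy, hy1, hyz⟩ : ∃ y ∈ commutator B ⊓ (S : Subgroup B), y ≠ 1 ∧ y ≠ z := by
    by_contra! h
    have hsub : ((commutator B ⊓ (S : Subgroup B) : Subgroup B) : Set B) ⊆ {1, z} := fun x hx => by
      by_cases h1 : x = 1
      · simp [h1]
      · simp [h x hx h1]
    have h2 := Set.ncard_le_ncard hsub (Set.toFinite _)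
    rw [Set.ncard_pair D.z1.symm, ← Nat.card_coe_set_eq, SetLike.coe_sort_coe] at h2
    have h8 := Nat.le_of_dvd Nat.card_pos (D.eight_dvd_inf hF e)
    omega
  obtain ⟨t, htM, ht1, htz, hfix | hswap⟩ :=
    D.fix_mod inferInstance (mem_inf.1 hy).1 (mem_inf.1 hy).2 hy1 hyz
  · rcases D.centV t hfix with r | r | r | r
    · exact absurd r ht1
    · exact absurd r htz
    · exact absurd (r ▸ htM) (D.v_notMem hF e)
    · exact absurd (r ▸ htM) (D.zv_notMem hF e)
  · exact ⟨t, htM, hswap⟩

theorem BarData.card_field : Fintype.card F = 3 := by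
  haveI : Fact (Nat.Prime 2) := ⟨Nat.prime_two⟩
  by_contra hne3
  have h5 : 5 ≤ Fintype.card F := by
    have h2 : 2 ≤ Fintype.card F := Fintype.one_lt_card
    obtain ⟨k, hk⟩ := hF
    omega
  haveI := D.zpow_normal
  set p := QuotientGroup.mk' (zpowers z) with hp
  have hps : Function.Surjective p := QuotientGroup.mk'_surjective _
  have hone : ∀ a : B, p a = 1 ↔ a = 1 ∨ a = z := fun a =>
    (QuotientGroup.eq_one_iff a).trans D.mem_zpow
  -- conjugates of `v` read from the quotient
  have hcl : ∀ a b : B, p a = p b → a * v * a⁻¹ = b * v * b⁻¹ := by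
    intro a b h
    have hba : p (b⁻¹ * a) = 1 := by rw [map_mul, map_inv, h, inv_mul_cancel]
    have hc : b⁻¹ * a * v * (b⁻¹ * a)⁻¹ = v := by
      refine mul_inv_eq_iff_eq_mul.2 ?_
      rcases (hone _).1 hba with r | r <;> rw [r]
      · simp
      · exact (D.zc v).symm
    calc a * v * a⁻¹ = b * (b⁻¹ * a * v * (b⁻¹ * a)⁻¹) * b⁻¹ := by group
      _ = b * v * b⁻¹ := by rw [hc]
  have hcent : ∀ a : B, p a * p v = p v * p a ↔ (a * v = v * a ∨ a * v * a⁻¹ = z * v) := by
    intro a
    constructor
    · intro h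
      have : p (a * v * a⁻¹ * v⁻¹) = 1 := by
        rw [map_mul, map_mul, map_mul, h, map_inv, map_inv]; group
      rcases (hone _).1 this with r | r
      · exact Or.inl (mul_inv_eq_iff_eq_mul.1 (mul_inv_eq_one.1 r))
      · exact Or.inr (mul_inv_eq_iff_eq_mul.1 r)
    · rintro (h | h)
      · rw [← map_mul, h, map_mul]
      · have := congrArg p h
        rw [map_mul, map_mul, map_mul, (hone z).2 (Or.inr rfl), one_mul, map_inv] at this
        exact mul_inv_eq_iff_eq_mul.1 this
  have hpv : p v ≠ 1 := fun h => by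
    rcases (hone v).1 h with r | r
    · exact D.v1 r
    · exact D.vz r
  have hx : orderOf (p v) = 2 :=
    orderOf_eq_prime (by rw [pow_two, ← map_mul, D.vv, map_one]) hpv
  -- the centraliser of the image of `v`
  have hset : (centralizer ({p v} : Set (B ⧸ zpowers z)) : Set (B ⧸ zpowers z)) =
      {1, p v, p s, p (s * v)} := by
    have hzp : ∀ a, p (z * a) = p a := fun a => by
      rw [map_mul, (hone z).2 (Or.inr rfl), one_mul]
    ext x
    obtain ⟨a, rfl⟩ := hps x
    rw [SetLike.mem_coe, mem_centralizer_singleton_iff, hcent]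
    constructor
    · intro h
      rcases D.cent_mod h with (r | r | r | r) | (r | r | r | r) <;> rw [r]
      · simp
      · simp [(hone z).2 (Or.inr rfl)]
      · simp
      · simp [hzp]
      · simp
      · simp [(hone z).2 (Or.inr rfl)]
      · simp
      · rw [map_mul p s (z * v), hzp, ← map_mul]; simp
    · intro h
      rw [← hcent]
      have hs : p s * p v = p v * p s := (hcent s).2 (Or.inr D.sv)
      simp only [Set.mem_insert_iff, Set.mem_singleton_iff] at h
      rcases h with r | r | r | r <;> rw [r]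
      · simp
      · exact hs
      · rw [map_mul, ← mul_assoc (p v), ← hs]
  have hC4 : Nat.card ↥(centralizer ({p v} : Set (B ⧸ zpowers z))) = 4 := by
    rw [← SetLike.coe_sort_coe, Nat.card_coe_set_eq, hset]
    have hfs : ∀ {a b : B}, a * v * a⁻¹ = v → b * v * b⁻¹ = z * v → p a ≠ p b := by
      intro a b ha hb h
      have := hcl a b h
      rw [ha, hb] at this
      exact D.z1 (mul_right_cancel (this.symm.trans (one_mul v).symm))
    have hsv' : s * v * v * (s * v)⁻¹ = z * v := by rw [← D.sv]; group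
    have d1 : p 1 ≠ p v := by rw [map_one]; exact hpv.symm
    have d2 : p 1 ≠ p s := hfs (by group) D.sv
    have d3 : p 1 ≠ p (s * v) := hfs (by group) hsv'
    have d4 : p v ≠ p s := hfs (by group) D.sv
    have d5 : p v ≠ p (s * v) := hfs (by group) hsv'
    have d6 : p s ≠ p (s * v) := fun h => hpv (by
      rw [map_mul] at h
      exact left_eq_mul.1 h)
    rw [map_one] at d1 d2 d3
    rw [Set.ncard_insert_of_notMem, Set.ncard_insert_of_notMem, Set.ncard_pair d6]
    · simp only [Set.mem_insert_iff, Set.mem_singleton_iff, not_or]; exact ⟨d4, d5⟩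
    · simp only [Set.mem_insert_iff, Set.mem_singleton_iff, not_or]; exact ⟨d1, d2, d3⟩
  have hCe : ∀ x ∈ centralizer ({p v} : Set (B ⧸ zpowers z)), x ^ 2 = 1 := by
    intro x hx'
    obtain ⟨a, rfl⟩ := hps x
    rw [mem_centralizer_singleton_iff, hcent] at hx'
    rw [pow_two, ← map_mul, hone]
    rcases hx' with h | h
    · rcases D.centV a h with r | r | r | r <;> rw [r]
      · simp
      · exact Or.inl D.zz
      · exact Or.inl D.vv
      · left
        rw [mul_assoc, ← mul_assoc v, ← D.zv_comm, mul_assoc z v v, D.vv, mul_one, D.zz]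
    · exact D.sq_swap h
  have hperf : commutator (Matrix.SpecialLinearGroup (Fin 2) F) = ⊤ :=
    Linear.commutator_SL_eq_top le_rfl (fun _ => by rw [Nat.card_eq_fintype_card]; omega)
  have hnc : ¬ Cfsg.HasNormalPComplement 2 (B ⧸ zpowers z) := by
    rintro ⟨P, N, hN, hc⟩
    haveI := hN
    have hodd : ¬ 2 ∣ Nat.card N := by
      rw [← hc.index_eq_card]; exact P.not_dvd_index
    haveI hq : IsPGroup 2 ((B ⧸ zpowers z) ⧸ N) := by
      obtain ⟨n, hn⟩ := P.2.exists_card_eq
      exact IsPGroup.of_card (n := n) (by rw [← hn, ← index_eq_card, hc.symm.index_eq_card])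
    haveI : Group.IsNilpotent ((B ⧸ zpowers z) ⧸ N) := hq.isNilpotent
    haveI : Group.IsSolvable ((B ⧸ zpowers z) ⧸ N) := inferInstance
    obtain ⟨n, hn⟩ := (Group.isSolvable_def _).1 ‹Group.IsSolvable ((B ⧸ zpowers z) ⧸ N)›
    let f : Matrix.SpecialLinearGroup (Fin 2) F →* (B ⧸ zpowers z) ⧸ N :=
      (QuotientGroup.mk' N).comp (p.comp ((commutator B).subtype.comp e.symm.toMonoidHom))
    have htop : ∀ m, derivedSeries (Matrix.SpecialLinearGroup (Fin 2) F) m = ⊤ := by
      intro m
      induction m with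
      | zero => rfl
      | succ m ih => rw [derivedSeries_succ, ih]; exact hperf
    have hM : ∀ m ∈ commutator B, p m ∈ N := fun m hm => by
      have h1 := map_derivedSeries_le_derivedSeries f n (mem_map_of_mem f
        (show e ⟨m, hm⟩ ∈ derivedSeries _ n by rw [htop n]; exact mem_top _))
      rw [hn, mem_bot] at h1
      simp only [f, MonoidHom.comp_apply, MulEquiv.coe_toMonoidHom, MulEquiv.symm_apply_apply,
        coe_subtype] at h1
      exact (QuotientGroup.eq_one_iff _).1 h1
    have h1 : Nat.card ↥((commutator B).map p) ∣ Nat.card N :=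
      card_dvd_of_le (map_le_iff_le_comap.2 hM)
    have h2 := card_mul_index ((zpowers z).subgroupOf (commutator B))
    rw [Nat.card_congr (subgroupOfEquivOfLe (zpowers_le.2 (D.z_mem hF e))).toEquiv, Nat.card_zpowers,
      orderOf_eq_prime (by rw [pow_two, D.zz]) D.z1] at h2
    have h3 : Nat.card ↥((commutator B).map p) = ((zpowers z).subgroupOf (commutator B)).index := by
      rw [show (commutator B).map p = (p.comp (commutator B).subtype).range by
        rw [MonoidHom.range_comp, range_subtype]]
      rw [← index_ker]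
      congr 1
      ext a
      simp [mem_subgroupOf, hp]
    obtain ⟨j, hj⟩ := D.eight_dvd hF e
    rw [h3] at h1
    exact hodd ((show 2 ∣ ((zpowers z).subgroupOf (commutator B)).index from ⟨2 * j, by omega⟩).trans h1)
  have hne : ∀ E : Subgroup (B ⧸ zpowers z), E.Normal → Cfsg.IsElementaryAbelian 2 E →
      Nat.card ↥E ≠ 2 ∧ Nat.card ↥E ≠ 4 := by
    intro E hE _
    by_contra hcon
    have hc : Nat.card E = 2 ∨ Nat.card E = 4 := by tauto
    set E' := E.comap p with hE'
    haveI hE'n : E'.Normal := hE.comap p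
    have hcard : Nat.card E' = 2 * Nat.card E := by
      have hz2 : Nat.card (zpowers z) = 2 := by
        rw [Nat.card_zpowers, orderOf_eq_prime (by rw [pow_two, D.zz]) D.z1]
      have h1 : E'.index = E.index := index_comap_of_surjective _ hps
      have h2 := card_mul_index E'
      have h3 := card_mul_index E
      rw [h1, card_eq_card_quotient_mul_card_subgroup (zpowers z), ← h3, hz2] at h2
      refine Nat.eq_of_mul_eq_mul_right (Nat.pos_of_ne_zero FiniteIndex.index_ne_zero) (h2.trans ?_)
      ring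
    have hE2 : IsPGroup 2 E' := by
      rcases hc with r | r
      · exact IsPGroup.of_card (n := 2) (by rw [hcard, r]; norm_num)
      · exact IsPGroup.of_card (n := 3) (by rw [hcard, r]; norm_num)
    have hle : E' ≤ (S : Subgroup B) :=
      le_sup_right.trans_eq (S.is_maximal' (S.2.to_sup_of_normal_right hE2) le_sup_left)
    obtain ⟨y, hy, hy1, hyz⟩ : ∃ y ∈ E', y ≠ 1 ∧ y ≠ z := by
      by_contra! h
      have hsub : (E' : Set B) ⊆ {1, z} := fun x hx => by
        by_cases h1 : x = 1
        · simp [h1]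
        · simp [h x hx h1]
      have h2 := Set.ncard_le_ncard hsub (Set.toFinite _)
      rw [Set.ncard_pair D.z1.symm, ← Nat.card_coe_set_eq, SetLike.coe_sort_coe, hcard] at h2
      omega
    obtain ⟨g, hgE, hg1, hgz, hg⟩ := D.fix_mod hE'n hy (hle hy) hy1 hyz
    obtain ⟨t, htM, ht⟩ := D.exists_t hF e
    have hgt : g * t = t * g := D.small_comm hF e h5 hE'n (by omega) hgE htM
    have htv : t * v ≠ v * t := fun r => D.z1 (by
      rw [r, mul_inv_cancel_right] at ht
      exact mul_right_cancel (ht.symm.trans (one_mul v).symm))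
    rcases hg with h | h
    · rcases D.centV g h with r | r | r | r
      · exact hg1 r
      · exact hgz r
      · exact htv (r ▸ hgt).symm
      · rw [r] at hgt
        refine htv (mul_left_cancel (a := z) ?_)
        rw [← mul_assoc, ← D.zc t, mul_assoc, ← hgt, mul_assoc]
    · have hfix : g * t * v = v * (g * t) := by
        refine mul_inv_eq_iff_eq_mul.1 ?_
        calc g * t * v * (g * t)⁻¹ = g * (t * v * t⁻¹) * g⁻¹ := by group
          _ = g * z * (v * g⁻¹) := by rw [ht]; group
          _ = z * (g * v * g⁻¹) := by rw [D.zc g]; group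
          _ = v := by rw [h, ← mul_assoc, D.zz, one_mul]
      have hin : g * t ∈ commutator B → False := fun hm => by
        have hgM : g ∈ commutator B := by simpa using mul_mem hm (inv_mem htM)
        rcases D.small_inf hF e h5 hE'n (by omega) hgE hgM with r | r
        · exact hg1 r
        · exact hgz r
      have hcm : g * t * t = t * (g * t) := by rw [← mul_assoc t, ← hgt]
      rcases D.centV _ hfix with r | r | r | r
      · exact hin (r ▸ one_mem _)
      · exact hin (r ▸ D.z_mem hF e)
      · rw [r] at hcm; exact htv hcm.symm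
      · rw [r] at hcm
        refine htv (mul_left_cancel (a := z) ?_)
        rw [← mul_assoc, ← D.zc t, mul_assoc, ← hcm, mul_assoc]
  obtain ⟨ψ⟩ := Cfsg.Agent.S3277.result (p v) hx hC4 hCe hnc hne
  haveI : IsSimpleGroup (alternatingGroup (Fin 5)) := alternatingGroup.isSimpleGroup (by simp)
  haveI : Nontrivial (B ⧸ zpowers z) := ψ.toEquiv.nontrivial
  haveI : IsSimpleGroup (B ⧸ zpowers z) := ψ.isSimpleGroup
  haveI : ((commutator B).map p).Normal := Normal.map inferInstance _ hps
  rcases ‹((commutator B).map p).Normal›.eq_bot_or_eq_top with h | h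
  · rw [Subgroup.map_eq_bot_iff, hp, QuotientGroup.ker_mk'] at h
    have h1 := card_dvd_of_le h
    rw [Nat.card_zpowers, orderOf_eq_prime (by rw [pow_two, D.zz]) D.z1] at h1
    exact absurd ((D.eight_dvd hF e).trans h1) (by norm_num)
  · refine D.v_notMem hF e ?_
    have hv : p v ∈ (commutator B).map p := h ▸ mem_top _
    obtain ⟨m, hm, hmv⟩ := hv
    have : p (m⁻¹ * v) = 1 := by rw [map_mul, map_inv, hmv, inv_mul_cancel]
    rcases (hone _).1 this with r | r
    · rwa [inv_mul_eq_one.1 r] at hm
    · rw [inv_mul_eq_iff_eq_mul] at r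
      rw [r]; exact mul_mem hm (D.z_mem hF e)

theorem BarData.card_eq : Nat.card B = 48 := by
  have h3 := D.card_field hF e
  have hM : Nat.card (commutator B) = 24 := by rw [D.card_comm hF e, h3]
  have hC : Nat.card ↥(centralizer ({v} : Set B)) = 4 := by
    have hset : (centralizer ({v} : Set B) : Set B) = {1, z, v, z * v} := by
      ext g
      rw [SetLike.mem_coe, mem_centralizer_singleton_iff]
      refine ⟨fun h => by simpa using D.centV g h, ?_⟩
      rintro (r | r | r | r) <;> rw [r]
      · simp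
      · exact D.zv_comm
      · rw [mul_assoc, ← mul_assoc v, ← D.zv_comm, mul_assoc z v v]
    rw [← SetLike.coe_sort_coe, Nat.card_coe_set_eq, hset]
    have e1 : z * v ≠ 1 := fun h => D.vz (by
      rw [← mul_right_cancel (h.trans D.vv.symm)])
    rw [Set.ncard_insert_of_notMem, Set.ncard_insert_of_notMem, Set.ncard_pair]
    · exact fun h => D.z1 (mul_right_cancel ((one_mul v).trans h)).symm
    · simp only [Set.mem_insert_iff, Set.mem_singleton_iff, not_or]
      exact ⟨D.vz.symm, fun h => D.v1 (left_eq_mul.1 h)⟩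
    · simp only [Set.mem_insert_iff, Set.mem_singleton_iff, not_or]
      exact ⟨D.z1.symm, D.v1.symm, e1.symm⟩
  let f : B ⧸ centralizer ({v} : Set B) → commutator B := fun q =>
    ⟨⁅q.out, v⁆, commutator_mem_commutator (mem_top _) (mem_top _)⟩
  have hf : Function.Injective f := by
    intro a b h
    have h' : a.out * v * a.out⁻¹ = b.out * v * b.out⁻¹ :=
      mul_right_cancel (congrArg Subtype.val h)
    rw [← QuotientGroup.out_eq' a, ← QuotientGroup.out_eq' b, QuotientGroup.eq,
      mem_centralizer_singleton_iff]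
    refine mul_inv_eq_iff_eq_mul.1 ?_
    calc a.out⁻¹ * b.out * v * (a.out⁻¹ * b.out)⁻¹
        = a.out⁻¹ * (b.out * v * b.out⁻¹) * a.out := by group
      _ = v := by rw [← h']; group
  have hle := Nat.card_le_card_of_injective f hf
  have hidx := (centralizer ({v} : Set B)).card_mul_index
  rw [hC, index_eq_card] at hidx
  rw [hM] at hle
  have h16 := D.h16
  have h3d : 3 ∣ Nat.card B := Dvd.dvd.trans ⟨8, hM⟩ (card_subgroup_dvd_card (commutator B))
  have h48 : 48 ∣ Nat.card B := Nat.Coprime.mul_dvd_of_dvd_of_dvd (by norm_num) h16 h3d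
  by_contra hne
  have hcard : Nat.card (B ⧸ centralizer ({v} : Set B)) = 24 := by
    have hpos : 0 < Nat.card B := Nat.card_pos
    omega
  -- then `v` inverts the derived group
  have hsurj : Function.Surjective f :=
    (Function.Injective.bijective_of_nat_card_le hf (by rw [hM, hcard])).2
  have hinv : ∀ m ∈ commutator B, v * m * v⁻¹ = m⁻¹ := fun m hm => by
    obtain ⟨q, hq⟩ := hsurj ⟨m, hm⟩
    have hq' : ⁅q.out, v⁆ = m := congrArg Subtype.val hq
    have hv : v⁻¹ = v := inv_eq_of_mul_eq_one_right D.vv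
    rw [← hq', commutatorElement_def]
    simp only [mul_inv_rev, inv_inv, hv]
    rw [mul_assoc v, mul_assoc (q.out * v * q.out⁻¹), D.vv, mul_one]
    group
  have hab : ∀ a b : Matrix.SpecialLinearGroup (Fin 2) F, a * b = b * a := fun a b => by
    refine e.symm.injective ?_
    rw [map_mul, map_mul]
    refine Subtype.ext ?_
    set x := ((e.symm a : ↥(commutator B)) : B)
    set y := ((e.symm b : ↥(commutator B)) : B)
    have hx : x ∈ commutator B := (e.symm a).2
    have hy : y ∈ commutator B := (e.symm b).2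
    show x * y = y * x
    refine inv_injective ?_
    rw [← hinv _ (mul_mem hx hy), mul_inv_rev, ← hinv x hx, ← hinv y hy]
    group
  have := congrFun (congrFun (congrArg Subtype.val (hab ⟨!![1, 1; 0, 1], by simp [Matrix.det_fin_two]⟩
    ⟨!![1, 0; 1, 1], by simp [Matrix.det_fin_two]⟩)) 0) 0
  erw [Matrix.SpecialLinearGroup.coe_mul, Matrix.SpecialLinearGroup.coe_mul] at this
  simp [Matrix.mul_apply, Fin.sum_univ_two] at this

end Cfsg.Agent.Lib.Suborbit46
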