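import Cfsg.Agent.Lib.Suborbit46.Bar3

/-!
# The quotient is `GL(2,3)`
-/

set_option autoImplicit false
set_option linter.unusedSectionVars false
set_option linter.style.haveILetI false

namespace Cfsg.Agent.Lib.Suborbit46

open Subgroup

universe u

variable {B : Type u} [Group B] [Finite B] {z v s : B} {S : Sylow 2 B} (D : BarData B z v s S)

include D

theorem BarData.card_sylow (T : Sylow 2 B) (h48 : Nat.card B = 48) :
    Nat.card (T : Subgroup B) = 16 := by
  haveI : Fact (Nat.Prime 2) := ⟨Nat.prime_two⟩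
  obtain ⟨n, hn⟩ := T.2.exists_card_eq
  have h1 : 2 ^ 4 ∣ 2 ^ n := hn ▸ T.pow_dvd_card_of_pow_dvd_card (n := 4) (by rw [h48]; norm_num)
  have h2 : 2 ^ n ∣ 2 ^ 4 := by
    have h : 2 ^ n ∣ 3 * 2 ^ 4 := by
      rw [← hn]; exact (card_subgroup_dvd_card _).trans (by rw [h48]; norm_num)
    exact ((Nat.coprime_primes Nat.prime_two Nat.prime_three).2 (by norm_num)).pow_left n
      |>.dvd_of_dvd_mul_left h
  rw [hn, Nat.dvd_antisymm h2 h1]; norm_num

/-- In the derived group the elements with fourth power one form a subgroup. -/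
theorem BarData.exists_four : ∃ Q : Subgroup B, Q ≤ commutator B ∧ Q.Normal ∧
    IsPGroup 2 Q ∧ 8 ≤ Nat.card Q := by
  haveI : Fact (Nat.Prime 2) := ⟨Nat.prime_two⟩
  haveI : Fact (Nat.Prime 3) := ⟨Nat.prime_three⟩
  obtain ⟨F, _, _, hF, ⟨e⟩⟩ := D.comm
  let e3 := e.trans (Linear.slCongr (ι := Fin 2)
    (ZMod.ringEquivOfPrime F Nat.prime_three (D.card_field hF e)).symm)
  let q : ↥(commutator B) → GL23.M4 := fun m => GL23.q4 (Matrix.SpecialLinearGroup.toGL (e3 m))
  have qmul : ∀ a b, q (a * b) = GL23.mul4 (q a) (q b) := fun a b => by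
    simp only [q, map_mul, GL23.q4_mul]
  have qone : q 1 = GL23.one4 := by simp only [q, map_one, GL23.q4_one]
  have qinj : Function.Injective q := fun a b h =>
    e3.injective (Matrix.SpecialLinearGroup.toGL_injective (GL23.q4_injective h))
  have qdet : ∀ a, GL23.det4 (q a) = 1 := fun a => by
    simp only [q, GL23.det4_q4]
    exact (e3 a).2
  have q4 : ∀ a : ↥(commutator B), (a : B) ^ 4 = 1 ↔
      GL23.mul4 (GL23.mul4 (q a) (q a)) (GL23.mul4 (q a) (q a)) = GL23.one4 := by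
    intro a
    rw [← qmul, ← qmul, ← qone, qinj.eq_iff, show a * a * (a * a) = a ^ 4 by simp only [pow_succ, pow_zero, one_mul, mul_assoc],
      Subtype.ext_iff, SubgroupClass.coe_pow, OneMemClass.coe_one]
  let Q : Subgroup B :=
    { carrier := {m | m ∈ commutator B ∧ m ^ 4 = 1}
      one_mem' := ⟨one_mem _, one_pow _⟩
      mul_mem' := fun {a b} ha hb => ⟨mul_mem ha.1 hb.1, (q4 ⟨a * b, mul_mem ha.1 hb.1⟩).2 (by
        rw [show (⟨a * b, mul_mem ha.1 hb.1⟩ : ↥(commutator B)) = ⟨a, ha.1⟩ * ⟨b, hb.1⟩ from rfl,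
          qmul]
        exact GL23.sl_four_closed _ (qdet _) ((q4 ⟨a, ha.1⟩).1 ha.2) _ (qdet _)
          ((q4 ⟨b, hb.1⟩).1 hb.2))⟩
      inv_mem' := fun {a} ha => ⟨inv_mem ha.1, by rw [inv_pow, ha.2, inv_one]⟩ }
  refine ⟨Q, fun m hm => hm.1, ⟨fun a ha g => ⟨(inferInstance : (commutator B).Normal).conj_mem a ha.1 g,
    by rw [conj_pow, ha.2, mul_one, mul_inv_cancel]⟩⟩, ?_, ?_⟩
  · exact fun m => ⟨2, Subtype.ext m.2.2⟩
  · have h48 := D.card_eq hF e
    have hsub : commutator B ⊓ (S : Subgroup B) ≤ Q := by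
      intro x hx
      refine ⟨(mem_inf.1 hx).1, ?_⟩
      have h8 : x ^ 8 = 1 := by
        rw [← orderOf_dvd_iff_pow_eq_one]
        have h1 : orderOf x ∣ Nat.card ↥(commutator B ⊓ (S : Subgroup B)) :=
          Subgroup.orderOf_dvd_natCard _ hx
        have h2 : Nat.card ↥(commutator B ⊓ (S : Subgroup B)) ∣ 8 := by
          have hS := card_dvd_of_le (inf_le_right (a := commutator B) (b := (S : Subgroup B)))
          have hM := card_dvd_of_le (inf_le_left (a := commutator B) (b := (S : Subgroup B)))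
          rw [D.card_sylow S h48] at hS
          rw [D.card_comm hF e, D.card_field hF e] at hM
          exact (Nat.dvd_gcd hS hM).trans (by norm_num)
        exact h1.trans h2
      refine (q4 ⟨x, (mem_inf.1 hx).1⟩).2 (GL23.sl_exp _ (qdet _) ?_)
      rw [← qmul, ← qmul, ← qmul, ← qone]
      exact congrArg q (Subtype.ext (by simp only [Subgroup.coe_mul, OneMemClass.coe_one]; rw [← h8]; simp only [pow_succ, pow_zero, one_mul, mul_assoc]))
    exact (Nat.le_of_dvd Nat.card_pos (D.eight_dvd_inf hF e)).trans (card_le_of_le hsub)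

theorem BarData.sylow_inter (T₁ T₂ : Sylow 2 B) (hne : T₁ ≠ T₂) :
    Cfsg.PRankLE 2 1 ↥((T₁ : Subgroup B) ⊓ (T₂ : Subgroup B)) := by
  haveI : Fact (Nat.Prime 2) := ⟨Nat.prime_two⟩
  obtain ⟨F, _, _, hF, ⟨e⟩⟩ := D.comm
  obtain ⟨Q, hQM, hQn, hQ2, hQ8⟩ := D.exists_four
  haveI := hQn
  have hQle : ∀ T : Sylow 2 B, Q ≤ (T : Subgroup B) := fun T =>
    le_sup_right.trans_eq (T.is_maximal' (T.2.to_sup_of_normal_right hQ2) le_sup_left)
  intro A _ hA
  rw [pow_one]
  by_contra hlt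
  obtain ⟨a, ha, ha1, haz⟩ : ∃ a ∈ A.map (((T₁ : Subgroup B) ⊓ (T₂ : Subgroup B))).subtype,
      a ≠ 1 ∧ a ≠ z := by
    by_contra! h
    have hsub : ((A.map (((T₁ : Subgroup B) ⊓ (T₂ : Subgroup B))).subtype : Subgroup B) : Set B) ⊆
        {1, z} := fun x hx => by
      by_cases h1 : x = 1
      · simp [h1]
      · simp [h x hx h1]
    have h2 := Set.ncard_le_ncard hsub (Set.toFinite _)
    rw [Set.ncard_pair D.z1.symm, ← Nat.card_coe_set_eq, SetLike.coe_sort_coe,
      card_map_of_injective (subtype_injective _)] at h2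
    exact hlt h2
  obtain ⟨a', ha', rfl⟩ := ha
  have hsq : (a' : B) * a' = 1 := by
    have := congrArg Subtype.val (hA a' ha')
    rwa [pow_two] at this
  have haQ : (a' : B) ∉ Q := fun h => by
    rcases D.sq_one_mem hF e (hQM h) hsq with r | r
    · exact ha1 r
    · exact haz r
  have hlt' : Q < Q ⊔ zpowers (a' : B) := lt_of_le_of_ne le_sup_left fun h =>
    haQ (h ▸ mem_sup_right (mem_zpowers _))
  have h48 := D.card_eq hF e
  have key : ∀ T : Sylow 2 B, (a' : B) ∈ (T : Subgroup B) → Q ⊔ zpowers (a' : B) = T := by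
    intro T haT
    have hle : Q ⊔ zpowers (a' : B) ≤ (T : Subgroup B) := sup_le (hQle T) (zpowers_le.2 haT)
    refine eq_of_le_of_card_ge hle ?_
    rw [D.card_sylow T h48]
    have h1 : 8 < Nat.card ↥(Q ⊔ zpowers (a' : B)) := lt_of_le_of_lt hQ8 (by
      rw [← SetLike.coe_sort_coe, ← SetLike.coe_sort_coe (Q ⊔ _), Nat.card_coe_set_eq,
        Nat.card_coe_set_eq]
      exact Set.ncard_lt_ncard hlt' (Set.toFinite _))
    obtain ⟨n, hn⟩ := (T.2.to_le hle).exists_card_eq
    rw [hn] at h1 ⊢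
    rw [show (8 : ℕ) = 2 ^ 3 by norm_num, Nat.pow_lt_pow_iff_right (by norm_num)] at h1
    calc (16 : ℕ) = 2 ^ 4 := by norm_num
      _ ≤ 2 ^ n := Nat.pow_le_pow_right (by norm_num) (by omega)
  exact hne (Sylow.ext ((key T₁ (mem_inf.1 a'.2).1).symm.trans (key T₂ (mem_inf.1 a'.2).2)))

theorem BarData.exists_iso : ∃ ψ : B ≃* GL (Fin 2) (ZMod 3),
    GL23.q4 (ψ z) = GL23.neg4 ∧ GL23.Refl (GL23.q4 (ψ v)) := by
  haveI : Fact (Nat.Prime 2) := ⟨Nat.prime_two⟩
  haveI : Fact (Nat.Prime 3) := ⟨Nat.prime_three⟩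
  obtain ⟨F, _, _, hF, ⟨e⟩⟩ := D.comm
  have h48 := D.card_eq hF e
  have hsol := Spectrum.isSolvable_of_card_lt_sixty 48 h48 (by norm_num)
  haveI : (Cfsg.oddCore B).Normal := by unfold Cfsg.oddCore; infer_instance
  let ι : B ⧸ Cfsg.oddCore B ≃* B :=
    (QuotientGroup.quotientMulEquivOfEq D.core).trans QuotientGroup.quotientBot
  rcases Cfsg.Agent.S3304.result hsol D.sylow_inter with ⟨P, hP⟩ | ⟨⟨ψ⟩⟩ | ⟨-, -, -, hq⟩
  · exfalso
    haveI := hP
    set N := (P : Subgroup _).map ι.toMonoidHom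
    haveI hN : N.Normal := Normal.map hP _ ι.surjective
    have hPc : Nat.card N = 16 := by
      rw [card_map_of_injective ι.injective]
      obtain ⟨n, hn⟩ := P.2.exists_card_eq
      have hιs : Function.Surjective ι.toMonoidHom := ι.surjective
      have hT := D.card_sylow (P.mapSurjective hιs) h48
      rwa [Sylow.coe_mapSurjective, card_map_of_injective ι.injective] at hT
    have hidx : Nat.card (B ⧸ N) = 3 := by
      have h := N.card_mul_index
      rw [hPc, h48, index_eq_card] at h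
      omega
    haveI : IsCyclic (B ⧸ N) := isCyclic_of_prime_card hidx
    have hle : commutator B ≤ N := by
      intro x hx
      rw [← QuotientGroup.ker_mk' N]
      refine (?_ : commutator B ≤ (QuotientGroup.mk' N).ker) hx
      rw [_root_.commutator_def, commutator_le]
      intro a _ b _
      rw [MonoidHom.mem_ker, map_commutatorElement, commutatorElement_eq_one_iff_mul_comm]
      obtain ⟨g, hg⟩ := IsCyclic.exists_generator (α := B ⧸ N)
      obtain ⟨i, hi⟩ := hg (QuotientGroup.mk' N a)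
      obtain ⟨j, hj⟩ := hg (QuotientGroup.mk' N b)
      rw [← hi, ← hj]
      exact ((Commute.refl g).zpow_zpow i j).eq
    have hd := card_dvd_of_le hle
    rw [hPc, D.card_comm hF e, D.card_field hF e] at hd
    norm_num at hd
  · set φ := ι.symm.trans ψ with hφ
    have hz : GL23.q4 (φ z) = GL23.neg4 := by
      refine GL23.central_inv _ ?_ ?_ ?_
      · rw [← GL23.q4_mul, ← map_mul, D.zz, map_one, GL23.q4_one]
      · rw [← GL23.q4_one]
        exact fun h => D.z1 (φ.map_eq_one_iff.1 (GL23.q4_injective h))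
      · intro h hh
        obtain ⟨g, rfl⟩ := GL23.exists_q4 hh
        obtain ⟨b, rfl⟩ := φ.surjective g
        rw [← GL23.q4_mul, ← GL23.q4_mul, ← map_mul, ← map_mul, ← D.zc b]
    refine ⟨φ, hz, ?_, ?_, ?_⟩
    · rw [← GL23.q4_mul, ← map_mul, D.vv, map_one, GL23.q4_one]
    · rw [← GL23.q4_one]
      exact fun h => D.v1 (φ.map_eq_one_iff.1 (GL23.q4_injective h))
    · rw [← hz]
      exact fun h => D.vz (φ.injective (GL23.q4_injective h))
  · exfalso
    have hιs : Function.Surjective ι.symm.toMonoidHom := ι.symm.surjective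
    let P : Sylow 2 (B ⧸ Cfsg.oddCore B) := S.mapSurjective hιs
    obtain ⟨κ⟩ := hq P
    have hmem : ∀ a ∈ (S : Subgroup B), ι.symm a ∈ (P : Subgroup _) := fun a ha => by
      show ι.symm a ∈ ((S.mapSurjective hιs : Sylow 2 _) : Subgroup _)
      rw [Sylow.coe_mapSurjective]
      exact ⟨a, ha, rfl⟩
    have huniq : ∀ a b : QuaternionGroup 4, a * a = 1 → b * b = 1 → a ≠ 1 → b ≠ 1 → a = b := by
      decide
    have hk : ∀ a, ∀ ha : a ∈ (S : Subgroup B), a * a = 1 → a ≠ 1 →
        κ ⟨ι.symm a, hmem a ha⟩ * κ ⟨ι.symm a, hmem a ha⟩ = 1 ∧ κ ⟨ι.symm a, hmem a ha⟩ ≠ 1 := by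
      intro a ha h2 h1
      refine ⟨?_, fun h => h1 ?_⟩
      · rw [← map_mul, κ.map_eq_one_iff]
        exact Subtype.ext (show ι.symm a * ι.symm a = 1 by rw [← map_mul, h2, map_one])
      · exact ι.symm.map_eq_one_iff.1 (congrArg Subtype.val (κ.map_eq_one_iff.1 h))
    have h1 := hk z D.zS D.zz D.z1
    have h2 := hk v D.vS D.vv D.v1
    exact D.vz (ι.symm.injective (congrArg Subtype.val (κ.injective (huniq _ _ h2.1 h1.1 h2.2 h1.2))))

end Cfsg.Agent.Lib.Suborbit46
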