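import Cfsg.Agent.Lib.Suborbit46.Bar
import Cfsg.Agent.Lib.Suborbit46.Bar4
import Cfsg.Agent.Lib.Cores.Basic

/-!
# `C(z)/O(C(z)) ≅ GL(2,3)`
-/

set_option autoImplicit false
set_option linter.unusedSectionVars false
set_option linter.style.haveILetI false

namespace Cfsg.Agent.Lib.Suborbit46

open Subgroup

universe u

variable {L : Type u} [Group L] [Finite L] {W : Subgroup L} {c : L} {S : Sylow 2 L} {z v : L}
  (D : SDCtx L W c S z v)

include D

/-- The quotient map, with all the properties. -/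
theorem SDCtx.exists_bar : ∃ π : ↥(Cz z) →* GL (Fin 2) (ZMod 3), Function.Surjective π ∧
    π.ker = Cfsg.oddCore ↥(Cz z) ∧
    (∀ hz : z ∈ Cz z, GL23.q4 (π ⟨z, hz⟩) = GL23.neg4) ∧
    (∀ hv : v ∈ Cz z, GL23.Refl (GL23.q4 (π ⟨v, hv⟩))) ∧
    Nat.card (S : Subgroup L) = 16 := by
  haveI : Fact (Nat.Prime 2) := ⟨Nat.prime_two⟩
  haveI hO : (Cfsg.oddCore ↥(Cz z)).Normal := by unfold Cfsg.oddCore; infer_instance
  set π₀ := QuotientGroup.mk' (Cfsg.oddCore ↥(Cz z)) with hπ₀
  have hsurj : Function.Surjective π₀ := QuotientGroup.mk'_surjective _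
  have Q : Quot L z v _ π₀ := ⟨hsurj, by
    rw [hπ₀, QuotientGroup.ker_mk']; exact ZStar.Elements.oddCore_odd, QuotientGroup.ker_mk' _⟩
  obtain ⟨s, hs, hsv⟩ := D.exists_swap
  have hpS : ∀ a : ↥(Cz z), (a : L) ∈ (S : Subgroup L) → π₀ a = 1 → (a : L) = 1 := fun a ha h => by
    have := D.pi_eq Q (a := a) (b := 1) (by rw [h, map_one]) ha (one_mem _)
    rw [this]; rfl
  have hzz : z * z = 1 := D.four.sq z D.zW
  have hvv : v * v = 1 := D.four.sq v D.vW
  -- squares of the swapping element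
  have hss : s * s = 1 ∨ s * s = z := by
    have hz : s * z = z * s := D.zc s hs
    have hne : s * v ≠ v * s := fun e => D.z1 (by
      rw [e, mul_inv_cancel_right] at hsv
      exact mul_right_cancel (hsv.symm.trans (one_mul v).symm))
    have hc : s * s * v = v * (s * s) := by
      refine mul_inv_eq_iff_eq_mul.1 ?_
      calc s * s * v * (s * s)⁻¹ = s * (s * v * s⁻¹) * s⁻¹ := by group
        _ = s * z * (v * s⁻¹) := by rw [hsv]; group
        _ = z * (s * v * s⁻¹) := by rw [hz]; group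
        _ = v := by rw [hsv, ← mul_assoc, hzz, one_mul]
    have hW : s * s ∈ W := D.centV (D.S_le (mul_mem hs hs)) hc
    rcases D.four.cases D.zW D.vW D.z1 D.v1 D.vz.symm hW with e | e | e | e
    · exact Or.inl e
    · exact Or.inr e
    · exfalso
      have h2 : s * (s * s) = s * s * s := by group
      rw [e] at h2
      exact hne h2
    · exfalso
      have h2 : s * (s * s) = s * s * s := by group
      rw [e] at h2
      refine hne (mul_left_cancel (a := z) ?_)
      rw [← mul_assoc, ← hz, mul_assoc, h2, mul_assoc]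
  set S₁ : Sylow 2 ↥(Cz z) := S.subtype D.S_le with hS₁
  have hmem : ∀ a : ↥(Cz z), a ∈ (S₁ : Subgroup ↥(Cz z)) ↔ (a : L) ∈ (S : Subgroup L) := fun a => Iff.rfl
  have hcardS : Nat.card ↥((S₁ : Subgroup ↥(Cz z)).map π₀) = Nat.card (S : Subgroup L) := by
    have hinj : Function.Injective ((π₀).comp (S₁ : Subgroup ↥(Cz z)).subtype) := fun a b h =>
      Subtype.ext (D.pi_eq Q h ((hmem _).1 a.2) ((hmem _).1 b.2))
    rw [show (S₁ : Subgroup ↥(Cz z)).map π₀ = ((π₀).comp (S₁ : Subgroup ↥(Cz z)).subtype).range by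
      rw [MonoidHom.range_comp, range_subtype],
      ← Nat.card_congr (MonoidHom.ofInjective hinj).toEquiv]
    exact Nat.card_congr (subgroupOfEquivOfLe D.S_le).toEquiv
  have hC1 : ∀ a b : L, orderOf a = 2 → orderOf b = 2 → IsConj a b := D.isConj
  have hz2 : orderOf z = 2 := D.four.orderOf_eq D.zW D.z1
  have BD : BarData (↥(Cz z) ⧸ Cfsg.oddCore ↥(Cz z)) (π₀ ⟨z, D.W_le D.zW⟩) (π₀ ⟨v, D.W_le D.vW⟩)
      (π₀ ⟨s, D.S_le hs⟩) (S₁.mapSurjective hsurj) := by
    refine
      { zc := fun g => ?_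
        zz := by rw [← map_mul]; exact (congrArg π₀ (Subtype.ext hzz)).trans (map_one π₀)
        z1 := fun h => D.z1 (hpS _ (D.le D.zW) h)
        vv := by rw [← map_mul]; exact (congrArg π₀ (Subtype.ext hvv)).trans (map_one π₀)
        v1 := fun h => D.v1 (hpS _ (D.le D.vW) h)
        vz := fun h => D.vz (congrArg Subtype.val (D.pi_eq Q h (D.le D.vW) (D.le D.zW)))
        sv := by
          rw [← map_inv, ← map_mul, ← map_mul, ← map_mul]
          exact congrArg π₀ (Subtype.ext hsv)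
        ss := by
          rw [← map_mul]
          rcases hss with h | h
          · exact Or.inl ((congrArg π₀ (Subtype.ext h)).trans (map_one π₀))
          · exact Or.inr (congrArg π₀ (Subtype.ext h))
        centV := fun g hg => ?_
        sS := ?_
        vS := ?_
        core := Cores.pPrimeCore_quotient_pPrimeCore 2
        h16 := ?_
        comm := Cfsg.Agent.S1240.result S (Or.inl D.sd) D.four.noTwo hC1 z hz2 }
    · obtain ⟨a, rfl⟩ := hsurj g
      rw [← map_mul, ← map_mul]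
      exact congrArg π₀ (Subtype.ext (mem_centralizer_singleton_iff.1 a.2))
    · obtain ⟨a, rfl⟩ := hsurj g
      obtain ⟨w, hw, hwa⟩ := D.cent_bar Q hg
      rw [← hwa]
      rcases D.four.cases D.zW D.vW D.z1 D.v1 D.vz.symm hw with e | e | e | e
      · exact Or.inl ((congrArg π₀ (Subtype.ext e : w = 1)).trans (map_one π₀))
      · exact Or.inr (Or.inl (congrArg π₀ (Subtype.ext e : w = ⟨z, D.W_le D.zW⟩)))
      · exact Or.inr (Or.inr (Or.inl (congrArg π₀ (Subtype.ext e : w = ⟨v, D.W_le D.vW⟩))))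
      · refine Or.inr (Or.inr (Or.inr ?_))
        rw [← map_mul]
        exact congrArg π₀ (Subtype.ext e : w = ⟨z, D.W_le D.zW⟩ * ⟨v, D.W_le D.vW⟩)
    · rw [Sylow.coe_mapSurjective]
      exact mem_map_of_mem _ ((hmem _).2 hs)
    · rw [Sylow.coe_mapSurjective]
      exact mem_map_of_mem _ ((hmem _).2 (D.le D.vW))
    · exact D.h16.trans (hcardS ▸ card_subgroup_dvd_card _)
  obtain ⟨F, hFi, hFt, hF, ⟨e⟩⟩ := BD.comm
  have h48 := @BarData.card_eq _ _ _ _ _ _ _ BD F hFi hFt hF e
  have hS16 : Nat.card (S : Subgroup L) = 16 := by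
    rw [← hcardS, ← Sylow.coe_mapSurjective hsurj]
    exact BD.card_sylow _ h48
  obtain ⟨ψ, hz, hv⟩ := BD.exists_iso
  refine ⟨ψ.toMonoidHom.comp π₀, ψ.surjective.comp hsurj, ?_, fun _ => hz, fun _ => hv, hS16⟩
  ext x
  rw [MonoidHom.mem_ker, ← QuotientGroup.eq_one_iff x]
  exact ψ.map_eq_one_iff

end Cfsg.Agent.Lib.Suborbit46
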