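import Cfsg.Agent.Lib.Suborbit46.Local
import Cfsg.Agent.Lib.LA5.Basic

/-!
# The case `C_H(K) ≤ K`: the subgroups `Z`, `V`, `Z₀` and the commutator `ω`
-/

set_option autoImplicit false
set_option linter.unusedSectionVars false

namespace Cfsg.Agent.Lib.Suborbit46

open Subgroup
open scoped commutatorElement Pointwise

universe u

variable {G : Type u} [Group G]

/-- The set-up when the core contains its centraliser. -/
structure Con (G : Type u) [Group G] (H P : Subgroup G) : Prop where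
  setup : Setup G H P
  ne_bot : P ≠ ⊥
  cent : ∀ c ∈ H, (∀ k ∈ coreIn H P, c * k = k * c) → c ∈ coreIn H P

/-- Conjugates of central involutions of `P`. -/
def genV (H P : Subgroup G) : Set G :=
  {y | ∃ h ∈ H, ∃ z ∈ omegaCenter P, y = h * z * h⁻¹}

/-- The normal closure of `Ω₁(Z(P))` in `H`. -/
def V (H P : Subgroup G) : Subgroup G := closure (genV H P)

/-- The part of `V` central in `H`. -/
def Z0 (H P : Subgroup G) : Subgroup G := V H P ⊓ centralizer (H : Set G)

theorem mem_Z0 {H P : Subgroup G} {z : G} :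
    z ∈ Z0 H P ↔ z ∈ V H P ∧ ∀ h ∈ H, h * z = z * h := by
  simp only [Z0, Subgroup.mem_inf, mem_centralizer_iff, SetLike.mem_coe]

variable [Finite G] {H P : Subgroup G}

/-- The dichotomy. -/
theorem Setup.con_or_central (S : Setup G H P) (hP : P ≠ ⊥) :
    Con G H P ∨ ∃ c ∈ H, c ∉ P ∧ ∀ k ∈ coreIn H P, c * k = k * c := by
  by_cases h : ∃ c ∈ H, c ∉ P ∧ ∀ k ∈ coreIn H P, c * k = k * c
  · exact Or.inr h
  push Not at h
  refine Or.inl ⟨S, hP, fun c hc hck => ?_⟩
  have hsub : H ⊓ centralizer (coreIn H P : Set G) ≤ P := fun x hx => by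
    by_contra hn
    obtain ⟨k, hk, hne⟩ := h x hx.1 hn
    exact hne (mem_centralizer_iff.1 hx.2 k hk).symm
  refine S.le_core hsub (le_normalizer_of_conj_mem fun b hb a ha => Subgroup.mem_inf.2 ⟨?_, ?_⟩)
    ⟨hc, mem_centralizer_iff.2 fun k hk => (hck k hk).symm⟩
  · exact mul_mem (mul_mem hb (Subgroup.mem_inf.1 ha).1) (inv_mem hb)
  · refine mem_centralizer_iff.2 fun k hk => ?_
    have h1 := mem_centralizer_iff.1 ha.2 _ (coreIn_conj hk (inv_mem hb))
    rw [inv_inv] at h1
    have := congrArg (fun z => b * z * b⁻¹) h1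
    simpa [mul_assoc] using this

variable (C : Con G H P)

include C

theorem Con.Z_le : omegaCenter P ≤ coreIn H P := fun z hz =>
  C.cent z (C.setup.le hz.1) fun k hk => (hz.2.1 k (coreIn_le hk)).symm

omit C in
theorem Z_le_V : omegaCenter P ≤ V H P := fun z hz =>
  subset_closure ⟨1, one_mem _, z, hz, by simp⟩

theorem Con.V_le : V H P ≤ coreIn H P :=
  (closure_le _).2 fun _ ⟨_, hh, _, hz, e⟩ => e ▸ coreIn_conj (C.Z_le hz) hh

theorem Con.V_le_cent : V H P ≤ centralizer (coreIn H P : Set G) := by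
  refine (closure_le _).2 ?_
  rintro _ ⟨h, hh, z, hz, rfl⟩
  refine mem_centralizer_iff.2 fun k hk => ?_
  have h1 := hz.2.1 _ (coreIn_le (coreIn_conj hk (inv_mem hh)))
  rw [inv_inv] at h1
  have := congrArg (fun x => h * x * h⁻¹) h1
  simpa [mul_assoc] using this

theorem Con.comm_core {v k : G} (hv : v ∈ V H P) (hk : k ∈ coreIn H P) : k * v = v * k :=
  mem_centralizer_iff.1 (C.V_le_cent hv) k hk

theorem Con.comm_V {v w : G} (hv : v ∈ V H P) (hw : w ∈ V H P) : v * w = w * v :=
  C.comm_core hw (C.V_le hv)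

theorem Con.sq_V {v : G} (hv : v ∈ V H P) : v * v = 1 := by
  induction hv using closure_induction with
  | mem x hx =>
    obtain ⟨h, -, z, hz, rfl⟩ := hx
    have := congrArg (fun y => h * y * h⁻¹) hz.2.2
    simpa [mul_assoc] using this
  | one => simp
  | mul x y hx hy ihx ihy =>
    rw [mul_assoc, ← mul_assoc y, C.comm_V hy hx, mul_assoc x y, ihy, mul_one, ihx]
  | inv x hx ihx => rw [inv_eq_of_mul_eq_one_right ihx]; exact ihx

omit C in
theorem conj_V {v h : G} (hv : v ∈ V H P) (hh : h ∈ H) : h * v * h⁻¹ ∈ V H P := by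
  induction hv using closure_induction with
  | mem x hx =>
    obtain ⟨k, hk, z, hz, rfl⟩ := hx
    exact subset_closure ⟨h * k, mul_mem hh hk, z, hz, by group⟩
  | one => simp
  | mul x y _ _ ihx ihy => simpa [mul_assoc] using mul_mem ihx ihy
  | inv x _ ihx => simpa [mul_assoc] using inv_mem ihx

omit C in
theorem le_normalizer_V : H ≤ normalizer (V H P : Set G) :=
  le_normalizer_of_conj_mem fun _ hb _ ha => conj_V ha hb

theorem Con.cent_V {c : G} (hc : c ∈ H) (hcV : ∀ v ∈ V H P, c * v = v * c) :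
    c ∈ coreIn H P := by
  have hsub : H ⊓ centralizer (V H P : Set G) ≤ P := by
    intro x hx
    by_contra hn
    obtain ⟨g, hg, hgH⟩ := C.setup.exists_norm
    refine omegaCenter_ne_bot C.setup.twoP C.ne_bot (C.setup.eq_bot_of_norm
      (fun z hz => C.setup.le hz.1) ?_ hgH (le_antisymm (cj_omegaCenter_le (cj_eq_self.2 hg)) ?_))
    · refine C.setup.le_normalizer hx.1 hn ?_ ?_
      · exact fun p hp => cj_eq_self.1 (le_antisymm
          (cj_omegaCenter_le (cj_eq_self.2 (Subgroup.le_normalizer hp)))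
          fun z hz => mem_cj.2 (by rwa [mul_assoc, ← hz.2.1 p hp, inv_mul_cancel_left]))
      · exact centralizer_le_normalizer _ (mem_centralizer_iff.2 fun z hz =>
          mem_centralizer_iff.1 hx.2 z (Z_le_V hz))
    · have h := cj_omegaCenter_le (cj_eq_self.2 (inv_mem hg))
      have h2 := cj_mono g h
      rwa [← cj_mul, mul_inv_cancel, cj_one] at h2
  refine C.setup.le_core hsub (le_normalizer_of_conj_mem fun b hb a ha => Subgroup.mem_inf.2 ⟨?_, ?_⟩)
    ⟨hc, mem_centralizer_iff.2 fun v hv => (hcV v hv).symm⟩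
  · exact mul_mem (mul_mem hb (Subgroup.mem_inf.1 ha).1) (inv_mem hb)
  · refine mem_centralizer_iff.2 fun v hv => ?_
    have h1 := mem_centralizer_iff.1 ha.2 _ (conj_V hv (inv_mem hb))
    rw [inv_inv] at h1
    have := congrArg (fun z => b * z * b⁻¹) h1
    simpa [mul_assoc] using this

/-- An element of `V` commuting with an element of `P` outside the core lies in `Z`. -/
theorem Con.fixed {v t : G} (hv : v ∈ V H P) (ht : t ∈ P) (ht' : t ∉ coreIn H P)
    (h : t * v = v * t) : v ∈ omegaCenter P := by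
  refine ⟨coreIn_le (C.V_le hv), fun p hp => ?_, C.sq_V hv⟩
  have := C.setup.le_of_core_le C.ne_bot (A := centralizer ({v} : Set G)) ht ht'
    (fun k hk => mem_centralizer_singleton_iff.2 (C.comm_core hv hk))
    (mem_centralizer_singleton_iff.2 h) hp
  exact mem_centralizer_singleton_iff.1 this

theorem Con.fixed_iff {v t : G} (hv : v ∈ V H P) (ht : t ∈ P) (ht' : t ∉ coreIn H P) :
    t * v = v * t ↔ v ∈ omegaCenter P :=
  ⟨C.fixed hv ht ht', fun h => h.2.1 t ht⟩

/-- The Thompson-subgroup argument: `Z` has index two in `V`. -/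
theorem Con.card_V : Nat.card (V H P) = 2 * Nat.card (omegaCenter P) := by
  classical
  set K := coreIn H P with hK
  let El : Subgroup G → Prop := fun A => A ≤ P ∧ ∀ a ∈ A, a * a = 1
  obtain ⟨A₀, hA₀, hmax⟩ := Set.exists_max_image {A | El A} (fun A => Nat.card A) (Set.toFinite _)
    ⟨⊥, bot_le, fun a ha => by simp [mem_bot.1 ha]⟩
  obtain ⟨A, hA, hAmax, hAK⟩ : ∃ A, El A ∧ (∀ B, El B → Nat.card B ≤ Nat.card A) ∧ ¬ A ≤ K := by
    by_contra! hall
    let J : Subgroup G := ⨆ A ∈ {A | El A ∧ ∀ B, El B → Nat.card B ≤ Nat.card A}, A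
    have hJK : J ≤ K := iSup₂_le fun A hA => hall A hA.1 hA.2
    have hcj : ∀ (h : G) (A : Subgroup G), El A → (∀ a ∈ A, h * a * h⁻¹ ∈ P) → El (cj h A) := by
      refine fun h A hA hm => ⟨fun x hx => ?_, fun x hx => ?_⟩
      · simpa [mul_assoc] using hm _ (mem_cj.1 hx)
      · have := congrArg (fun z => h * z * h⁻¹) (hA.2 _ (mem_cj.1 hx))
        simpa [mul_assoc] using this
    have hinv : ∀ h : G, (∀ A, (El A ∧ ∀ B, El B → Nat.card B ≤ Nat.card A) →
        ∀ a ∈ A, h * a * h⁻¹ ∈ P) → cj h J = J := by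
      intro h hh
      have hle : cj h J ≤ J := by
        simp only [J, cj, Subgroup.map_iSup]
        refine iSup₂_le fun A hA => ?_
        refine le_iSup₂_of_le (cj h A) ⟨hcj h A hA.1 (hh A hA), fun B hB => ?_⟩ le_rfl
        rw [card_cj]
        exact hA.2 B hB
      exact Subgroup.eq_of_le_of_card_ge hle (by rw [card_cj])
    obtain ⟨g, hg, hgH⟩ := C.setup.exists_norm
    have hJ : J = ⊥ := C.setup.eq_bot_of_norm (hJK.trans coreIn_le_left)
      (fun h hh => cj_eq_self.1 (hinv h fun A hA a ha =>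
        coreIn_le (coreIn_conj (hall A hA.1 hA.2 ha) hh)))
      hgH (hinv g fun A hA a ha => (mem_normalizer_iff.1 hg a).1 (hA.1.1 ha))
    have hA₀J : A₀ ≤ J := le_iSup₂_of_le A₀ ⟨hA₀, fun B hB => hmax B hB⟩ le_rfl
    have hlt : 1 < Nat.card (omegaCenter P) := by
      rw [Finite.one_lt_card_iff_nontrivial, Subgroup.nontrivial_iff_ne_bot]
      exact omegaCenter_ne_bot C.setup.twoP C.ne_bot
    have := hmax (omegaCenter P) ⟨fun z hz => hz.1, fun z hz => hz.2.2⟩
    rw [hJ, le_bot_iff] at hA₀J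
    simp only [hA₀J, Subgroup.card_bot] at this
    omega
  obtain ⟨t, htA, htK⟩ := SetLike.not_le_iff_exists.1 hAK
  set A' := A ⊓ K with hA'
  set W := A' ⊔ V H P with hW
  have hnorm : A' ≤ normalizer (V H P : Set G) := fun a ha =>
    le_normalizer_V (coreIn_le_left ha.2)
  have hWset : (W : Set G) = (A' : Set G) * (V H P : Set G) :=
    Subgroup.coe_mul_of_left_le_normalizer_right A' (V H P) hnorm
  have hWel : El W := by
    refine ⟨sup_le (inf_le_left.trans hA.1) (C.V_le.trans coreIn_le), fun w hw => ?_⟩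
    rw [← SetLike.mem_coe, hWset, Set.mem_mul] at hw
    obtain ⟨a, ha, v, hv, rfl⟩ := hw
    rw [mul_assoc, ← mul_assoc v, ← C.comm_core hv (ha.2), mul_assoc a v, C.sq_V hv, mul_one,
      hA.2 a ha.1]
  -- counting: `|A' V| ≤ |A| ≤ 2 |A'|`
  have hAcard : Nat.card A ≤ 2 * Nat.card A' := by
    have hi : (A'.subgroupOf A).index = 2 := by
      rw [index_eq_two_iff]
      refine ⟨⟨t, htA⟩, fun b => ?_⟩
      by_cases hb : (b : G) ∈ K
      · refine Or.inr ⟨⟨b.2, hb⟩, fun h => htK ?_⟩
        simpa [hA'] using mul_mem (inv_mem hb) h.2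
      · refine Or.inl ⟨Subgroup.mem_inf.2 ⟨mul_mem b.2 htA, C.setup.mul_mem_core C.ne_bot
          (hA.1 b.2) (hA.1 htA) hb htK⟩, fun h => hb (Subgroup.mem_inf.1 h).2⟩
    have := (A'.subgroupOf A).card_mul_index
    rw [hi, Nat.card_congr (subgroupOfEquivOfLe (inf_le_left : A' ≤ A)).toEquiv, mul_comm] at this
    exact this.ge
  have hprod : Nat.card W * Nat.card ↥(A' ⊓ V H P) = Nat.card A' * Nat.card (V H P) := by
    have h := Cfsg.Agent.Lib.LA5.Basic.card_mul_card_inf A' (V H P)
    rw [← hWset] at h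
    exact h
  have hle : Nat.card (V H P) ≤ 2 * Nat.card ↥(A' ⊓ V H P) := by
    have h1 := hAmax W hWel
    have h2 : 0 < Nat.card A' := Nat.card_pos
    nlinarith
  have hsub : A' ⊓ V H P ≤ omegaCenter P := fun v hv =>
    C.fixed hv.2 (hA.1 htA) htK (comm_of_sq_one hA.2 htA hv.1.1)
  have h3 := Subgroup.card_le_of_le hsub
  obtain ⟨k, hk⟩ := Subgroup.card_dvd_of_le (Z_le_V (H := H) (P := P))
  have h4 : Nat.card (V H P) ≠ Nat.card (omegaCenter P) := fun e => htK <| C.cent_V
    (C.setup.le (hA.1 htA)) fun v hv => (C.fixed_iff hv (hA.1 htA) htK).2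
      (by rwa [Subgroup.eq_of_le_of_card_ge Z_le_V e.le])
  have hpos : 0 < Nat.card (omegaCenter P) := Nat.card_pos
  have hk2 : k ≤ 2 := by
    by_contra hgt
    nlinarith
  interval_cases k
  · have : 0 < Nat.card (V H P) := Nat.card_pos
    omega
  · omega
  · omega

end Cfsg.Agent.Lib.Suborbit46
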