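import Cfsg.Agent.Lib.Suborbit46.Cent
import Cfsg.Agent.Lib.ZStar.StronglyClosed
import Cfsg.Agent.Lib.Goldschmidt53.RankTwoBadBW

/-!
# Centralisers of subgroups of the cores
-/

set_option autoImplicit false
set_option linter.unusedSectionVars false
set_option linter.style.haveILetI false

namespace Cfsg.Agent.Lib.Suborbit46

open Subgroup
open Cfsg.Agent.Lib.SDBlock25.Count (core)

universe u

variable {L : Type u} [Group L] [Finite L]

/-- The hypothesis coming from the maximality of `N(W)`. -/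
def Fam (W : Subgroup L) : Prop := ∀ w ∈ W, w ≠ 1 → ∀ E ≤ core w, E ≠ ⊥ → ∀ M : Subgroup L,
  (∀ h ∈ normalizer (W : Set L), ∀ e ∈ E, h * e * h⁻¹ ∈ M) → M = ⊤

/-- The order of a product of two subgroups, one normalising the other. -/
theorem card_sup_inf {H K : Subgroup L} (h : H ≤ normalizer (K : Set L)) :
    Nat.card ↥(H ⊔ K) * Nat.card ↥(H ⊓ K) = Nat.card H * Nat.card K := by
  haveI : (K.subgroupOf (H ⊔ K)).Normal := Subgroup.normal_subgroupOf_of_le_normalizer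
    (sup_le h le_normalizer)
  have hmul : ∀ {A B : Subgroup L}, A ≤ B → Nat.card A * A.relIndex B = Nat.card B := fun {A B} hAB => by
    rw [← Nat.card_congr (Subgroup.subgroupOfEquivOfLe hAB).toEquiv]
    exact Subgroup.card_mul_index _
  have h1 := Subgroup.relIndex_sup_right (H.subgroupOf (H ⊔ K)) (K.subgroupOf (H ⊔ K))
  rw [← Subgroup.subgroupOf_sup le_sup_left le_sup_right, Subgroup.relIndex_subgroupOf le_rfl,
    Subgroup.relIndex_subgroupOf le_sup_left] at h1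
  rw [← hmul (le_sup_right : K ≤ H ⊔ K), h1, ← hmul (inf_le_left : H ⊓ K ≤ H),
    Subgroup.inf_relIndex_left]
  ring

theorem mem_cen {E : Subgroup L} {g : L} :
    g ∈ centralizer (E : Set L) ↔ ∀ e ∈ E, g * e = e * g :=
  ⟨fun h e he => (mem_centralizer_iff.1 h e he).symm,
    fun h => mem_centralizer_iff.2 fun e he => (h e he).symm⟩

theorem mem_cen1 {a g : L} : g ∈ centralizer ({a} : Set L) ↔ g * a = a * g :=
  mem_centralizer_singleton_iff

/-- The odd core of the centraliser of `E`. -/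
def Rc (E : Subgroup L) : Subgroup L :=
  (Cfsg.oddCore ↥(centralizer (E : Set L))).map (centralizer (E : Set L)).subtype

theorem Rc_le (E : Subgroup L) : Rc E ≤ centralizer (E : Set L) := map_subtype_le _

theorem card_Rc_odd (E : Subgroup L) : Odd (Nat.card (Rc E)) := by
  rw [Rc, card_map_of_injective (subtype_injective _)]
  exact ZStar.Elements.oddCore_odd

/-- The odd core is invariant under elements normalising `E`. -/
theorem Rc_conj {E : Subgroup L} {g : L} (hg : ∀ e ∈ E, g * e * g⁻¹ ∈ E)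
    (hg' : ∀ e ∈ E, g⁻¹ * e * g ∈ E) {r : L} (hr : r ∈ Rc E) : g * r * g⁻¹ ∈ Rc E := by
  set N := centralizer (E : Set L)
  set K := (Rc E).map (MulAut.conj g).toMonoidHom with hK
  have hmem : ∀ a ∈ N, g * a * g⁻¹ ∈ N ∧ g⁻¹ * a * g ∈ N := by
    intro a ha
    rw [mem_cen] at ha
    refine ⟨mem_cen.2 fun e he => ?_, mem_cen.2 fun e he => ?_⟩
    · calc g * a * g⁻¹ * e = g * (a * (g⁻¹ * e * g)) * g⁻¹ := by group
        _ = g * ((g⁻¹ * e * g) * a) * g⁻¹ := by rw [ha _ (hg' e he)]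
        _ = e * (g * a * g⁻¹) := by group
    · calc g⁻¹ * a * g * e = g⁻¹ * (a * (g * e * g⁻¹)) * g := by group
        _ = g⁻¹ * ((g * e * g⁻¹) * a) * g := by rw [ha _ (hg e he)]
        _ = e * (g⁻¹ * a * g) := by group
  have hKN : K ≤ N := by
    rintro _ ⟨a, ha, rfl⟩
    exact (hmem a (Rc_le E ha)).1
  haveI hn : (Cfsg.oddCore ↥N).Normal := by unfold Cfsg.oddCore; infer_instance
  haveI : (K.subgroupOf N).Normal := by
    refine ⟨fun a ha n => ?_⟩
    obtain ⟨b, hb, hbe⟩ := mem_subgroupOf.1 ha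
    obtain ⟨b', hb', rfl⟩ := hb
    refine mem_subgroupOf.2 ⟨g⁻¹ * n * g * b' * (g⁻¹ * n * g)⁻¹, ?_, ?_⟩
    · exact ⟨⟨g⁻¹ * n * g, (hmem n n.2).2⟩ * b' * ⟨g⁻¹ * n * g, (hmem n n.2).2⟩⁻¹,
        hn.conj_mem b' hb' _, rfl⟩
    · simp only [MulEquiv.coe_toMonoidHom, MulAut.conj_apply, coe_subtype] at hbe ⊢
      rw [Subgroup.coe_mul, Subgroup.coe_mul, Subgroup.coe_inv, ← hbe]
      group
  have hle : K.subgroupOf N ≤ Cfsg.oddCore ↥N := ZStar.Elements.le_oddCore (by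
    rw [Nat.card_congr (subgroupOfEquivOfLe hKN).toEquiv, hK,
      card_map_of_injective (MulAut.conj g).injective]
    exact card_Rc_odd E)
  have h := hle (x := ⟨g * r * g⁻¹, hKN ⟨r, hr, rfl⟩⟩) (mem_subgroupOf.2 ⟨r, hr, rfl⟩)
  exact ⟨_, h, rfl⟩

variable {W : Subgroup L} {c z v : L} (D : Duo L W c z v)

include D

theorem Duo.core_conj {g o : L} (ho : o ∈ core z) : g * o * g⁻¹ ∈ core (g * z * g⁻¹) := by
  set C' := centralizer ({g * z * g⁻¹} : Set L)
  set K := (core z).map (MulAut.conj g).toMonoidHom with hK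
  have hKC : K ≤ C' := by
    rintro _ ⟨a, ha, rfl⟩
    rw [mem_cen1]
    show g * a * g⁻¹ * (g * z * g⁻¹) = g * z * g⁻¹ * (g * a * g⁻¹)
    calc g * a * g⁻¹ * (g * z * g⁻¹) = g * (a * z) * g⁻¹ := by group
      _ = g * (z * a) * g⁻¹ := by rw [mem_cen1.1 (D.core_le ha)]
      _ = g * z * g⁻¹ * (g * a * g⁻¹) := by group
  haveI : (K.subgroupOf C').Normal := by
    refine ⟨fun a ha n => ?_⟩
    obtain ⟨b, hb, hbe⟩ := mem_subgroupOf.1 ha
    have hn : g⁻¹ * n * g ∈ Cz z := by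
      have h := mem_cen1.1 n.2
      rw [mem_cen1]
      calc g⁻¹ * n * g * z = g⁻¹ * ((n : L) * (g * z * g⁻¹)) * g := by group
        _ = g⁻¹ * (g * z * g⁻¹ * n) * g := by rw [h]
        _ = z * (g⁻¹ * n * g) := by group
    refine mem_subgroupOf.2 ⟨g⁻¹ * n * g * b * (g⁻¹ * n * g)⁻¹, D.conj_core hn hb, ?_⟩
    simp only [MulEquiv.coe_toMonoidHom, MulAut.conj_apply] at hbe ⊢
    rw [Subgroup.coe_mul, Subgroup.coe_mul, Subgroup.coe_inv, ← hbe]
    group
  have hle : K.subgroupOf C' ≤ Cfsg.oddCore ↥C' := ZStar.Elements.le_oddCore (by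
    rw [Nat.card_congr (subgroupOfEquivOfLe hKC).toEquiv, hK,
      card_map_of_injective (MulAut.conj g).injective]
    exact SDBlock25.Count.card_core_odd z)
  exact ⟨_, hle (x := ⟨g * o * g⁻¹, hKC ⟨o, ho, rfl⟩⟩) (mem_subgroupOf.2 ⟨o, ho, rfl⟩), rfl⟩

/-- Conjugation of a pair by an element of `N(W)`. -/
theorem Duo.conj {g : L} (hg : g ∈ normalizer (W : Set L)) :
    Duo L W c (g * z * g⁻¹) (g * v * g⁻¹) where
  fsd := D.fsd
  zW := D.fsd.four.cj_mem hg D.zW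
  z1 := fun e => D.z1 (by simpa [mul_assoc] using congrArg (fun t => g⁻¹ * t * g) e)
  vW := D.fsd.four.cj_mem hg D.vW
  v1 := fun e => D.v1 (by simpa [mul_assoc] using congrArg (fun t => g⁻¹ * t * g) e)
  vz := fun e => D.vz (by simpa [mul_assoc] using congrArg (fun t => g⁻¹ * t * g) e)

/-- An element of `N(W) ∩ C(z)` interchanging `v` and `zv`. -/
theorem Duo.exists_swap : ∃ s ∈ Cz z, s ∈ normalizer (W : Set L) ∧ s * v * s⁻¹ = z * v ∧
    s * (z * v) * s⁻¹ = v := by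
  obtain ⟨S, hS⟩ := D.exists_ctx
  obtain ⟨s, hs, hsv⟩ := hS.exists_swap
  have hsz : s * z = z * s := hS.zc s hs
  have h2 : s * (z * v) * s⁻¹ = v := by
    calc s * (z * v) * s⁻¹ = s * z * (v * s⁻¹) := by group
      _ = z * (s * v * s⁻¹) := by rw [hsz]; group
      _ = v := by rw [hsv, ← mul_assoc, D.zz, one_mul]
  have hmem : ∀ w ∈ W, s * w * s⁻¹ ∈ W := by
    intro w hw
    rcases D.fsd.four.cases D.zW D.vW D.z1 D.v1 D.vz.symm hw with rfl | rfl | rfl | rfl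
    · simp
    · rw [hsz, mul_inv_cancel_right]; exact D.zW
    · rw [hsv]; exact mul_mem D.zW D.vW
    · rw [h2]; exact D.vW
  refine ⟨s, hS.S_le hs, mem_normalizer_iff.2 fun w => ⟨hmem w, fun hw => ?_⟩, hsv, h2⟩
  obtain ⟨x, hx, hxe⟩ : ∃ x ∈ W, s * x * s⁻¹ = s * w * s⁻¹ := by
    rcases D.fsd.four.cases D.zW D.vW D.z1 D.v1 D.vz.symm hw with e | e | e | e <;> rw [e]
    · exact ⟨1, one_mem _, by simp⟩
    · exact ⟨z, D.zW, by rw [hsz, mul_inv_cancel_right]⟩
    · exact ⟨z * v, mul_mem D.zW D.vW, h2⟩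
    · exact ⟨v, D.vW, hsv⟩
  have := congrArg (fun t => s⁻¹ * t * s) hxe
  simp only [mul_assoc, inv_mul_cancel_left, inv_mul_cancel, mul_one] at this
  exact this ▸ hx

theorem Duo.card_core_eq : Nat.card (core v) = Nat.card (core z) := by
  obtain ⟨g, hgN, hg⟩ := D.fsd.four.exists_conj D.zW D.vW D.z1 D.v1
  have hle : ∀ {a b a' : L}, Duo L W c a a' → g * a * g⁻¹ = b ∨ g⁻¹ * a * g = b →
      Nat.card (core a) ≤ Nat.card (core b) := by
    intro a b a' hD h
    rcases h with rfl | rfl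
    · exact Nat.card_le_card_of_injective (fun o => (⟨g * o.1 * g⁻¹, hD.core_conj o.2⟩ : core (g * a * g⁻¹)))
        fun o o' e => Subtype.ext (by simpa using congrArg Subtype.val e)
    · refine Nat.card_le_card_of_injective (fun o => (⟨g⁻¹ * o.1 * g, ?_⟩ : core (g⁻¹ * a * g)))
        fun o o' e => Subtype.ext (by simpa using congrArg Subtype.val e)
      simpa using hD.core_conj (g := g⁻¹) o.2
  refine le_antisymm (hle D.flip (Or.inr ?_)) (hle D (Or.inl hg))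
  rw [← hg]; group

variable {E : Subgroup L} (hE : E ≤ core z) (hne : E ≠ ⊥)

omit D in
/-- `C(E)`. -/
abbrev Nc (E : Subgroup L) : Subgroup L := centralizer (E : Set L)

include hE

theorem Duo.core_le_cen : core z ≤ Nc E := fun _ ho =>
  mem_cen.2 fun _ he => D.comm_core ho (hE he)

theorem Duo.z_cen : z ∈ Nc E := mem_cen.2 fun e he => (mem_cen1.1 (D.core_le (hE he))).symm

theorem Duo.norm_Rc {g r : L} (hg : g ∈ Cz z) (hr : r ∈ Rc E) : g * r * g⁻¹ ∈ Rc E :=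
  Rc_conj (fun _ he => D.normalizes hE hg he)
    (fun e he => by simpa using D.normalizes hE (inv_mem hg) he) hr

theorem Duo.Rc_inf : Rc E ⊓ Cz z ≤ core z := by
  intro x hx
  by_contra hxc
  have ho : Odd (orderOf x) :=
    (card_Rc_odd E).of_dvd_nat (Subgroup.orderOf_dvd_natCard _ (mem_inf.1 hx).1)
  have hz := D.normal_gen (X := Rc E ⊓ Cz z) (fun g hg a ha =>
    mem_inf.2 ⟨D.norm_Rc hE hg (mem_inf.1 ha).1, mul_mem (mul_mem hg (mem_inf.1 ha).2) (inv_mem hg)⟩) hx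
    (mem_inf.1 hx).2 ho hxc
  have h2 := (card_Rc_odd E).of_dvd_nat (Subgroup.orderOf_dvd_natCard _ (mem_inf.1 hz).1)
  rw [D.fsd.four.orderOf_eq D.zW D.z1] at h2
  exact absurd h2 (by decide)

include hne

theorem Duo.isolated : ∀ g ∈ Nc E, ∃ r ∈ Rc E, r⁻¹ * g ∈ Cz z := by
  haveI : Fact (Nat.Prime 2) := ⟨Nat.prime_two⟩
  obtain ⟨e, he, he1⟩ := (bot_or_exists_ne_one E).resolve_left hne
  set Z : ↥(Nc E) := ⟨z, D.z_cen hE⟩ with hZ
  have hZ2 : orderOf Z = 2 := by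
    rw [hZ, Subgroup.orderOf_mk]; exact D.fsd.four.orderOf_eq D.zW D.z1
  obtain ⟨S₀, hS₀⟩ := (IsPGroup.of_card (p := 2) (n := 1) (by rw [Nat.card_zpowers, hZ2, pow_one]) :
    IsPGroup 2 (zpowers Z)).exists_le_sylow
  have hZS : Z ∈ (S₀ : Subgroup ↥(Nc E)) := hS₀ (mem_zpowers Z)
  have huniq : ∀ j : ↥(Nc E), j * j = 1 → j ≠ 1 → j * Z = Z * j → j = Z := by
    intro j hj hj1 hjz
    refine Subtype.ext (D.invol_fix (mem_cen1.2 (congrArg Subtype.val hjz)) (congrArg Subtype.val hj)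
      (fun h => hj1 (Subtype.ext h)) (hE he) he1 (mem_cen.1 j.2 e he))
  -- `Z` is central in `S₀`
  have hcent : ∀ s ∈ (S₀ : Subgroup ↥(Nc E)), s * Z = Z * s := by
    intro s hs
    haveI : Nontrivial (S₀ : Subgroup ↥(Nc E)) := ⟨⟨⟨Z, hZS⟩, 1, fun h => by
      rw [show Z = 1 from congrArg Subtype.val h, orderOf_one] at hZ2; omega⟩⟩
    haveI := S₀.2.center_nontrivial
    obtain ⟨j, hj⟩ := exists_prime_orderOf_dvd_card' (G := center (S₀ : Subgroup ↥(Nc E))) 2 (by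
      obtain ⟨n, hn, hn'⟩ := ((S₀.2.to_subgroup _).nontrivial_iff_card).1 ‹_›
      rw [hn']; exact dvd_pow_self 2 (by omega))
    have hjZ : ((j.1 : (S₀ : Subgroup ↥(Nc E))) : ↥(Nc E)) = Z := by
      refine huniq _ ?_ ?_ (congrArg Subtype.val (mem_center_iff.1 j.2 ⟨Z, hZS⟩)).symm
      · have h := pow_orderOf_eq_one j
        rw [hj, pow_two] at h
        exact congrArg Subtype.val (congrArg Subtype.val h)
      · intro h
        rw [show j = 1 from Subtype.ext (Subtype.ext h), orderOf_one] at hj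
        omega
    rw [← hjZ]
    exact congrArg Subtype.val (mem_center_iff.1 j.2 ⟨s, hs⟩)
  have hiso : ∀ g : ↥(Nc E), g * Z * g⁻¹ ∈ (S₀ : Subgroup ↥(Nc E)) → g * Z * g⁻¹ = Z := by
    intro g hg
    refine huniq _ ?_ ?_ (hcent _ hg)
    · rw [show g * Z * g⁻¹ * (g * Z * g⁻¹) = g * (Z * Z) * g⁻¹ by group,
        show Z * Z = 1 from Subtype.ext D.zz]
      group
    · intro h
      rw [show Z = 1 by simpa [mul_assoc] using congrArg (fun t => g⁻¹ * t * g) h, orderOf_one] at hZ2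
      omega
  obtain ⟨M, hMn, hMo, hM⟩ := ZStar.StronglyClosed.involutionThm _ S₀ Z hZ2 hZS hiso
  haveI := hMn
  have hMR : M ≤ Cfsg.oddCore ↥(Nc E) := ZStar.Elements.le_oddCore hMo
  intro g hg
  set o : L := z * g * z⁻¹ * g⁻¹ with ho
  have hoR : o ∈ Rc E := ⟨_, hMR (hM ⟨g, hg⟩), rfl⟩
  obtain ⟨n, hn⟩ := card_Rc_odd E
  have hzi : z⁻¹ = z := D.fsd.four.inv D.zW
  have hzo : z * o * z⁻¹ = o⁻¹ := by
    rw [ho, hzi]
    simp only [mul_inv_rev, inv_inv, hzi, mul_assoc]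
    rw [← mul_assoc z z, D.zz, one_mul]
  set r := (o⁻¹) ^ (n + 1) with hr
  have hrR : r ∈ Rc E := pow_mem (inv_mem hoR) _
  refine ⟨r, hrR, ?_⟩
  have hr2 : r * r = o⁻¹ := by
    have h1 : (o⁻¹) ^ (2 * n + 1) = 1 := by
      rw [← hn]
      exact orderOf_dvd_iff_pow_eq_one.1 (Subgroup.orderOf_dvd_natCard _ (inv_mem hoR))
    rw [hr, ← pow_add, show n + 1 + (n + 1) = 2 * n + 1 + 1 by omega, pow_succ, h1, one_mul]
  have hzr : z * r * z⁻¹ = r⁻¹ := by
    rw [hr, ← conj_pow, show z * o⁻¹ * z⁻¹ = (z * o * z⁻¹)⁻¹ by group, hzo, inv_inv, inv_pow, inv_inv]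
  rw [mem_cen1]
  refine mul_inv_eq_iff_eq_mul.1 ?_
  -- `g z g⁻¹ = r z r⁻¹`
  have e1 : g * z * g⁻¹ = z * o := by
    rw [ho]
    simp only [hzi, ← mul_assoc, D.zz, one_mul]
  have e2 : r * z * r⁻¹ = z * o := by
    calc r * z * r⁻¹ = z * ((z⁻¹ * r * z) * r⁻¹) := by group
      _ = z * (r⁻¹ * r⁻¹) := by
          rw [show z⁻¹ * r * z = z * r * z⁻¹ by rw [hzi], hzr]
      _ = z * o := by rw [← mul_inv_rev, hr2, inv_inv]
  calc r⁻¹ * g * z * (r⁻¹ * g)⁻¹ = r⁻¹ * (g * z * g⁻¹) * r := by group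
    _ = r⁻¹ * (r * z * r⁻¹) * r := by rw [e1, e2]
    _ = z := by group

theorem Duo.core_le_Rc : core z ≤ Rc E := by
  set N := Nc E
  haveI hn : (Cfsg.oddCore ↥N).Normal := by unfold Cfsg.oddCore; infer_instance
  set p := QuotientGroup.mk' (Cfsg.oddCore ↥N) with hp
  set K := ((core z).subgroupOf N).map p with hK
  haveI : K.Normal := by
    refine ⟨fun a ha q => ?_⟩
    obtain ⟨b, hb, rfl⟩ := ha
    obtain ⟨g, rfl⟩ := QuotientGroup.mk'_surjective (Cfsg.oddCore ↥N) q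
    obtain ⟨r, hr, hrg⟩ := D.isolated hE hne g g.2
    obtain ⟨r', hr', rfl⟩ := hr
    set n : ↥N := r'⁻¹ * g with hn'
    have hpg : p g = p n := by
      rw [hn', map_mul, map_inv, show p r' = 1 from (QuotientGroup.eq_one_iff r').2 hr', inv_one, one_mul]
    refine ⟨n * b * n⁻¹, ?_, by rw [map_mul, map_mul, map_inv, ← hpg]⟩
    exact mem_subgroupOf.2 (D.conj_core hrg (mem_subgroupOf.1 hb))
  have hKodd : Odd (Nat.card K) := (SDBlock25.Count.card_core_odd z).of_dvd_nat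
    ((card_map_dvd _ p).trans (dvd_of_eq (Nat.card_congr
      (subgroupOfEquivOfLe (D.core_le_cen hE)).toEquiv)))
  have hbot := ZStar.Elements.quotient_oddCore K inferInstance hKodd
  rw [hK, Subgroup.map_eq_bot_iff, hp, QuotientGroup.ker_mk'] at hbot
  intro o ho
  exact ⟨⟨o, D.core_le_cen hE ho⟩, hbot (mem_subgroupOf.2 ho), rfl⟩

theorem Duo.Rc_inf_eq : Rc E ⊓ Cz z = core z :=
  le_antisymm (D.Rc_inf hE) (le_inf (D.core_le_Rc hE hne) D.core_le)

/-- An element of odd order of `C(E)` centralising `v` lies in the odd core. -/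
theorem Duo.odd_mem_Rc {y : L} (hy : y ∈ Nc E) (ho : Odd (orderOf y)) (hyv : y * v = v * y) :
    y ∈ Rc E := by
  obtain ⟨r, hr, hn⟩ := D.isolated hE hne y hy
  set n := r⁻¹ * y with hn'
  have hnN : n ∈ Nc E := mul_mem (inv_mem (Rc_le E hr)) hy
  obtain ⟨π, hs, hk, -, hv⟩ := D.exists_pi
  obtain ⟨e, he, he1⟩ := (bot_or_exists_ne_one E).resolve_left hne
  have hd : GL23.det4 (GL23.q4 (π ⟨n, hn⟩)) = 1 := by
    by_contra h
    have := (D.det_cases hs hk hv ⟨n, hn⟩).2 h e (hE he)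
    change n * e * n⁻¹ = e⁻¹ at this
    rw [mem_cen.1 hnN e he, mul_inv_cancel_right] at this
    exact he1 (D.core_eq_one (hE he) this.symm)
  -- `v` commutes with `n` modulo the core
  have hcm : v * n * v⁻¹ * n⁻¹ ∈ core z := by
    refine D.Rc_inf hE (mem_inf.2 ⟨?_, mul_mem (mul_mem (mul_mem D.v_mem hn) (inv_mem D.v_mem)) (inv_mem hn)⟩)
    have e1 : v * n * v⁻¹ * n⁻¹ = (v * r⁻¹ * v⁻¹) * r := by
      calc v * n * v⁻¹ * n⁻¹ = v * r⁻¹ * v⁻¹ * (v * y * v⁻¹) * (y⁻¹ * r) := by rw [hn']; group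
        _ = v * r⁻¹ * v⁻¹ * r := by rw [← hyv]; group
    rw [e1]
    exact mul_mem (D.norm_Rc hE D.v_mem (inv_mem hr)) hr
  set N' : ↥(Cz z) := ⟨n, hn⟩
  set V : ↥(Cz z) := ⟨v, D.v_mem⟩
  have hπ : π N' * π V = π V * π N' := by
    have h : π (V * N' * V⁻¹ * N'⁻¹) = 1 :=
      MonoidHom.mem_ker.1 (hk ▸ (D.mem_core (a := V * N' * V⁻¹ * N'⁻¹)).1 hcm)
    rw [map_mul, map_mul, map_mul, map_inv, map_inv, mul_inv_eq_one, mul_inv_eq_iff_eq_mul] at h
    exact h.symm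
  have hsq : π (N' * N') = 1 := GL23.q4_injective (by
    rw [GL23.q4_one, map_mul, GL23.q4_mul]
    exact GL23.comm_refl _ hd _ (hv D.v_mem) (by rw [← GL23.q4_mul, ← GL23.q4_mul, hπ]))
  have hn2 : n * n ∈ Rc E :=
    D.core_le_Rc hE hne ((D.mem_core (a := N' * N')).2 (hk ▸ MonoidHom.mem_ker.2 hsq))
  haveI hRn : (Cfsg.oddCore ↥(Nc E)).Normal := by unfold Cfsg.oddCore; infer_instance
  have hy2 : y * y ∈ Rc E := by
    obtain ⟨r', hr', rfl⟩ := hr
    obtain ⟨a, ha, hae⟩ := hn2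
    refine ⟨r' * (⟨n, hnN⟩ * r' * ⟨n, hnN⟩⁻¹) * a, mul_mem (mul_mem hr' (hRn.conj_mem _ hr' _)) ha, ?_⟩
    simp only [coe_subtype] at hae
    simp only [map_mul, map_inv, coe_subtype, hae]
    rw [hn']
    simp only [coe_subtype]
    group
  obtain ⟨m, hm⟩ := ho
  have e2 : y = (y * y) ^ (m + 1) := by
    rw [← pow_two, ← pow_mul, show 2 * (m + 1) = orderOf y + 1 by omega, pow_succ, pow_orderOf_eq_one,
      one_mul]
  rw [e2]
  exact pow_mem hy2 _

theorem Duo.card_cen_inf : Nat.card ↥(Nc E ⊓ Cz z) = 24 * Nat.card (core z) := by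
  obtain ⟨e, he, he1⟩ := (bot_or_exists_ne_one E).resolve_left hne
  have hidx : ((Nc E).subgroupOf (Cz z)).index = 2 := by
    rw [index_eq_two_iff']
    refine ⟨⟨v, D.v_mem⟩, fun b => ?_⟩
    simp only [mem_subgroupOf, Subgroup.coe_mul, mem_cen]
    rcases D.dicho b.2 with h | h
    · refine Or.inr ⟨fun e' he' => mul_inv_eq_iff_eq_mul.1 (h e' (hE he')), fun hcon => ?_⟩
      have h1 := hcon e he
      have h2 : v * (b : L) * e * (v * (b : L))⁻¹ = e := by rw [h1, mul_inv_cancel_right]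
      rw [show v * (b : L) * e * (v * (b : L))⁻¹ = v * ((b : L) * e * (b : L)⁻¹) * v⁻¹ by group,
        h _ (hE he), D.inverts (hE he)] at h2
      exact he1 (D.core_eq_one (hE he) h2)
    · refine Or.inl ⟨fun e' he' => mul_inv_eq_iff_eq_mul.1 ?_, fun hcon => ?_⟩
      · rw [show v * (b : L) * e' * (v * (b : L))⁻¹ = v * ((b : L) * e' * (b : L)⁻¹) * v⁻¹ by group,
          h _ (hE he'), D.inverts (inv_mem (hE he')), inv_inv]
      · have h1 := h e (hE he)
        rw [hcon e he, mul_inv_cancel_right] at h1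
        exact he1 (D.core_eq_one (hE he) h1.symm)
  have h := card_mul_index ((Nc E).subgroupOf (Cz z))
  rw [hidx, D.card_cz, ← inf_subgroupOf_right,
    Nat.card_congr (subgroupOfEquivOfLe inf_le_right).toEquiv] at h
  omega

variable (hfam : Fam W)

include hfam

theorem Duo.Rc_inf_core : Rc E ⊓ core v = ⊥ := by
  by_contra hF
  obtain ⟨s, hsC, hsN, hsv, hsu⟩ := D.exists_swap
  set F := Rc E ⊓ core v with hFdef
  have htop := hfam v D.vW D.v1 F inf_le_right hF (Nc E) fun h hh f hf => by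
    have hFn : ∀ g ∈ Cz v, g * f * g⁻¹ ∈ F := fun g hg => D.flip.normalizes inf_le_right hg hf
    have hvW := D.fsd.four.cj_mem hh D.vW
    have hv1 : h * v * h⁻¹ ≠ 1 := fun e =>
      D.v1 (by simpa [mul_assoc] using congrArg (fun t => h⁻¹ * t * h) e)
    rcases D.fsd.four.cases D.zW D.vW D.z1 D.v1 D.vz.symm hvW with e | e | e | e
    · exact absurd e hv1
    · have := D.flip.core_conj (g := h) (mem_inf.1 hf).2
      rw [e] at this
      exact D.core_le_cen hE this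
    · exact Rc_le E (mem_inf.1 (hFn h (mem_cen1.2 (mul_inv_eq_iff_eq_mul.1 e)))).1
    · have e' : s * h * v * (s * h)⁻¹ = v := by
        rw [show s * h * v * (s * h)⁻¹ = s * (h * v * h⁻¹) * s⁻¹ by group, e, hsu]
      have h1 := (mem_inf.1 (hFn (s * h) (mem_cen1.2 (mul_inv_eq_iff_eq_mul.1 e')))).1
      refine Rc_le E ?_
      have h2 := D.norm_Rc hE (inv_mem hsC) h1
      rw [show s⁻¹ * (s * h * f * (s * h)⁻¹) * s⁻¹⁻¹ = h * f * h⁻¹ by group] at h2
      exact h2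
  haveI := D.fsd.four.simple
  obtain ⟨e, he, he1⟩ := (bot_or_exists_ne_one E).resolve_left hne
  have hec : e ∈ center L := mem_center_iff.2 fun g => mem_cen.1 (show g ∈ Nc E by rw [htop]; exact mem_top g) e he
  rcases (inferInstance : (center L).Normal).eq_bot_or_eq_top with h | h
  · rw [h, mem_bot] at hec; exact he1 hec
  · exact D.fsd.four.nc fun a b => (mem_center_iff.1 (h ▸ mem_top b) a)

theorem Duo.card_Rc_v : Nat.card ↥(Rc E ⊓ Cz v) ∣ 3 := by
  have h := D.flip.odd_card (A := Rc E ⊓ Cz v) inf_le_right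
    ((card_Rc_odd E).of_dvd_nat (card_dvd_of_le inf_le_left))
  have hbot : Rc E ⊓ Cz v ⊓ core v = ⊥ :=
    le_bot_iff.1 (fun x hx => (D.Rc_inf_core hE hne hfam).le ⟨(mem_inf.1 (mem_inf.1 hx).1).1,
      (mem_inf.1 hx).2⟩)
  rwa [hbot, card_bot, mul_one] at h

omit hfam in
theorem Duo.card_Rc_swap : Nat.card ↥(Rc E ⊓ Cz (z * v)) = Nat.card ↥(Rc E ⊓ Cz v) := by
  obtain ⟨s, hsC, hsN, hsv, hsu⟩ := D.exists_swap
  have key : ∀ a b : L, s * a * s⁻¹ = b →
      Nat.card ↥(Rc E ⊓ Cz a) ≤ Nat.card ↥(Rc E ⊓ Cz b) := by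
    intro a b hab
    refine Nat.card_le_card_of_injective (fun x => (⟨s * x.1 * s⁻¹, D.norm_Rc hE hsC (mem_inf.1 x.2).1,
      mem_cen1.2 ?_⟩ : ↥(Rc E ⊓ Cz b))) fun x y e => Subtype.ext (by simpa using congrArg Subtype.val e)
    rw [← hab]
    calc s * x.1 * s⁻¹ * (s * a * s⁻¹) = s * (x.1 * a) * s⁻¹ := by group
      _ = s * (a * x.1) * s⁻¹ := by rw [mem_cen1.1 (mem_inf.1 x.2).2]
      _ = _ := by group
  exact le_antisymm (key _ _ hsu) (key _ _ hsv)

omit hfam in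
theorem Duo.card_Rc : Nat.card (Rc E) =
    Nat.card (core z) * Nat.card ↥(Rc E ⊓ Cz v) ^ 2 := by
  have h := Goldschmidt53.RankTwoBad.brauer_wielandt (Rc E) (card_Rc_odd E) D.zz D.vv D.zv_comm
    (fun r hr => D.norm_Rc hE D.z_mem hr) (fun r hr => D.norm_Rc hE D.v_mem hr)
  have hbot : Rc E ⊓ Cz z ⊓ Cz v = ⊥ := by
    rw [eq_bot_iff]
    intro x hx
    obtain ⟨h12, h3⟩ := mem_inf.1 hx
    have hxo := D.Rc_inf hE h12
    refine D.core_eq_one hxo ?_
    rw [← D.inverts hxo, ← mem_cen1.1 h3, mul_inv_cancel_right]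
  rw [hbot, card_bot, one_pow, mul_one, D.Rc_inf_eq hE hne, D.card_Rc_swap hE hne] at h
  rw [h, pow_two, mul_assoc]

omit hfam in
theorem Duo.card_cen : Nat.card (Nc E) = 24 * Nat.card (Rc E) := by
  set N := Nc E
  haveI hn : (Cfsg.oddCore ↥N).Normal := by unfold Cfsg.oddCore; infer_instance
  set R := Cfsg.oddCore ↥N
  set H := (Cz z).subgroupOf N
  have htop : H ⊔ R = ⊤ := by
    refine eq_top_iff.2 fun g _ => ?_
    obtain ⟨r, hr, hrg⟩ := D.isolated hE hne g g.2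
    obtain ⟨r', hr', rfl⟩ := hr
    have e : g = r' * (r'⁻¹ * g) := by group
    rw [e]
    exact mul_mem (mem_sup_right hr') (mem_sup_left (mem_subgroupOf.2 hrg))
  have h1 := card_sup_inf (H := H) (K := R) (by rw [normalizer_eq_top]; exact le_top)
  rw [htop, card_top] at h1
  have hH : Nat.card H = 24 * Nat.card (core z) := by
    show Nat.card ((Cz z).subgroupOf N) = _
    rw [← inf_subgroupOf_left, Nat.card_congr (subgroupOfEquivOfLe inf_le_left).toEquiv]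
    exact D.card_cen_inf hE hne
  have hR : Nat.card R = Nat.card (Rc E) := (card_map_of_injective (subtype_injective _)).symm
  have hHR : Nat.card ↥(H ⊓ R) = Nat.card (core z) := by
    have hcm : Nat.card ↥((H ⊓ R).map N.subtype) = Nat.card ↥(H ⊓ R) :=
      card_map_of_injective (subtype_injective N)
    rw [← hcm, Subgroup.map_inf _ _ _ (subtype_injective N),
      show H.map N.subtype = Cz z ⊓ N from subgroupOf_map_subtype _ _, show R.map N.subtype = Rc E from rfl,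
      inf_right_comm, inf_comm (Cz z), D.Rc_inf_eq hE hne,
      inf_eq_left.2 (D.core_le_cen hE)]
  rw [hH, hR, hHR] at h1
  exact Nat.eq_of_mul_eq_mul_right Nat.card_pos (h1.trans (by ring))

end Cfsg.Agent.Lib.Suborbit46
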