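import Cfsg.Agent.Lib.Suborbit46.Data
import Cfsg.Agent.Lib.Suborbit46.Kill1

/-!
# Point stabilisers of order 48: the four-group `W` and the normal subgroup `D` of `N(P)`
-/

set_option autoImplicit false
set_option linter.unusedSectionVars false
set_option linter.style.haveILetI false

namespace Cfsg.Agent.Lib.Suborbit46

open Subgroup
open scoped commutatorElement Pointwise

universe u

variable {G : Type u} [Group G] [Finite G] {H P : Subgroup G}

/-- The data for `|H| = 48`. -/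
structure Big (G : Type u) [Group G] (H P : Subgroup G) (g c z : G) (W : Subgroup G) : Prop where
  pair : Pair G H P g
  cardV : Nat.card (V H P) = 8
  cardP : Nat.card P = 16
  cardH : Nat.card H = 48
  zMem : z ∈ Z0 H P
  z1 : z ≠ 1
  zAll : ∀ x ∈ Z0 H P, x = 1 ∨ x = z
  cH : c ∈ H
  c3 : c * c * c = 1
  c1 : c ≠ 1
  WV : W ≤ V H P
  W4 : Nat.card W = 4
  Wn : H ≤ normalizer (W : Set G)
  W0 : ∀ w ∈ W, w ∈ Z0 H P → w = 1

/-- Existence of the data. -/
theorem Con.exists_big (C : Con G H P) (hZ0 : Nat.card (Z0 H P) = 2) (hV : Nat.card (V H P) = 8)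
    (hP : Nat.card P = 16) (hH : Nat.card H = 48) : ∃ g c z W, Big G H P g c z W := by
  classical
  haveI : Fact (Nat.Prime 3) := ⟨Nat.prime_three⟩
  haveI : Fact (Nat.Prime 2) := ⟨Nat.prime_two⟩
  obtain ⟨g, Q⟩ := C.exists_pair
  obtain ⟨⟨z, hz⟩, hzo⟩ := exists_prime_orderOf_dvd_card' (G := Z0 H P) 2 (by rw [hZ0])
  rw [← Subgroup.orderOf_coe] at hzo
  simp only at hzo
  have hz1 : z ≠ 1 := fun e => by rw [e, orderOf_one] at hzo; omega
  have hzAll : ∀ x ∈ Z0 H P, x = 1 ∨ x = z := fun x hx => by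
    have he := Subgroup.eq_of_le_of_card_ge (zpowers_le.2 hz)
      (by rw [hZ0, Nat.card_zpowers, hzo])
    rw [← he] at hx
    obtain ⟨i, rfl⟩ := hx
    show z ^ i = 1 ∨ z ^ i = z
    rw [← zpow_mod_orderOf, hzo]
    rcases Int.emod_two_eq_zero_or_one i with h | h <;> simp [h]
  obtain ⟨⟨c, hcH⟩, hc⟩ := exists_prime_orderOf_dvd_card' (G := H) 3 (by rw [hH]; norm_num)
  rw [← Subgroup.orderOf_coe] at hc
  simp only at hc
  have hc1 : c ≠ 1 := fun e => by rw [e, orderOf_one] at hc; omega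
  have hc3 : c * c * c = 1 := by
    have := pow_orderOf_eq_one c
    rwa [hc, pow_succ, pow_two] at this
  -- the commutator map
  let ψ : ↥(V H P) →* G :=
    { toFun := fun v => c * v * c⁻¹ * (v : G)⁻¹
      map_one' := by simp
      map_mul' := fun a b => by
        have h1 : c * b * c⁻¹ * (b : G)⁻¹ ∈ V H P := mul_mem (conj_V b.2 hcH) (inv_mem b.2)
        calc c * (a * b : G) * c⁻¹ * (a * b : G)⁻¹
            = (c * a * c⁻¹) * ((c * b * c⁻¹ * (b : G)⁻¹) * (a : G)⁻¹) := by group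
          _ = (c * a * c⁻¹) * ((a : G)⁻¹ * (c * b * c⁻¹ * (b : G)⁻¹)) := by
            rw [C.comm_V h1 (inv_mem a.2)]
          _ = _ := by group }
  set W := ψ.range with hW
  have hWV : W ≤ V H P := by
    rintro _ ⟨v, rfl⟩
    exact mul_mem (conj_V v.2 hcH) (inv_mem v.2)
  have hker : ψ.ker = (Z0 H P).subgroupOf (V H P) := by
    ext v
    rw [MonoidHom.mem_ker, mem_subgroupOf]
    show c * v * c⁻¹ * (v : G)⁻¹ = 1 ↔ _
    rw [mul_inv_eq_one, mul_inv_eq_iff_eq_mul]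
    exact ⟨Q.mem_Z0_of_comm hcH hc3 hc1 v.2, fun h => (mem_Z0.1 h).2 c hcH⟩
  have hW4 : Nat.card W = 4 := by
    have h := ψ.ker.card_mul_index
    rw [index_ker, ← hW, hker, Nat.card_congr (subgroupOfEquivOfLe Z0_le_V).toEquiv, hZ0, hV] at h
    omega
  -- commutators with powers of `c`
  have hpow : ∀ (n : ℕ) (v : G), v ∈ V H P → c ^ n * v * (c ^ n)⁻¹ * v⁻¹ ∈ W := by
    intro n
    induction n with
    | zero => intro v _; simp
    | succ n ih =>
      intro v hv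
      have h1 : ψ ⟨c ^ n * v * (c ^ n)⁻¹, conj_V hv (pow_mem hcH n)⟩ ∈ W := ⟨_, rfl⟩
      have := mul_mem h1 (ih v hv)
      convert this using 1
      show _ = c * (c ^ n * v * (c ^ n)⁻¹) * c⁻¹ * (c ^ n * v * (c ^ n)⁻¹)⁻¹ *
        (c ^ n * v * (c ^ n)⁻¹ * v⁻¹)
      rw [pow_succ']
      group
  -- `⟨c⟩ V` has index two in `H`
  set A := zpowers c ⊔ V H P with hA
  have hcn : zpowers c ≤ normalizer (V H P : Set G) := zpowers_le.2 (le_normalizer_V hcH)
  have hAH : A ≤ H := sup_le (zpowers_le.2 hcH) (C.V_le.trans coreIn_le_left)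
  have hAset : (A : Set G) = (zpowers c : Set G) * (V H P : Set G) :=
    Subgroup.coe_mul_of_left_le_normalizer_right _ _ hcn
  have hAcard : Nat.card A = 24 := by
    have h := card_sup_inf hcn
    have hinf : Nat.card ↥(zpowers c ⊓ V H P) = 1 := by
      have h1 := Subgroup.card_dvd_of_le (inf_le_left : zpowers c ⊓ V H P ≤ _)
      have h2 := Subgroup.card_dvd_of_le (inf_le_right : zpowers c ⊓ V H P ≤ _)
      rw [Nat.card_zpowers, hc] at h1
      rw [hV] at h2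
      exact Nat.dvd_one.1 (Nat.dvd_gcd h1 h2)
    rw [hinf, mul_one, Nat.card_zpowers, hc, hV] at h
    exact h
  have hAi : (A.subgroupOf H).index = 2 := by
    have := (A.subgroupOf H).card_mul_index
    rw [Nat.card_congr (subgroupOfEquivOfLe hAH).toEquiv, hAcard, hH] at this
    omega
  refine ⟨g, c, z, W, Q, hV, hP, hH, hz, hz1, hzAll, hcH, hc3, hc1, hWV, hW4, ?_, ?_⟩
  · refine le_normalizer_of_conj_mem fun h hh w hw => ?_
    obtain ⟨v, rfl⟩ := hw
    set d := h * c * h⁻¹ with hd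
    have hdA : d ∈ A := by
      have hdH : d ∈ H := mul_mem (mul_mem hh hcH) (inv_mem hh)
      have hd3 : d * d * d = 1 := by
        rw [hd, show h * c * h⁻¹ * (h * c * h⁻¹) * (h * c * h⁻¹) = h * (c * c * c) * h⁻¹ by group,
          hc3]
        simp
      have hm := (mul_mem_iff_of_index_two hAi (a := ⟨d * d, mul_mem hdH hdH⟩)
        (b := ⟨d * d, mul_mem hdH hdH⟩)).2 Iff.rfl
      rw [mem_subgroupOf] at hm
      have e : d * d * (d * d) = d := by rw [mul_assoc, ← mul_assoc d d d, hd3, mul_one]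
      exact e ▸ hm
    rw [← SetLike.mem_coe, hAset, Set.mem_mul] at hdA
    obtain ⟨a, ha, u, hu, hau⟩ := hdA
    obtain ⟨n, rfl⟩ : ∃ n : ℕ, c ^ n = a := Submonoid.mem_powers_iff _ _ |>.1
      (mem_powers_iff_mem_zpowers.2 ha)
    set v' := h * v * h⁻¹ with hv'
    have hv'V : v' ∈ V H P := conj_V v.2 hh
    have huv : u * v' * u⁻¹ = v' := by rw [C.comm_V hu hv'V, mul_inv_cancel_right]
    show h * (c * v * c⁻¹ * (v : G)⁻¹) * h⁻¹ ∈ W
    rw [show h * (c * v * c⁻¹ * (v : G)⁻¹) * h⁻¹ = d * v' * d⁻¹ * v'⁻¹ by rw [hd, hv']; group,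
      ← hau, show c ^ n * u * v' * (c ^ n * u)⁻¹ * v'⁻¹ =
        c ^ n * (u * v' * u⁻¹) * (c ^ n)⁻¹ * v'⁻¹ by group, huv]
    exact hpow n v' hv'V
  · rintro _ ⟨v, rfl⟩ h0
    set a := ψ v
    have ha : c * a * c⁻¹ = a := by rw [(mem_Z0.1 h0).2 c hcH, mul_inv_cancel_right]
    have e : c * v * c⁻¹ = a * (v : G) := by
      show c * v * c⁻¹ = c * v * c⁻¹ * (v : G)⁻¹ * v
      group
    have e3 : c * c * c * (v : G) * (c * c * c)⁻¹ = a * a * a * v := by
      calc c * c * c * (v : G) * (c * c * c)⁻¹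
          = c * (c * (c * v * c⁻¹) * c⁻¹) * c⁻¹ := by group
        _ = c * (c * (a * v) * c⁻¹) * c⁻¹ := by rw [e]
        _ = c * ((c * a * c⁻¹) * (c * v * c⁻¹)) * c⁻¹ := by group
        _ = c * (a * (a * v)) * c⁻¹ := by rw [ha, e]
        _ = (c * a * c⁻¹) * (c * a * c⁻¹) * (c * v * c⁻¹) := by group
        _ = a * a * a * v := by rw [ha, e]; group
    rw [hc3, C.sq_V (Z0_le_V h0), one_mul, one_mul, inv_one, mul_one] at e3
    exact (right_eq_mul.1 e3)

variable {g c z : G} {W : Subgroup G} (B : Big G H P g c z W)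

include B

theorem Big.zc {h : G} (hh : h ∈ H) : h * z = z * h := (mem_Z0.1 B.zMem).2 h hh

theorem Big.zV : z ∈ V H P := Z0_le_V B.zMem

theorem Big.zz : z * z = 1 := B.pair.con.sq_V B.zV

theorem Big.centralizer_z : centralizer ({z} : Set G) = H := B.pair.con.centralizer_Z0 B.zMem B.z1

theorem Big.W_H : W ≤ H := B.WV.trans (B.pair.con.V_le.trans coreIn_le_left)

theorem Big.W_P : W ≤ P := B.WV.trans B.pair.con.V_le_P

theorem Big.W_ne : W ≠ ⊥ := fun e => by
  have := B.W4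
  rw [e, card_bot] at this
  omega

theorem Big.normalizer_W : normalizer (W : Set G) = H :=
  le_antisymm (B.pair.con.setup.norm_le B.W_H B.W_ne B.Wn) B.Wn

theorem Big.cMove {w : G} (hw : w ∈ W) (h1 : w ≠ 1) : c * w * c⁻¹ ≠ w := fun e =>
  h1 (B.W0 w hw (B.pair.mem_Z0_of_comm B.cH B.c3 B.c1 (B.WV hw) (mul_inv_eq_iff_eq_mul.1 e)))

/-- `V = W × Z₀`. -/
theorem Big.V_eq : W ⊔ zpowers z = V H P := by
  refine Subgroup.eq_of_le_of_card_ge (sup_le B.WV (zpowers_le.2 B.zV)) ?_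
  rw [B.cardV]
  have hle : W ⊔ zpowers z ≤ V H P := sup_le B.WV (zpowers_le.2 B.zV)
  have h1 := Subgroup.card_dvd_of_le (le_sup_left : W ≤ W ⊔ zpowers z)
  rw [B.W4] at h1
  have h2 := Subgroup.card_dvd_of_le hle
  rw [B.cardV] at h2
  have h3 : Nat.card W < Nat.card ↥(W ⊔ zpowers z) := by
    by_contra hle'
    have he := Subgroup.eq_of_le_of_card_ge (le_sup_left : W ≤ W ⊔ zpowers z) (not_lt.1 hle')
    exact B.z1 (B.W0 z (he ▸ mem_sup_right (mem_zpowers z)) B.zMem)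
  rw [B.W4] at h3
  have := Nat.le_of_dvd (by norm_num) h2
  interval_cases hn : Nat.card ↥(W ⊔ zpowers z) <;> omega

theorem Big.centralizer_W : centralizer (W : Set G) = V H P := by
  refine le_antisymm (fun x hx => ?_) (fun x hx => mem_centralizer_iff.2 fun w hw =>
    B.pair.con.comm_V (B.WV hw) hx)
  have hxH : x ∈ H := B.normalizer_W ▸ centralizer_le_normalizer _ hx
  rw [← B.pair.con.core_eq_V]
  refine B.pair.con.cent_V hxH fun v hv => ?_
  have hle : W ⊔ zpowers z ≤ centralizer ({x} : Set G) :=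
    sup_le (fun w hw => mem_centralizer_singleton_iff.2 (mem_centralizer_iff.1 hx w hw))
      (zpowers_le.2 (mem_centralizer_singleton_iff.2 (B.zc hxH).symm))
  rw [B.V_eq] at hle
  exact (mem_centralizer_singleton_iff.1 (hle hv)).symm

/-- The commutator `ω`, its properties. -/
theorem Big.exists_omega : ∃ ω ∈ W, ω ≠ 1 ∧ ω ∈ omegaCenter P ∧ g * ω * g⁻¹ = ω ∧
    ∀ x ∈ W, x ∈ omegaCenter P → x = 1 ∨ x = ω := by
  have Q := B.pair
  have C := Q.con
  obtain ⟨t, ht, htP, htV, -⟩ := Q.exists_out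
  obtain ⟨u, hu, huZ⟩ := C.exists_notMem_Z
  have hnW : ¬ W ≤ omegaCenter P := fun hle => by
    have hcard := Subgroup.card_le_of_le (sup_le hle (zpowers_le.2 (C.Z0_le B.zMem)))
    rw [B.V_eq, B.cardV] at hcard
    have := C.card_V
    rw [B.cardV] at this
    omega
  obtain ⟨w, hw, hwZ⟩ := SetLike.not_le_iff_exists.1 hnW
  set ω := ⁅t, w⁆ with hω
  have hωW : ω ∈ W := by
    rw [hω, commutatorElement_def]
    exact mul_mem ((mem_normalizer_iff.1 (B.Wn (C.setup.le htP)) w).1 hw) (inv_mem hw)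
  have hω1 : ω ≠ 1 := C.comm_ne_one (B.WV hw) htP hwZ (C.notMem_core htV)
  have hωZ : ω ∈ omegaCenter P := C.comm_mem_Z (B.WV hw) htP
  have hω0 : ω ∉ Z0 H P := C.comm_notMem_Z0 (B.WV hw) htP hwZ (C.notMem_core htV)
  refine ⟨ω, hωW, hω1, hωZ, ?_, fun x hx hxZ => ?_⟩
  · set x := g⁻¹ * u * g with hx
    set v := g⁻¹ * t * g with hv
    have hvV : v ∈ V H P := mem_cj.1 ht
    have hvZ : v ∉ omegaCenter P := fun h => htV (Z_le_V (cj_omegaCenter_le Q.cj_P (mem_cj.2 h)))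
    have hxP : x ∈ P := mem_cj.1 (Q.cj_P.symm ▸ C.V_le_P hu)
    have hxV : x ∉ V H P := fun h => huZ (Q.inf_eq hu (mem_cj.2 h))
    have e : ω = ⁅x, v⁆ := C.comm_eq (B.WV hw) hvV hwZ hvZ htP hxP (C.notMem_core htV)
      (C.notMem_core hxV)
    calc g * ω * g⁻¹ = ⁅u, t⁆ := by rw [e, hx, hv]; simp [commutatorElement_def, mul_assoc]
      _ = ⁅t, u⁆⁻¹ := (commutatorElement_inv t u).symm
      _ = ω⁻¹ := by rw [hω, C.comm_eq (B.WV hw) hu hwZ huZ htP htP (C.notMem_core htV)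
          (C.notMem_core htV)]
      _ = ω := inv_eq_of_mul_eq_one_right hωZ.2.2
  · by_cases hx0 : x ∈ Z0 H P
    · exact Or.inl (B.W0 x hx hx0)
    · refine Or.inr ?_
      have h := B.W0 _ (mul_mem hx hωW) (C.mul_mem_Z0 hxZ hωZ hx0 hω0)
      rw [eq_inv_of_mul_eq_one_left h]
      exact inv_eq_of_mul_eq_one_right hωZ.2.2

theorem Big.cj_W_P {p : G} (hp : p ∈ P) : cj p W = W :=
  cj_eq_self.2 (B.Wn (B.pair.con.setup.le hp))

theorem Big.cj_gW_le : cj g W ≤ P := (cj_mono g B.W_P).trans B.pair.cj_P.le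

theorem Big.cj_gW_norm : cj g W ≤ normalizer (W : Set G) := fun _ hx =>
  B.Wn (B.pair.con.setup.le (B.cj_gW_le hx))

theorem Big.card_D : Nat.card ↥(W ⊔ cj g W) = 8 := by
  obtain ⟨ω, hωW, hω1, hωZ, hgω, hW2⟩ := B.exists_omega
  have h := card_sup_inf B.cj_gW_norm
  have hinf : cj g W ⊓ W = zpowers ω := by
    refine le_antisymm (fun x hx => ?_) (zpowers_le.2 (Subgroup.mem_inf.2
      ⟨mem_cj.2 ?_, hωW⟩))
    · have hxV : x ∈ V H P := B.WV (Subgroup.mem_inf.1 hx).2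
      rcases hW2 x (Subgroup.mem_inf.1 hx).2 (B.pair.inf_eq hxV
        (cj_mono g B.WV (Subgroup.mem_inf.1 hx).1)) with e | e
      · rw [e]; exact one_mem _
      · rw [e]; exact mem_zpowers ω
    · have : g⁻¹ * ω * g = ω := by
        calc g⁻¹ * ω * g = g⁻¹ * (g * ω * g⁻¹) * g := by rw [hgω]
          _ = ω := by group
      rw [this]; exact hωW
  haveI : Fact (Nat.Prime 2) := ⟨Nat.prime_two⟩
  rw [hinf, Nat.card_zpowers, orderOf_eq_prime (p := 2) (by rw [pow_two]; exact hωZ.2.2) hω1,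
    card_cj, B.W4, sup_comm] at h
  omega

theorem Big.cj_g_D : cj g (W ⊔ cj g W) = W ⊔ cj g W := by
  have h : cj g (cj g W) = W := by rw [← cj_mul]; exact B.cj_W_P B.pair.gg_mem
  rw [cj, Subgroup.map_sup]
  change cj g W ⊔ cj g (cj g W) = _
  rw [h, sup_comm]

theorem Big.D_le : W ⊔ cj g W ≤ P := sup_le B.W_P B.cj_gW_le

theorem Big.D_normal : normalizer (P : Set G) ≤ normalizer (↑(W ⊔ cj g W) : Set G) := by
  intro n hn
  have hp : ∀ p ∈ P, p ∈ normalizer (↑(W ⊔ cj g W) : Set G) := fun p hp => cj_eq_self.1 (by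
    rw [cj, Subgroup.map_sup]
    change cj p W ⊔ cj p (cj g W) = _
    rw [B.cj_W_P hp, ← cj_mul, show p * g = g * (g⁻¹ * p * g) by group, cj_mul,
      B.cj_W_P (mem_cj.1 (B.pair.cj_P.symm ▸ hp))])
  rcases B.pair.mem_or hn with h | h
  · exact hp n h
  · simpa using mul_mem (cj_eq_self.1 B.cj_g_D) (hp _ h)

theorem Big.z_notMem_D : z ∉ W ⊔ cj g W := fun hz => by
  have C := B.pair.con
  have hV : V H P ≤ W ⊔ cj g W := B.V_eq ▸ sup_le le_sup_left (zpowers_le.2 hz)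
  obtain ⟨t, ht, htP, htV, -⟩ := B.pair.exists_out
  have hP : P ≤ W ⊔ cj g W := C.setup.le_of_core_le C.ne_bot htP (C.notMem_core htV)
    (C.core_eq_V ▸ hV) (B.cj_g_D ▸ cj_mono g hV ht)
  have := Subgroup.card_le_of_le hP
  rw [B.card_D, B.cardP] at this
  omega

/-- `c` permutes the involutions of `W` cyclically. -/
theorem Big.conj_conj {w : G} (hw : w ∈ W) (h1 : w ≠ 1) :
    c * (c * w * c⁻¹) * c⁻¹ = w * (c * w * c⁻¹) := by
  set u := c * w * c⁻¹ with hu
  have huW : u ∈ W := (mem_normalizer_iff.1 (B.Wn B.cH) w).1 hw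
  have huu : u * u = 1 := B.pair.con.sq_V (B.WV huW)
  have hu1 : u ≠ 1 := fun e => h1 (conj_eq_one_iff.1 e)
  have hne : w ≠ u := (B.cMove hw h1).symm
  have hwu1 : w * u ≠ 1 := fun e => hne (by
    rw [eq_inv_of_mul_eq_one_left e, inv_eq_of_mul_eq_one_right huu])
  have h4 : ({1, w, u, w * u, c * u * c⁻¹} : Set G).ncard ≤ 4 := by
    rw [← B.W4]
    refine (Set.ncard_le_ncard ?_ (Set.toFinite _)).trans (Nat.card_coe_set_eq _).ge
    simp only [Set.insert_subset_iff, Set.singleton_subset_iff]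
    exact ⟨one_mem _, hw, huW, mul_mem hw huW, (mem_normalizer_iff.1 (B.Wn B.cH) u).1 huW⟩
  by_contra hne'
  have hcu1 : c * u * c⁻¹ ≠ 1 := fun e => hu1 (conj_eq_one_iff.1 e)
  have hcuu : c * u * c⁻¹ ≠ u := B.cMove huW hu1
  have hcuw : c * u * c⁻¹ ≠ w := fun e => B.cMove hw h1 (by
    calc c * w * c⁻¹ = c * (c * u * c⁻¹) * c⁻¹ := by rw [e]
      _ = c * c * c * w * (c * c * c)⁻¹ := by rw [hu]; group
      _ = w := by rw [B.c3]; simp)
  rw [Set.ncard_insert_of_notMem, Set.ncard_insert_of_notMem, Set.ncard_insert_of_notMem,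
    Set.ncard_pair (Ne.symm hne')] at h4
  · omega
  · simp [hcuu.symm, h1]
  · simp [hne, hcuw.symm, hu1]
  · simp [Ne.symm h1, hu1.symm, hwu1.symm, hcu1.symm]

end Cfsg.Agent.Lib.Suborbit46
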