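import Cfsg.Agent.Lib.Suborbit46.Setup
import Cfsg.Agent.Lib.HallNumber68.Basic

/-!
# Normal subgroups of a group with a suborbit of length three
-/

set_option autoImplicit false
set_option linter.unusedSectionVars false
set_option linter.style.haveILetI false

namespace Cfsg.Agent.Lib.Suborbit46

open Subgroup

universe u

variable {G : Type u} [Group G] [Finite G] {H P : Subgroup G} (S : Setup G H P)

include S

theorem Setup.sup_normal {N : Subgroup G} [N.Normal] (hN : N ≠ ⊥) : N ⊔ H = ⊤ :=
  S.coatom.2 _ (lt_of_le_of_ne le_sup_right fun e => hN (S.core N (e ▸ le_sup_left) inferInstance))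

theorem Setup.isSolvable_left : Group.IsSolvable H := by
  haveI : Fact (Nat.Prime 2) := ⟨Nat.prime_two⟩
  have h6 : ¬ 4 ∣ 6 := by norm_num
  set Q := P.subgroupOf H
  haveI hK : Group.IsSolvable Q.normalCore := by
    haveI : IsPGroup 2 Q.normalCore :=
      (IsPGroup.of_equiv S.twoP (subgroupOfEquivOfLe S.le).symm).to_le Q.normalCore_le
    haveI := this.isNilpotent
    infer_instance
  haveI : Group.IsSolvable (H ⧸ Q.normalCore) := by
    refine HallNumber68.isSolvable_of_not_four_dvd fun h4 => h6 (h4.trans ?_)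
    have hd := card_subgroup_dvd_card (MulAction.toPermHom H (H ⧸ Q)).range
    rw [Nat.card_perm, ← index_eq_card, show Q.index = 3 from S.index_three, ← index_ker,
      ← normalCore_eq_ker] at hd
    exact hd
  exact solvable_of_ker_le_range Q.normalCore.subtype (QuotientGroup.mk' Q.normalCore) (by simp)

omit S in
theorem map_mk_eq_top {N : Subgroup G} [N.Normal] (h : N ⊔ H = ⊤) :
    H.map (QuotientGroup.mk' N) = ⊤ := by
  have h1 := Subgroup.map_sup N H (QuotientGroup.mk' N)
  rw [h, map_top_of_surjective _ (QuotientGroup.mk'_surjective N),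
    QuotientGroup.map_mk'_self, bot_sup_eq] at h1
  exact h1.symm

theorem Setup.isSolvable_quotient {N : Subgroup G} [N.Normal] (hN : N ≠ ⊥) :
    Group.IsSolvable (G ⧸ N) := by
  haveI := S.isSolvable_left
  refine solvable_of_surjective (f := (QuotientGroup.mk' N).comp H.subtype) ?_
  rw [← MonoidHom.range_eq_top, MonoidHom.range_comp, Subgroup.range_subtype]
  exact map_mk_eq_top (S.sup_normal hN)

theorem Setup.normal_eq_bot {N : Subgroup G} [N.Normal] (hs : Group.IsSolvable N) : N = ⊥ := by
  by_contra hne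
  haveI := hs
  haveI := S.isSolvable_quotient hne
  exact S.notSol (solvable_of_ker_le_range N.subtype (QuotientGroup.mk' N) (by simp))

/-- A normal subgroup with a soluble quotient is insoluble. -/
theorem Setup.notSol_of_index_two {N : Subgroup G} [N.Normal] (h2 : N.index = 2) :
    ¬ Group.IsSolvable N := fun hs => by
  haveI := hs
  haveI : Group.IsSolvable (G ⧸ N) := by
    refine HallNumber68.isSolvable_of_not_four_dvd fun h4 => ?_
    rw [← index_eq_card, h2] at h4
    norm_num at h4
  exact S.notSol (solvable_of_ker_le_range N.subtype (QuotientGroup.mk' N) (by simp))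

/-- Without subgroups of index two the group is simple. -/
theorem Setup.isSimpleGroup (hP : P ≠ ⊥) (hno : ∀ N : Subgroup G, N.index ≠ 2) :
    IsSimpleGroup G := by
  haveI : Fact (Nat.Prime 2) := ⟨Nat.prime_two⟩
  haveI : Nontrivial G := by
    refine not_subsingleton_iff_nontrivial.1 fun hs => hP ?_
    exact Subsingleton.elim _ _
  refine ⟨fun N hN => ?_⟩
  by_contra! hne
  haveI := hN
  haveI := S.isSolvable_quotient hne.1
  haveI : Nontrivial (G ⧸ N) := QuotientGroup.nontrivial_iff.2 hne.2
  haveI : Nontrivial (Abelianization (G ⧸ N)) := by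
    change Nontrivial ((G ⧸ N) ⧸ _root_.commutator (G ⧸ N))
    exact QuotientGroup.nontrivial_iff.2 (Group.IsSolvable.commutator_lt_top_of_nontrivial _).ne
  set ψ : G →* Abelianization (G ⧸ N) := Abelianization.of.comp (QuotientGroup.mk' N) with hψ
  obtain ⟨h, hh, hn⟩ := S.exists_notMem
  have hconj : (cj h P).map ψ = P.map ψ := by
    rw [cj, map_map]
    congr 1
    ext x
    simp [mul_comm (ψ h)]
  have htop : P.map ψ = ⊤ := by
    have h1 : H.map ψ = ⊤ := by
      rw [hψ, ← map_map, map_mk_eq_top (S.sup_normal hne.1)]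
      exact map_top_of_surjective _ QuotientGroup.mk_surjective
    rwa [← S.sup_conj_eq hP hh hn, Subgroup.map_sup, hconj, sup_idem] at h1
  have hA : IsPGroup 2 (⊤ : Subgroup (Abelianization (G ⧸ N))) := htop ▸ S.twoP.map ψ
  obtain ⟨k, hk⟩ := IsPGroup.iff_card.1 hA
  rw [card_top] at hk
  have hk1 : 1 ≤ k := by
    by_contra h0
    have h2 := Finite.one_lt_card_iff_nontrivial.2
      (inferInstance : Nontrivial (Abelianization (G ⧸ N)))
    rw [hk, show k = 0 by omega] at h2
    norm_num at h2
  obtain ⟨B, hB⟩ := Sylow.exists_subgroup_card_pow_prime 2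
    (G := Abelianization (G ⧸ N)) (n := k - 1) (hk ▸ pow_dvd_pow 2 (Nat.sub_le k 1))
  refine hno (B.comap ψ) ?_
  rw [index_comap_of_surjective B (MonoidHom.range_eq_top.1 (eq_top_iff.2 (htop ▸ map_le_range _ _)))]
  have h2 := B.card_mul_index
  rw [hB, hk, show k = k - 1 + 1 by omega, pow_succ, Nat.add_sub_cancel] at h2
  exact Nat.eq_of_mul_eq_mul_left (pow_pos two_pos _) h2

end Cfsg.Agent.Lib.Suborbit46
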