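import Cfsg.Agent.Lib.Suborbit46.M11Excl
import Cfsg.Agent.Lib.BC77.CyclicCentPair.Main
import Cfsg.Agent.S0483
import Cfsg.Agent.Lib.Linear.Order

/-!
# Dihedral or semidihedral Sylow `2`-subgroups
-/

set_option autoImplicit false
set_option linter.unusedSectionVars false
set_option linter.style.haveILetI false

namespace Cfsg.Agent.Lib.Suborbit46

open Subgroup

universe u

variable {L : Type u} [Group L] [Finite L] {W : Subgroup L} {c : L} (F : Four L W c)

include F

/-- An element of odd order of `N(W)` centralising an involution of `W` is trivial. -/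
theorem Four.eq_one_of_odd {e w : L} (he : e ∈ normalizer (W : Set L)) (hodd : Odd (orderOf e))
    (hw : w ∈ W) (h1 : w ≠ 1) (hc : e * w = w * e) : e = 1 := by
  obtain ⟨b, hb, hb1, hbw⟩ := F.exists_other hw
  have hw' : e * w * e⁻¹ = w := by rw [hc, mul_inv_cancel_right]
  have hee : e * e * b * (e * e)⁻¹ = b := by
    have hr : e * e * b * (e * e)⁻¹ = e * (e * b * e⁻¹) * e⁻¹ := by group
    rcases F.cases hw hb h1 hb1 hbw.symm (F.cj_mem he hb) with h | h | h | h
    · exact absurd (conj_eq_one_iff.1 h) hb1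
    · exact absurd (MulAut.conj e |>.injective (show MulAut.conj e b = MulAut.conj e w by
        rw [MulAut.conj_apply, MulAut.conj_apply, h, hw'])) hbw
    · rw [hr, h, h]
    · rw [hr, h, show e * (w * b) * e⁻¹ = (e * w * e⁻¹) * (e * b * e⁻¹) by group, hw', h,
        ← mul_assoc, F.sq w hw, one_mul]
  have hm : e * e ∈ W := F.mem_of_comm hw hb h1 hb1 hbw.symm
    ((show Commute e w from hc).mul_left hc).eq (mul_inv_eq_iff_eq_mul.1 hee)
  have hd : orderOf e ∣ 4 := orderOf_dvd_of_pow_eq_one (by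
    rw [show e ^ 4 = e * e * (e * e) by simp [pow_succ, mul_assoc]]
    exact F.sq _ hm)
  refine orderOf_eq_one_iff.1 ?_
  have := Nat.le_of_dvd (by norm_num) hd
  obtain ⟨k, hk⟩ := hodd
  interval_cases ho : orderOf e <;> omega

/-- Gorenstein–Walter or the semidihedral case. -/
theorem Four.split :
    (∃ (K : Type) (_ : Field K) (_ : Fintype K), Odd (Fintype.card K) ∧ 3 < Fintype.card K ∧
        Nonempty (L ≃* Matrix.ProjectiveSpecialLinearGroup (Fin 2) K)) ∨ FSD L W c := by
  haveI : Fact (Nat.Prime 2) := ⟨Nat.prime_two⟩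
  have h16 : ∀ S : Sylow 2 L, 16 ∣ Nat.card (S : Subgroup L) := fun S => by
    simpa using S.pow_dvd_card_of_pow_dvd_card (n := 4) (by simpa using F.big)
  by_cases hD : ∃ S : Sylow 2 L, W ≤ (S : Subgroup L) ∧
      ∃ n : ℕ, Nonempty ((S : Subgroup L) ≃* DihedralGroup n)
  · obtain ⟨S, -, n, ⟨eS⟩⟩ := hD
    haveI := F.simple
    rcases BC77.CyclicCentPair.gw_simple
        (fun {X} _ _ _ R n hn hR => Cfsg.Agent.S0483.result R n hn hR) F.nc S eS with h | ⟨⟨e⟩⟩
    · exact Or.inl h
    · exfalso
      have h := F.big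
      rw [Nat.card_congr e.toEquiv, nat_card_alternatingGroup, Nat.card_eq_fintype_card,
        Fintype.card_fin] at h
      norm_num [Nat.factorial] at h
  · push Not at hD
    refine Or.inr ⟨F, fun S hS => (F.sylow_cases hS (h16 S)).resolve_left fun ⟨n, hn⟩ => ?_⟩
    exact (not_nonempty_iff.2 (hD S hS n)) hn

end Cfsg.Agent.Lib.Suborbit46
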