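import Cfsg.Agent.Lib.Suborbit46.Data
import Cfsg.Agent.Lib.Suborbit46.General
import Cfsg.Agent.Lib.Suborbit46.Split
import Cfsg.Agent.S5892

/-!
# Point stabilisers of order 24
-/

set_option autoImplicit false
set_option linter.unusedSectionVars false
set_option linter.style.haveILetI false

namespace Cfsg.Agent.Lib.Suborbit46

open Subgroup
open Cfsg.Agent.Lib.SDBlock25.Count (core core_comm core_odd)

universe u

/-- Maximal subgroups of order 24 with trivial centre in `PSL(2,q)`, `16` dividing the order. -/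
theorem psl_max_24 {F : Type} [Field F] [Fintype F] (hodd : Odd (Fintype.card F))
    (h3 : 3 < Fintype.card F)
    (M : Subgroup (Matrix.ProjectiveSpecialLinearGroup (Fin 2) F)) (hM : IsCoatom M)
    (h24 : Nat.card M = 24) (hcent : ∀ y : M, (∀ x : M, x * y = y * x) → y = 1)
    (h16 : 16 ∣ Nat.card (Matrix.ProjectiveSpecialLinearGroup (Fin 2) F)) :
    ∃ p : ℕ, p.Prime ∧ (p % 16 = 1 ∨ p % 16 = 15) ∧ Fintype.card F = p := by
  obtain ⟨p, hchar⟩ := CharP.exists F
  haveI : Fact p.Prime := ⟨CharP.char_is_prime F p⟩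
  have h5 : 5 ≤ Fintype.card F := by obtain ⟨k, hk⟩ := hodd; omega
  have hps := Linear.two_mul_card_PSL_two_of_odd hodd
  have hdih : ∀ k : ℕ, Nonempty (M ≃* DihedralGroup k) → False := by
    rintro k ⟨e⟩
    have hk : Nat.card (DihedralGroup k) = 2 * k := DihedralGroup.nat_card
    rw [← Nat.card_congr e.toEquiv, h24] at hk
    obtain rfl : k = 12 := by omega
    have hc : ∀ x : DihedralGroup 12, x * DihedralGroup.r 6 = DihedralGroup.r 6 * x := by decide
    have h1 := hcent (e.symm (DihedralGroup.r 6)) fun x => e.injective (by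
      rw [map_mul, map_mul, MulEquiv.apply_symm_apply]; exact hc _)
    rw [MulEquiv.map_eq_one_iff] at h1
    exact absurd h1 (by decide)
  rcases Cfsg.Agent.S5892.result p hodd h5 M hM with h | ⟨-, k, -, hk⟩ | ⟨-, -, k, -, hk⟩ |
    ⟨K, _, _, hq, ⟨e⟩⟩ | ⟨K, _, _, r, hr, hrodd, hq, ⟨e⟩⟩ | ⟨-, -, ⟨e⟩⟩ | ⟨-, -, -, ⟨e⟩⟩ |
    ⟨hq, hp8, -⟩
  · exfalso
    rw [h24] at h
    have hle : Fintype.card F ≤ 8 := by
      by_contra hgt
      have : 9 * 8 ≤ Fintype.card F * (Fintype.card F - 1) :=
        Nat.mul_le_mul (by omega) (by omega)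
      omega
    interval_cases hn : Fintype.card F <;> omega
  · exact (hdih k hk).elim
  · exact (hdih k hk).elim
  · exfalso
    have hKodd : Odd (Fintype.card K) := by
      rw [hq, Nat.odd_pow_iff (by norm_num)] at hodd; exact hodd
    have hK2 : Fintype.card K = 3 := by
      have h := Nat.card_congr e.toEquiv
      have h' := Linear.card_PGL_eq_card_SL (ι := Fin 2) (F := K)
      have hsl := Linear.card_SL_two (F := K)
      rw [h24] at h
      have hpgl : Nat.card (Matrix.ProjGenLinGroup (Fin 2) K) =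
          Nat.card (Matrix.SpecialLinearGroup (Fin 2) K) := h'
      rw [hpgl, hsl] at h
      have h1 : 1 < Fintype.card K := Fintype.one_lt_card
      by_contra hne
      obtain ⟨k, hk⟩ := hKodd
      have h25 : 5 ≤ Fintype.card K := by omega
      have : 5 * 4 * 6 ≤ Fintype.card K * (Fintype.card K - 1) * (Fintype.card K + 1) :=
        Nat.mul_le_mul (Nat.mul_le_mul h25 (by omega)) (by omega)
      omega
    rw [hq, hK2] at hps
    norm_num at hps
    omega
  · exfalso
    have hKodd : Odd (Fintype.card K) := by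
      rw [hq, Nat.odd_pow_iff hr.ne_zero] at hodd; exact hodd
    have h := Linear.two_mul_card_PSL_two_of_odd (F := K) hKodd
    rw [← Nat.card_congr e.toEquiv, h24] at h
    obtain ⟨k, hk⟩ := hKodd
    by_cases hk2 : k ≤ 1
    · interval_cases k <;> simp [hk] at h
    · have h25 : 5 ≤ Fintype.card K := by omega
      have : 5 * 4 * 6 ≤ Fintype.card K * (Fintype.card K - 1) * (Fintype.card K + 1) :=
        Nat.mul_le_mul (Nat.mul_le_mul h25 (by omega)) (by omega)
      omega
  · exfalso
    rw [Nat.card_congr e.toEquiv, nat_card_alternatingGroup, Nat.card_eq_fintype_card,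
      Fintype.card_fin] at h24
    norm_num [Nat.factorial] at h24
  · exfalso
    rw [Nat.card_congr e.toEquiv, nat_card_alternatingGroup, Nat.card_eq_fintype_card,
      Fintype.card_fin] at h24
    norm_num [Nat.factorial] at h24
  · refine ⟨p, Fact.out, ?_, hq⟩
    by_contra hne
    push Not at hne
    have hdvd : 32 ∣ p * (p - 1) * (p + 1) := by
      rw [hq] at hps
      rw [← hps]
      exact Nat.mul_dvd_mul_left 2 h16
    have key : ∀ r, p % 32 = r → 1 ≤ r → 32 ∣ r * (r - 1) * (r + 1) := by
      intro r hr hr1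
      have h4 : Nat.ModEq 32 p r := by unfold Nat.ModEq; omega
      have h5 : Nat.ModEq 32 (p - 1) (r - 1) := by unfold Nat.ModEq; omega
      exact (Nat.ModEq.dvd_iff ((h4.mul h5).mul (h4.add_right 1)) dvd_rfl).1 hdvd
    have hmod : p % 32 = 7 ∨ p % 32 = 9 ∨ p % 32 = 23 ∨ p % 32 = 25 := by omega
    rcases hmod with e | e | e | e <;>
      (have := key _ e (by norm_num); norm_num at this)

variable {G : Type u} [Group G] [Finite G] {H P : Subgroup G}

/-- The case `|H| = 24`. -/
theorem Con.case24 (C : Con G H P) (hZ0 : Nat.card (Z0 H P) = 1) (hV : Nat.card (V H P) = 4)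
    (hP : Nat.card P = 8) (hH : Nat.card H = 24) :
    (∃ p : ℕ, p.Prime ∧ (p % 16 = 1 ∨ p % 16 = 15) ∧
        Nonempty (G ≃* Matrix.ProjectiveSpecialLinearGroup (Fin 2) (ZMod p))) ∨
      Nonempty (G ≃* Matrix.ProjectiveSpecialLinearGroup (Fin 3) (ZMod 3)) := by
  haveI : Fact (Nat.Prime 3) := ⟨Nat.prime_three⟩
  obtain ⟨g, Q⟩ := C.exists_pair
  have hVH : V H P ≤ H := C.V_le.trans coreIn_le_left
  have hZ : ∀ z ∈ Z0 H P, z = 1 := fun z hz => by
    rw [Subgroup.card_eq_one] at hZ0
    rwa [hZ0, mem_bot] at hz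
  obtain ⟨⟨c, hcH⟩, hc⟩ := exists_prime_orderOf_dvd_card' (G := H) 3 (by rw [hH]; norm_num)
  rw [← Subgroup.orderOf_coe] at hc
  simp only at hc
  have hc1 : c ≠ 1 := fun e => by rw [e, orderOf_one] at hc; omega
  have hc3 : c * c * c = 1 := by
    have := pow_orderOf_eq_one c
    rwa [hc, pow_succ, pow_two] at this
  have hmove : ∀ w ∈ V H P, w ≠ 1 → c * w * c⁻¹ ≠ w := fun w hw hw1 e =>
    hw1 (hZ w (Q.mem_Z0_of_comm hcH hc3 hc1 hw (mul_inv_eq_iff_eq_mul.1 e)))
  have hN : normalizer (V H P : Set G) = H := Q.normalizer_V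
  have hcent : centralizer (V H P : Set G) = V H P := by
    refine le_antisymm (fun x hx => ?_) (fun x hx => mem_centralizer_iff.2 fun v hv => C.comm_V hv hx)
    have hxH : x ∈ H := hN ▸ centralizer_le_normalizer _ hx
    exact C.core_eq_V ▸ C.cent_V hxH fun v hv => (mem_centralizer_iff.1 hx v hv).symm
  have hno : ∀ N : Subgroup G, N.index ≠ 2 := by
    intro N hN2
    haveI hNn := normal_of_index_eq_two hN2
    have hsq : ∀ x : G, x * x ∈ N := fun x => (mul_mem_iff_of_index_two hN2).2 Iff.rfl
    have hcN : c ∈ N := by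
      have h := hsq (c * c)
      rwa [show c * c * (c * c) = c * (c * c * c) by group, hc3, mul_one] at h
    haveI : Nontrivial (V H P) := Finite.one_lt_card_iff_nontrivial.1 (by omega)
    have hsub : V H P ≤ N := fun v hv => by
      by_cases hv1 : v = 1
      · rw [hv1]; exact one_mem _
      have hcomm : ∀ w ∈ V H P, c * w * c⁻¹ * w⁻¹ ∈ N := fun w _ => by
        rw [show c * w * c⁻¹ * w⁻¹ = c * (w * c⁻¹ * w⁻¹) by group]
        exact mul_mem hcN (hNn.conj_mem _ (inv_mem hcN) w)
      let φ : V H P → V H P := fun w => ⟨c * w * c⁻¹ * (w : G)⁻¹,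
        mul_mem (conj_V w.2 hcH) (inv_mem w.2)⟩
      have hinj : Function.Injective φ := by
        intro a b hab
        have hab' : c * a * c⁻¹ * (a : G)⁻¹ = c * b * c⁻¹ * (b : G)⁻¹ := congrArg Subtype.val hab
        have hab2 : (a : G) * b = 1 ∨ c * (a * b : G) * c⁻¹ ≠ a * b :=
          or_iff_not_imp_left.2 (hmove _ (mul_mem a.2 b.2))
        rcases hab2 with e | e
        · exact Subtype.ext ((eq_inv_of_mul_eq_one_left e).trans
            (inv_eq_of_mul_eq_one_right (C.sq_V b.2)))
        · refine absurd ?_ e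
          have hbi := inv_eq_of_mul_eq_one_right (C.sq_V b.2)
          calc c * (a * b : G) * c⁻¹ = (c * a * c⁻¹) * (c * b * c⁻¹) := by group
            _ = (c * a * c⁻¹ * (a : G)⁻¹) * a * ((c * b * c⁻¹ * (b : G)⁻¹) * b) := by group
            _ = (c * b * c⁻¹ * (b : G)⁻¹) * a * ((c * b * c⁻¹ * (b : G)⁻¹) * b) := by rw [hab']
            _ = a * b := by
              have hm : c * b * c⁻¹ * (b : G)⁻¹ ∈ V H P := (φ b).2
              rw [C.comm_V hm a.2, mul_assoc (a : G), ← mul_assoc (c * b * c⁻¹ * (b : G)⁻¹),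
                C.sq_V hm, one_mul]
      obtain ⟨w, hw⟩ := Finite.surjective_of_injective hinj ⟨v, hv⟩
      have e : c * w * c⁻¹ * (w : G)⁻¹ = v := congrArg Subtype.val hw
      rw [← e]; exact hcomm w w.2
    have hPN : P ≤ N := by
      obtain ⟨t, ht, htP, htV, -⟩ := Q.exists_out
      refine C.setup.le_of_core_le C.ne_bot htP (C.notMem_core htV) (C.core_eq_V ▸ hsub) ?_
      simpa [mul_assoc] using hNn.conj_mem _ (hsub (mem_cj.1 ht)) g
    have hcP : c ∉ P := fun h => by
      have := Subgroup.orderOf_dvd_natCard P h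
      rw [hc, hP] at this
      norm_num at this
    have hHN : H ≤ N := by
      rw [← C.setup.sup_eq hcH hcP]
      exact sup_le hPN (zpowers_le.2 hcN)
    have hne : N ≠ ⊥ := fun e => hc1 (by rwa [e, mem_bot] at hcN)
    have htop := C.setup.sup_normal hne
    rw [sup_eq_left.2 hHN] at htop
    rw [htop, index_top] at hN2
    omega
  haveI := C.setup.isSimpleGroup C.ne_bot hno
  have hnc : ¬ ∀ a b : G, a * b = b * a := fun h => C.setup.notSol (Group.isSolvable_of_comm h)
  have h16 : 16 ∣ Nat.card G := by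
    have h := Q.card_normalizer
    rw [hP] at h
    have := Subgroup.card_subgroup_dvd_card (normalizer (P : Set G))
    rwa [h] at this
  have F : Four G (V H P) c := ⟨inferInstance, hnc, hV, fun w hw => C.sq_V hw, hcent,
    hN.symm ▸ hcH, hc3, hmove, by rw [hN, hH], h16⟩
  rcases F.split with ⟨K, _, _, hodd, h3, ⟨e⟩⟩ | P'
  · left
    set M := H.map e.toMonoidHom with hM
    have hco : IsCoatom M := (OrderIso.isCoatom_iff e.mapSubgroup H).2 C.setup.coatom
    have hcard : Nat.card M = 24 := by rw [hM, card_map_of_injective e.injective, hH]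
    have hcenter : ∀ y : M, (∀ x : M, x * y = y * x) → y = 1 := by
      rintro ⟨_, y, hy, rfl⟩ hy'
      have hyc : ∀ x ∈ H, x * y = y * x := fun x hx => e.injective (by
        simpa using congrArg Subtype.val (hy' ⟨e x, mem_map_of_mem _ hx⟩))
      have hyV : y ∈ V H P := hcent.le (mem_centralizer_iff.2 fun v hv => hyc v (hVH hv))
      have hy1 : y = 1 := by
        by_contra h1
        exact hmove y hyV h1 (mul_inv_eq_iff_eq_mul.2 (hyc c hcH))
      exact Subtype.ext (show e.toMonoidHom y = 1 by rw [hy1, map_one])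
    obtain ⟨p, hp, hp16, hq⟩ := psl_max_24 hodd h3 M hco hcard hcenter
      (Nat.card_congr e.toEquiv ▸ h16)
    haveI := Fact.mk hp
    exact ⟨p, hp, hp16, ⟨e.trans (Linear.nonempty_pslCongr_zmod (ι := Fin 2) p hq).some⟩⟩
  · have hfam : Fam (V H P) := by
      intro w hw hw1 E hE hEne M hM
      rw [hN] at hM
      set X : Set G := {y | ∃ h ∈ H, ∃ e ∈ E, h * e * h⁻¹ = y}
      have hle : closure X ≤ M := (closure_le M).2 fun y ⟨h, hh, e, he, hy⟩ => hy ▸ hM h hh e he
      have hEX : E ≤ closure X := fun e he => subset_closure ⟨1, one_mem _, e, he, by simp⟩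
      have hHn : H ≤ normalizer (closure X : Set G) := le_normalizer_of_conj_mem fun b hb a ha => by
        induction ha using closure_induction with
        | mem x hx =>
          obtain ⟨h, hh, e, he, rfl⟩ := hx
          exact subset_closure ⟨b * h, mul_mem hb hh, e, he, by group⟩
        | one => simp
        | mul x y _ _ ihx ihy => simpa [mul_assoc] using mul_mem ihx ihy
        | inv x _ ihx => simpa [mul_assoc] using inv_mem ihx
      by_cases hXH : closure X ≤ H
      · exfalso
        refine hEne (eq_bot_iff.2 fun e he => mem_bot.2 ?_)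
        exact F.eq_one_of_odd (hN.symm ▸ hXH (hEX he)) (core_odd (hE he)) hw hw1
          (core_comm (hE he)).eq.symm
      · have htop : normalizer (closure X : Set G) = ⊤ := C.setup.coatom.2 _
          (lt_of_le_of_ne hHn fun e => hXH (e.symm ▸ Subgroup.le_normalizer))
        haveI := normalizer_eq_top_iff.1 htop
        rcases (inferInstance : (closure X).Normal).eq_bot_or_eq_top with h | h
        · exact absurd (le_bot_iff.1 (h ▸ hEX)) hEne
        · exact top_le_iff.1 (h ▸ hle)
    rcases P'.engine hfam with h | ⟨h, h48⟩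
    · exact Or.inr h
    · exact (P'.m11_excl h h48 (hN.symm ▸ C.setup.coatom)).elim

end Cfsg.Agent.Lib.Suborbit46
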