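import Cfsg.Agent.Lib.AutPSL.Main
import Cfsg.Agent.Lib.AutPSL.Descent
import Cfsg.Agent.Lib.AutPSL.FixField
import Cfsg.Agent.Lib.Linear.Order

/-!
# Fixed points of involutory automorphisms of `PSL(2,q)`
-/

set_option autoImplicit false
set_option linter.unusedSectionVars false
set_option linter.style.haveILetI false

namespace Cfsg.Agent.Lib.Suborbit46

open Matrix
open Cfsg.Agent.Lib
open scoped MatrixGroups commutatorElement

variable {F : Type} [Field F]

local notation "PSL2" => Matrix.ProjectiveSpecialLinearGroup (Fin 2) F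

/-- Matrices commuting with a non-scalar `2 × 2` matrix commute. -/
theorem comm_of_comm_nonscalar {M A B : Matrix (Fin 2) (Fin 2) F}
    (hM : M 0 1 ≠ 0 ∨ M 1 0 ≠ 0 ∨ M 0 0 ≠ M 1 1) (hA : M * A = A * M) (hB : M * B = B * M) :
    A * B = B * A := by
  have eA := fun i j => congrFun (congrFun hA i) j
  have eB := fun i j => congrFun (congrFun hB i) j
  have a00 := eA 0 0; have a01 := eA 0 1; have a10 := eA 1 0
  have b00 := eB 0 0; have b01 := eB 0 1; have b10 := eB 1 0
  simp only [Matrix.mul_apply, Fin.sum_univ_two] at a00 a01 a10 b00 b01 b10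
  -- the three minors vanish
  have key : A 0 1 * B 1 0 = A 1 0 * B 0 1 ∧
      A 0 1 * (B 0 0 - B 1 1) = (A 0 0 - A 1 1) * B 0 1 ∧
      A 1 0 * (B 0 0 - B 1 1) = (A 0 0 - A 1 1) * B 1 0 := by
    rcases hM with h | h | h
    · refine ⟨mul_left_cancel₀ h ?_, mul_left_cancel₀ h ?_, mul_left_cancel₀ h ?_⟩
      · linear_combination (A 0 1) * b00 - (B 0 1) * a00
      · linear_combination (B 0 1) * a01 - (A 0 1) * b01
      · linear_combination (B 0 0 - B 1 1) * a00 + (B 1 0) * a01 + (A 0 1) * b10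
    · have k1 : A 0 1 * B 1 0 = A 1 0 * B 0 1 := mul_left_cancel₀ h (by
        linear_combination (A 1 0) * b00 - (B 1 0) * a00)
      refine ⟨k1, mul_left_cancel₀ h ?_, mul_left_cancel₀ h ?_⟩
      · linear_combination (A 0 1) * b10 - (B 0 1) * a10 + (M 0 0 - M 1 1) * k1
      · linear_combination (A 1 0) * b10 - (B 1 0) * a10
    · have h' := sub_ne_zero.2 h
      refine ⟨mul_left_cancel₀ h' ?_, mul_left_cancel₀ h' ?_, mul_left_cancel₀ h' ?_⟩
      · linear_combination (B 1 0) * a01 + (B 0 1) * a10 + (A 0 0 - A 1 1) * b00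
      · linear_combination (B 0 0 - B 1 1) * a01 - (A 0 0 - A 1 1) * b01
      · linear_combination (A 0 0 - A 1 1) * b10 - (B 0 0 - B 1 1) * a10
  obtain ⟨k1, k2, k3⟩ := key
  ext i j
  fin_cases i <;> fin_cases j <;> simp [Matrix.mul_apply, Fin.sum_univ_two]
  · linear_combination k1
  · linear_combination -k2
  · linear_combination k3
  · linear_combination -k1

/-- An element fixed by a diagonal automorphism commutes with its matrix up to a sign. -/
theorem exists_sign {g : GL (Fin 2) F} {s : Matrix.SpecialLinearGroup (Fin 2) F}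
    (h : AutPSL.conjAut g (QuotientGroup.mk s : PSL2) = QuotientGroup.mk s) :
    ∃ e : F, e * e = 1 ∧ (s : Matrix (Fin 2) (Fin 2) F) * (g : Matrix (Fin 2) (Fin 2) F) =
      e • ((g : Matrix (Fin 2) (Fin 2) F) * s) := by
  rw [AutPSL.conjAut_mk, AutPSL.mk_eq_mk_iff] at h
  obtain ⟨e, he⟩ := h
  refine ⟨e, ?_, ?_⟩
  · have hd := congrArg Matrix.det he
    rw [Matrix.det_smul, (AutPSL.conjSL g s).det_coe, s.det_coe, Fintype.card_fin, mul_one,
      pow_two] at hd
    exact hd.symm
  · conv_lhs => rw [he, AutPSL.coe_conjSL]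
    rw [smul_mul_assoc, Matrix.mul_assoc, Units.inv_mul, Matrix.mul_one]

/-- Squares and commutators of elements fixed by a diagonal automorphism commute. -/
theorem conjAut_fixed {g : GL (Fin 2) F} (hg : (AutPSL.conjAut g : MulAut PSL2) ≠ 1) {x y : PSL2}
    (hx : AutPSL.conjAut g x = x) (hy : AutPSL.conjAut g y = y) :
    x * x * ⁅x, y⁆ = ⁅x, y⁆ * (x * x) := by
  obtain ⟨s, rfl⟩ := QuotientGroup.mk_surjective x
  obtain ⟨t, rfl⟩ := QuotientGroup.mk_surjective y
  obtain ⟨a, ha, hs⟩ := exists_sign hx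
  obtain ⟨b, hb, ht⟩ := exists_sign hy
  set M : Matrix (Fin 2) (Fin 2) F := ↑g with hM
  have hns : M 0 1 ≠ 0 ∨ M 1 0 ≠ 0 ∨ M 0 0 ≠ M 1 1 := by
    by_contra! hc
    obtain ⟨h1, h2, h3⟩ := hc
    refine hg (AutPSL.conjAut_eq_one_of_center ?_)
    refine AutPSL.mem_center_GL_of_scalar (c := M 0 0) ?_
    rw [← hM]
    ext i j
    fin_cases i <;> fin_cases j <;> simp [h1, h2, h3]
  have inv : ∀ (u : Matrix.SpecialLinearGroup (Fin 2) F) (e : F), e * e = 1 →
      (u : Matrix (Fin 2) (Fin 2) F) * M = e • (M * u) →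
      ((u⁻¹ : Matrix.SpecialLinearGroup (Fin 2) F) : Matrix (Fin 2) (Fin 2) F) * M =
        e • (M * (u⁻¹ : Matrix.SpecialLinearGroup (Fin 2) F)) := by
    intro u e he hu
    have h := congrArg (fun A => e • (((u⁻¹ : Matrix.SpecialLinearGroup (Fin 2) F) :
      Matrix (Fin 2) (Fin 2) F) * A * (u⁻¹ : Matrix.SpecialLinearGroup (Fin 2) F))) hu
    simp only [Matrix.mul_smul, Matrix.smul_mul, smul_smul, he, one_smul] at h
    have h1 : ((u⁻¹ : Matrix.SpecialLinearGroup (Fin 2) F) : Matrix (Fin 2) (Fin 2) F) * u = 1 := by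
      rw [← Matrix.SpecialLinearGroup.coe_mul, inv_mul_cancel, Matrix.SpecialLinearGroup.coe_one]
    have h2 : (u : Matrix (Fin 2) (Fin 2) F) * (u⁻¹ : Matrix.SpecialLinearGroup (Fin 2) F) = 1 := by
      rw [← Matrix.SpecialLinearGroup.coe_mul, mul_inv_cancel, Matrix.SpecialLinearGroup.coe_one]
    rw [← Matrix.mul_assoc, h1, Matrix.one_mul, Matrix.mul_assoc _ (M * _) _, Matrix.mul_assoc M _ _,
      h2, Matrix.mul_one] at h
    exact h.symm
  have mul : ∀ (u v : Matrix (Fin 2) (Fin 2) F) (e f : F), u * M = e • (M * u) →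
      v * M = f • (M * v) → u * v * M = (e * f) • (M * (u * v)) := by
    intro u v e f hu hv
    rw [Matrix.mul_assoc, hv, Matrix.mul_smul, ← Matrix.mul_assoc, hu, Matrix.smul_mul, smul_smul,
      Matrix.mul_assoc, mul_comm]
  have h1 := mul _ _ _ _ hs hs
  rw [ha, one_smul] at h1
  have h2 := mul _ _ _ _ (mul _ _ _ _ (mul _ _ _ _ hs ht) (inv s a ha hs)) (inv t b hb ht)
  rw [show a * b * a * b = (a * a) * (b * b) by ring, ha, hb, one_mul, one_smul] at h2
  have h3 := comm_of_comm_nonscalar hns h1.symm h2.symm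
  have e : s * s * ⁅s, t⁆ = ⁅s, t⁆ * (s * s) := Subtype.ext (by
    simpa only [commutatorElement_def, Matrix.SpecialLinearGroup.coe_mul] using h3)
  simpa [commutatorElement_def] using congrArg (QuotientGroup.mk (s := Subgroup.center _)) e

variable [Fintype F]

/-- The fixed points of an involutory automorphism: almost abelian, or a linear group over the
subfield of index two. -/
theorem psl_fixed_cases (hodd : Odd (Fintype.card F)) {α : MulAut PSL2} (h2 : α * α = 1)
    (h1 : α ≠ 1) :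
    (∀ x y : PSL2, α x = x → α y = y → x * x * ⁅x, y⁆ = ⁅x, y⁆ * (x * x)) ∨
      ∃ q₀ : ℕ, Fintype.card F = q₀ ^ 2 ∧ Odd q₀ ∧ 1 < q₀ ∧
        q₀ * (q₀ - 1) * (q₀ + 1) ≤ 2 * Nat.card {x : PSL2 // α x = x} := by
  classical
  obtain ⟨g, σ, γ, hγ, rfl⟩ := AutPSL.exists_decomp (n := 2) le_rfl α
  have hγ1 : γ = 1 := hγ.resolve_right fun h => absurd h.1 (by norm_num)
  subst hγ1
  rw [mul_one] at h2 h1 ⊢
  by_cases hσ : σ = 1
  · left
    subst hσ
    rw [map_one, mul_one] at h1 ⊢
    exact fun x y hx hy => conjAut_fixed h1 hx hy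
  right
  have hσ2 : σ ^ 2 = 1 := by
    have h := h2
    rw [← pow_two, AutPSL.conjAut_mul_fieldAut_pow] at h
    exact (AutPSL.eq_one_of_conj_field le_rfl h).2
  have hord : orderOf σ = 2 := by
    haveI : Fact (Nat.Prime 2) := ⟨Nat.prime_two⟩
    exact orderOf_eq_prime hσ2 hσ
  obtain ⟨h, hh⟩ := AutPSL.exists_conj_of_pow_eq_one (n := 2) le_rfl hord (by norm_num) (g := g)
    (by rw [pow_two]; exact h2)
  obtain ⟨p, hchar⟩ := CharP.exists F
  haveI : Fact p.Prime := ⟨CharP.char_is_prime F p⟩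
  obtain ⟨f, -, hf⟩ := Linear.exists_card_eq_pow (F := F) p
  obtain ⟨⟨k, hk⟩, hc⟩ := AutPSL.card_fixField hf hord
  rw [hk, Nat.mul_div_cancel_left _ (by norm_num)] at hc
  set K := AutPSL.fixField σ
  letI : Fintype K := Fintype.ofFinite _
  have hq : Fintype.card F = (p ^ k) ^ 2 := by rw [hf, hk, ← pow_mul, mul_comm]
  have hKodd : Odd (p ^ k) := by
    rw [hq, Nat.odd_pow_iff (by norm_num)] at hodd; exact hodd
  refine ⟨p ^ k, hq, hKodd, by rw [← hc]; exact Finite.one_lt_card, ?_⟩
  have hKc : Fintype.card K = p ^ k := by rw [← hc, Nat.card_eq_fintype_card]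
  have hsl := Linear.card_SL_two (F := K)
  rw [hKc] at hsl
  rw [← hsl]
  -- the projection of `SL₂(K)`
  let π : Matrix.SpecialLinearGroup (Fin 2) K →* PSL2 :=
    (QuotientGroup.mk' _).comp (Matrix.SpecialLinearGroup.map (AutPSL.fixField σ).subtype)
  have hker : Nat.card π.ker ≤ 2 := by
    have hsub : (π.ker : Set (Matrix.SpecialLinearGroup (Fin 2) K)) ⊆ {1, -1} := by
      intro u hu
      have hu' : Matrix.SpecialLinearGroup.map (AutPSL.fixField σ).subtype u ∈
          Subgroup.center (Matrix.SpecialLinearGroup (Fin 2) F) := (QuotientGroup.eq_one_iff _).1 hu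
      rw [Matrix.SpecialLinearGroup.mem_center_iff] at hu'
      obtain ⟨r, hr, hr'⟩ := hu'
      rw [Fintype.card_fin, pow_two] at hr
      rcases mul_self_eq_one_iff.1 hr with rfl | rfl
      · refine Or.inl (Subtype.ext (Matrix.ext fun i j => ?_))
        refine (AutPSL.fixField σ).subtype.injective ?_
        have := congrFun (congrFun hr' i) j
        fin_cases i <;> fin_cases j <;> simpa [Matrix.scalar_apply, eq_comm] using this
      · refine Or.inr (Subtype.ext (Matrix.ext fun i j => ?_))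
        refine (AutPSL.fixField σ).subtype.injective ?_
        have := congrFun (congrFun hr' i) j
        fin_cases i <;> fin_cases j <;> simpa [Matrix.scalar_apply, eq_comm] using this
    have h := Set.ncard_le_ncard hsub (Set.toFinite _)
    rw [← Nat.card_coe_set_eq] at h
    exact h.trans ((Set.ncard_insert_le _ _).trans (by rw [Set.ncard_singleton]))
  have hrange : Nat.card π.range ≤
      Nat.card {x : PSL2 // (AutPSL.conjAut g * AutPSL.fieldAut σ : MulAut PSL2) x = x} := by
    refine Nat.card_le_card_of_injective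
      (fun u : π.range => ⟨AutPSL.conjAut h (u : PSL2), ?_⟩) ?_
    · obtain ⟨v, hv⟩ := u.2
      rw [hh, MulAut.mul_apply, MulAut.mul_apply, MulAut.inv_apply, MulEquiv.symm_apply_apply, ← hv]
      congr 1
      show AutPSL.fieldAut σ (QuotientGroup.mk _) = QuotientGroup.mk _
      rw [AutPSL.fieldAut_mk]
      refine congrArg _ (Subtype.ext (Matrix.ext fun i j => ?_))
      rw [AutPSL.coe_fieldSL, Matrix.map_apply]
      exact AutPSL.mem_fixField.1 ((v : Matrix (Fin 2) (Fin 2) K) i j).2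
    · exact fun u v huv => Subtype.ext ((AutPSL.conjAut h).injective (congrArg Subtype.val huv))
  have hidx := π.ker.card_mul_index
  rw [Subgroup.index_ker] at hidx
  calc Nat.card (Matrix.SpecialLinearGroup (Fin 2) K) = Nat.card π.ker * Nat.card π.range := hidx.symm
    _ ≤ 2 * _ := Nat.mul_le_mul hker hrange

end Cfsg.Agent.Lib.Suborbit46
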