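import Cfsg.Agent.Lib.Suborbit46.Socle
import Cfsg.Agent.Lib.Suborbit46.PSLInvol
import Cfsg.Agent.Lib.RecogThree.M11.Unique
import Cfsg.Agent.S2060

/-!
# Point stabilisers of order 48
-/

set_option autoImplicit false
set_option linter.unusedSectionVars false
set_option linter.style.haveILetI false

namespace Cfsg.Agent.Lib.Suborbit46

open Subgroup
open scoped commutatorElement

universe u

variable {G : Type u} [Group G] [Finite G] {H P : Subgroup G} {g c z : G} {W : Subgroup G}
  (B : Big G H P g c z W) {L : Subgroup G} (hL : L.index = 2) (hz : z ∉ L)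

include B hL hz

/-- Conjugation by `z` on `L` is not inner. -/
theorem Big.not_inner [L.Normal] (x : L) : (MulAut.conjNormal z : MulAut L) ≠ MulAut.conj x := by
  intro h
  have hm : (x : G)⁻¹ * z ∈ centralizer (L : Set G) := mem_centralizer_iff.2 fun l hl => by
    have := congrArg (fun φ : MulAut L => ((φ ⟨l, hl⟩ : L) : G)) h
    simp only [MulAut.conjNormal_apply, MulAut.conj_apply, Subgroup.coe_mul, Subgroup.coe_inv] at this
    calc l * ((x : G)⁻¹ * z) = (x : G)⁻¹ * ((x : G) * l * (x : G)⁻¹) * z := by group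
      _ = (x : G)⁻¹ * z * l := by rw [← this]; group
  rw [B.centralizer_L hL hz, mem_bot, inv_mul_eq_one] at hm
  exact hz (hm ▸ x.2)

theorem Big.fixed_mem [L.Normal] {x : L} :
    (MulAut.conjNormal z : MulAut L) x = x ↔ (x : G) ∈ H := by
  rw [← B.centralizer_z, mem_centralizer_singleton_iff, Subtype.ext_iff,
    MulAut.conjNormal_apply, mul_inv_eq_iff_eq_mul]
  exact eq_comm

/-- The socle is not `PSL(2,q)`. -/
theorem Big.not_psl_two {F : Type} [Field F] [Fintype F] (hodd : Odd (Fintype.card F))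
    (e : L ≃* Matrix.ProjectiveSpecialLinearGroup (Fin 2) F) : False := by
  haveI := B.normal_L hL hz
  set α : MulAut (Matrix.ProjectiveSpecialLinearGroup (Fin 2) F) :=
    MulAut.congr e (MulAut.conjNormal z) with hα
  have h2 : α * α = 1 := by
    rw [hα, ← map_mul, ← map_mul, B.zz, map_one, map_one]
  have h1 : α ≠ 1 := fun h => B.not_inner hL hz 1 (by
    rw [map_one]
    exact (MulAut.congr e).injective (h.trans (map_one _).symm))
  have hfix : ∀ x : L, (x : G) ∈ H → α (e x) = e x := fun x hx => by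
    have hx' := (B.fixed_mem hL hz).2 hx
    rw [hα]
    show e ((MulAut.conjNormal z : MulAut L) (e.symm (e x))) = e x
    rw [e.symm_apply_apply, hx']
  rcases psl_fixed_cases hodd h2 h1 with hab | ⟨q, hq, hqodd, hq1, hle⟩
  · obtain ⟨w, hw, hw1⟩ : ∃ w ∈ W, w ≠ 1 := by
      haveI : Nontrivial W := (Subgroup.nontrivial_iff_ne_bot W).2 B.W_ne
      obtain ⟨⟨w, hw⟩, h⟩ := exists_ne (1 : W)
      exact ⟨w, hw, fun e => h (Subtype.ext e)⟩
    set u := c * w * c⁻¹ with hu
    have huW : u ∈ W := (mem_normalizer_iff.1 (B.Wn B.cH) w).1 hw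
    have hcu : ⁅c, u⁆ = w := by
      rw [commutatorElement_def, B.conj_conj hw hw1, mul_inv_cancel_right]
    let c' : L := ⟨c, B.c_mem hL hz⟩
    let u' : L := ⟨u, B.W_le hL hz huW⟩
    have h := hab (e c') (e u') (hfix c' B.cH) (hfix u' (B.W_H huW))
    simp only [← map_commutatorElement, ← map_mul] at h
    have h' : c * c * ⁅c, u⁆ = ⁅c, u⁆ * (c * c) := congrArg Subtype.val (e.injective h)
    rw [hcu] at h'
    have hcw : Commute c w := by
      have h4 := (show Commute (c * c) w from h').mul_left h'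
      rwa [show c * c * (c * c) = c * (c * c * c) by group, B.c3, mul_one] at h4
    exact B.cMove hw hw1 (mul_inv_eq_iff_eq_mul.2 hcw.eq)
  · have hcard : Nat.card {x // α x = x} ≤ 24 := by
      rw [← B.card_inf hL hz]
      refine Nat.card_le_card_of_injective
        (fun x => (⟨(e.symm x.1 : G), Subgroup.mem_inf.2 ⟨(B.fixed_mem hL hz).1 ?_,
          (e.symm x.1).2⟩⟩ : ↥(H ⊓ L))) fun a b hab => ?_
      · have := congrArg e.symm x.2
        change e.symm (e ((MulAut.conjNormal z : MulAut L) (e.symm x.1))) = _ at this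
        rwa [e.symm_apply_apply] at this
      · have h' := congrArg (fun t : ↥(H ⊓ L) => (t : G)) hab
        exact Subtype.ext (e.symm.injective (Subtype.ext h'))
    have hq3 : q = 3 := by
      by_contra hne
      obtain ⟨k, hk⟩ := hqodd
      have : 5 * 4 * 6 ≤ q * (q - 1) * (q + 1) :=
        Nat.mul_le_mul (Nat.mul_le_mul (by omega) (by omega)) (by omega)
      omega
    have h16 := (B.four hL hz).big
    rw [Nat.card_congr e.toEquiv] at h16
    have hps := Linear.two_mul_card_PSL_two_of_odd hodd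
    rw [hq, hq3] at hps
    norm_num at hps
    omega

omit B hL hz in
/-- The case `|H| = 48`. -/
theorem Con.case48 (C : Con G H P) (hZ0 : Nat.card (Z0 H P) = 2) (hV : Nat.card (V H P) = 8)
    (hP : Nat.card P = 16) (hH : Nat.card H = 48) :
    ∃ N : Subgroup G, N.Normal ∧ N.index = 2 ∧ centralizer (N : Set G) = ⊥ ∧
      Nonempty (N ≃* Matrix.ProjectiveSpecialLinearGroup (Fin 3) (ZMod 3)) := by
  obtain ⟨g, c, z, W, B⟩ := C.exists_big hZ0 hV hP hH
  obtain ⟨L, hL, hz⟩ := B.exists_index_two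
  haveI := B.normal_L hL hz
  refine ⟨L, inferInstance, hL, B.centralizer_L hL hz, ?_⟩
  rcases (B.four hL hz).split with ⟨F, _, _, hodd, -, ⟨e⟩⟩ | Pf
  · exact (B.not_psl_two hL hz hodd e).elim
  rcases Pf.engine (B.fam hL hz) with h | ⟨h, -⟩
  · exact h
  exfalso
  haveI := B.isSimple_L hL hz
  obtain ⟨e⟩ := RecogThree.M11.Unique.equiv_M11 (G := L) h
  haveI : Subsingleton (Cfsg.Out ↥Cfsg.Spor.M11) :=
    (Nat.card_eq_one_iff_unique.1 Cfsg.Agent.S2060.result).1
  have hin : MulAut.congr e (MulAut.conjNormal z) ∈ Cfsg.Inn ↥Cfsg.Spor.M11 :=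
    (QuotientGroup.eq_one_iff _).1 (Subsingleton.elim _ _)
  obtain ⟨x, hx⟩ := hin
  refine B.not_inner hL hz (e.symm x) ((MulAut.congr e).injective (hx.symm.trans ?_))
  refine MulEquiv.ext fun y => ?_
  show x * y * x⁻¹ = e (e.symm x * e.symm y * (e.symm x)⁻¹)
  simp

end Cfsg.Agent.Lib.Suborbit46
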