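import Cfsg.Agent.Lib.Suborbit46.Bar5
import Cfsg.Agent.Lib.SDBlock25.Count

/-!
# The centraliser of an involution of `W`
-/

set_option autoImplicit false
set_option linter.unusedSectionVars false
set_option linter.style.haveILetI false

namespace Cfsg.Agent.Lib.Suborbit46

open Subgroup
open Cfsg.Agent.Lib.SDBlock25.Count (core)

universe u

variable {L : Type u} [Group L] [Finite L]

/-- A self-centralising four-group in a simple group with semidihedral Sylow `2`-subgroups. -/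
structure FSD (L : Type u) [Group L] (W : Subgroup L) (c : L) : Prop where
  four : Four L W c
  sd : ∀ S : Sylow 2 L, W ≤ (S : Subgroup L) → Cfsg.IsQuasiDihedral (S : Subgroup L)

/-- Two different involutions of `W`. -/
structure Duo (L : Type u) [Group L] (W : Subgroup L) (c z v : L) : Prop where
  fsd : FSD L W c
  zW : z ∈ W
  z1 : z ≠ 1
  vW : v ∈ W
  v1 : v ≠ 1
  vz : v ≠ z

variable {W : Subgroup L} {c z v : L} (D : Duo L W c z v)

include D

theorem Duo.flip : Duo L W c v z := ⟨D.fsd, D.vW, D.v1, D.zW, D.z1, D.vz.symm⟩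

theorem Duo.zz : z * z = 1 := D.fsd.four.sq z D.zW

theorem Duo.vv : v * v = 1 := D.fsd.four.sq v D.vW

theorem Duo.inv_v : v⁻¹ = v := D.fsd.four.inv D.vW

theorem Duo.zv_comm : z * v = v * z := D.fsd.four.comm D.zW D.vW

theorem Duo.third : Duo L W c z (z * v) where
  fsd := D.fsd
  zW := D.zW
  z1 := D.z1
  vW := mul_mem D.zW D.vW
  v1 := fun e => D.vz (by rw [← D.fsd.four.inv D.zW]; exact eq_inv_of_mul_eq_one_right e)
  vz := fun e => D.v1 (mul_eq_left.1 e)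

theorem Duo.exists_ctx : ∃ S : Sylow 2 L, SDCtx L W c S z v := by
  obtain ⟨S₀, hS₀, h16⟩ := D.fsd.four.exists_sylow
  obtain ⟨z₀, hz₀W, hz₀, hz₀c, -⟩ := D.fsd.four.exists_center hS₀ h16
  obtain ⟨g, hgN, hg⟩ := D.fsd.four.exists_conj hz₀W D.zW hz₀ D.z1
  have hle : W ≤ ((g • S₀ : Sylow 2 L) : Subgroup L) := by
    intro w hw
    rw [Sylow.coe_subgroup_smul, Subgroup.mem_pointwise_smul_iff_inv_smul_mem]
    refine hS₀ ?_
    rw [← map_inv, MulAut.smul_def, MulAut.conj_apply, inv_inv]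
    simpa using D.fsd.four.cj_mem (inv_mem hgN) hw
  refine ⟨g • S₀, D.fsd.four, hle, D.fsd.sd _ hle, ?_, D.zW, D.z1, ?_, D.vW, D.v1, D.vz⟩
  · rw [Sylow.card_eq_multiplicity, ← Sylow.card_eq_multiplicity S₀]
    exact h16
  · intro s hs
    rw [Sylow.coe_subgroup_smul, Subgroup.mem_pointwise_smul_iff_inv_smul_mem, ← map_inv,
      MulAut.smul_def, MulAut.conj_apply, inv_inv] at hs
    have h := hz₀c _ hs
    rw [← hg]
    calc s * (g * z₀ * g⁻¹) = g * (g⁻¹ * s * g * z₀) * g⁻¹ := by group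
      _ = g * (z₀ * (g⁻¹ * s * g)) * g⁻¹ := by rw [h]
      _ = g * z₀ * g⁻¹ * s := by group

theorem Duo.exists_pi : ∃ π : ↥(Cz z) →* GL (Fin 2) (ZMod 3), Function.Surjective π ∧
    π.ker = Cfsg.oddCore ↥(Cz z) ∧
    (∀ hz : z ∈ Cz z, GL23.q4 (π ⟨z, hz⟩) = GL23.neg4) ∧
    (∀ hv : v ∈ Cz z, GL23.Refl (GL23.q4 (π ⟨v, hv⟩))) := by
  obtain ⟨S, hS⟩ := D.exists_ctx
  obtain ⟨π, h1, h2, h3, h4, -⟩ := hS.exists_bar
  exact ⟨π, h1, h2, h3, h4⟩

theorem Duo.z_mem : z ∈ Cz z := mem_centralizer_singleton_iff.2 rfl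

theorem Duo.v_mem : v ∈ Cz z := mem_centralizer_singleton_iff.2 D.zv_comm.symm

theorem Duo.core_le : core z ≤ Cz z := map_subtype_le _

theorem Duo.mem_core {a : ↥(Cz z)} : (a : L) ∈ core z ↔ a ∈ Cfsg.oddCore ↥(Cz z) :=
  mem_map_iff_mem Subtype.val_injective

theorem Duo.conj_core {g o : L} (hg : g ∈ Cz z) (ho : o ∈ core z) : g * o * g⁻¹ ∈ core z := by
  haveI hn : (Cfsg.oddCore ↥(Cz z)).Normal := by unfold Cfsg.oddCore; infer_instance
  obtain ⟨a, ha, rfl⟩ := ho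
  exact ⟨⟨g, hg⟩ * a * ⟨g, hg⟩⁻¹, hn.conj_mem a ha ⟨g, hg⟩, rfl⟩

theorem Duo.inverts {o : L} (ho : o ∈ core z) : v * o * v⁻¹ = o⁻¹ := by
  obtain ⟨S, hS⟩ := D.exists_ctx
  obtain ⟨a, ha, rfl⟩ := ho
  exact hS.inverts ha

theorem Duo.comm_core {a b : L} (ha : a ∈ core z) (hb : b ∈ core z) : a * b = b * a := by
  refine inv_injective ?_
  rw [← D.inverts (mul_mem ha hb), mul_inv_rev, ← D.inverts ha, ← D.inverts hb]
  group

theorem Duo.core_eq_one {o : L} (ho : o ∈ core z) (h : o⁻¹ = o) : o = 1 := by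
  rw [← orderOf_eq_one_iff]
  have h1 : orderOf o ∣ 2 := orderOf_dvd_of_pow_eq_one (by rw [pow_two]; nth_rewrite 1 [← h]; simp)
  rcases (Nat.dvd_prime Nat.prime_two).1 h1 with e | e
  · exact e
  · exact absurd (e ▸ SDBlock25.Count.core_odd ho) (by decide)

/-- An element of `C(z)` whose image has determinant one fixes the core, otherwise inverts it. -/
theorem Duo.det_cases {π : ↥(Cz z) →* GL (Fin 2) (ZMod 3)} (hs : Function.Surjective π)
    (hk : π.ker = Cfsg.oddCore ↥(Cz z))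
    (hv : ∀ hv : v ∈ Cz z, GL23.Refl (GL23.q4 (π ⟨v, hv⟩))) (g : ↥(Cz z)) :
    (GL23.det4 (GL23.q4 (π g)) = 1 → ∀ o ∈ core z, (g : L) * o * (g : L)⁻¹ = o) ∧
    (GL23.det4 (GL23.q4 (π g)) ≠ 1 → ∀ o ∈ core z, (g : L) * o * (g : L)⁻¹ = o⁻¹) := by
  set V : ↥(Cz z) := ⟨v, D.v_mem⟩ with hV
  have hrefl : ∀ t : ↥(Cz z), GL23.Refl (GL23.q4 (π t)) → ∀ o ∈ core z,
      (t : L) * o * (t : L)⁻¹ = o⁻¹ := by
    intro t ht o ho
    obtain ⟨q, hq, hqe⟩ := GL23.refl_conj _ _ (hv D.v_mem) ht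
    obtain ⟨γ, rfl⟩ := GL23.exists_q4 hq
    obtain ⟨h, rfl⟩ := hs γ
    rw [← GL23.q4_mul, ← GL23.q4_mul, ← map_mul, ← map_mul] at hqe
    have he := GL23.q4_injective hqe
    set o₁ := (h * V * h⁻¹)⁻¹ * t with ho₁
    have ho₁m : (o₁ : L) ∈ core z := D.mem_core.2 (by
      rw [← hk, MonoidHom.mem_ker, ho₁, map_mul, map_inv, map_mul, map_inv, he, map_mul]; group)
    have ht' : (t : L) = (h : L) * v * (h : L)⁻¹ * (o₁ : L) := by
      rw [ho₁]; simp [hV, mul_assoc]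
    calc (t : L) * o * (t : L)⁻¹
        = (h : L) * v * (h : L)⁻¹ * ((o₁ : L) * o * (o₁ : L)⁻¹) * ((h : L) * v * (h : L)⁻¹)⁻¹ := by
          rw [ht']; group
      _ = (h : L) * v * (h : L)⁻¹ * o * ((h : L) * v * (h : L)⁻¹)⁻¹ := by
          rw [D.comm_core ho₁m ho, mul_inv_cancel_right]
      _ = (h : L) * (v * ((h : L)⁻¹ * o * (h : L)) * v⁻¹) * (h : L)⁻¹ := by group
      _ = o⁻¹ := by
          rw [D.inverts (by simpa using D.conj_core (inv_mem h.2) ho)]; group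
  have hone : ∀ g : ↥(Cz z), GL23.det4 (GL23.q4 (π g)) = 1 →
      ∀ o ∈ core z, (g : L) * o * (g : L)⁻¹ = o := by
    intro g hg o ho
    obtain ⟨t, ht, htg⟩ := GL23.prod_refl _ hg
    obtain ⟨γ, rfl⟩ := GL23.exists_q4 (m := t) (by rw [GL23.refl_det t ht]; decide)
    obtain ⟨h, rfl⟩ := hs γ
    rw [← GL23.q4_mul, ← map_mul] at htg
    have e1 := hrefl _ htg o ho
    rw [Subgroup.coe_mul] at e1
    have e2 := hrefl _ ht _ (D.conj_core g.2 ho)
    rw [show (h : L) * ((g : L) * o * (g : L)⁻¹) * (h : L)⁻¹ = (h : L) * g * o * ((h : L) * g)⁻¹ by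
      group, e1] at e2
    exact (inv_injective e2).symm
  refine ⟨hone g, fun hg o ho => ?_⟩
  have hgv : GL23.det4 (GL23.q4 (π (g * V))) = 1 := by
    have h2 := GL23.refl_det _ (hv D.v_mem)
    have hne : GL23.det4 (GL23.q4 (π g)) ≠ 0 := by
      rw [GL23.det4_q4]; exact Matrix.GeneralLinearGroup.det_ne_zero _
    have hmul : GL23.det4 (GL23.q4 (π (g * V))) =
        GL23.det4 (GL23.q4 (π g)) * GL23.det4 (GL23.q4 (π V)) := by
      rw [map_mul]
      simp only [GL23.det4_q4, Units.val_mul, Matrix.det_mul]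
    rw [hmul, h2]
    revert hg hne
    generalize GL23.det4 (GL23.q4 (π g)) = d
    revert d
    decide
  have e1 := hone _ hgv _ (inv_mem ho)
  rw [Subgroup.coe_mul, show ((V : ↥(Cz z)) : L) = v from rfl,
    show (g : L) * v * o⁻¹ * ((g : L) * v)⁻¹ = (g : L) * (v * o⁻¹ * v⁻¹) * (g : L)⁻¹ by group,
    D.inverts (inv_mem ho), inv_inv] at e1
  exact e1

theorem Duo.dicho {g : L} (hg : g ∈ Cz z) : (∀ o ∈ core z, g * o * g⁻¹ = o) ∨
    ∀ o ∈ core z, g * o * g⁻¹ = o⁻¹ := by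
  obtain ⟨π, hs, hk, -, hv⟩ := D.exists_pi
  by_cases h : GL23.det4 (GL23.q4 (π ⟨g, hg⟩)) = 1
  · exact Or.inl ((D.det_cases hs hk hv ⟨g, hg⟩).1 h)
  · exact Or.inr ((D.det_cases hs hk hv ⟨g, hg⟩).2 h)

theorem Duo.normalizes {E : Subgroup L} (hE : E ≤ core z) {g : L} (hg : g ∈ Cz z) {e : L} (he : e ∈ E) :
    g * e * g⁻¹ ∈ E := by
  rcases D.dicho hg with h | h
  · rw [h e (hE he)]; exact he
  · rw [h e (hE he)]; exact inv_mem he

/-- An element of odd order in `C(z)` centralises the core. -/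
theorem Duo.odd_fix {g : L} (hg : g ∈ Cz z) (ho : Odd (orderOf g)) {o : L} (hoc : o ∈ core z) :
    g * o = o * g := by
  rcases D.dicho hg with h | h
  · exact mul_inv_eq_iff_eq_mul.1 (h o hoc)
  · have h2 : g ^ 2 * o = o * g ^ 2 := by
      refine mul_inv_eq_iff_eq_mul.1 ?_
      calc g ^ 2 * o * (g ^ 2)⁻¹ = g * (g * o * g⁻¹) * g⁻¹ := by rw [pow_two]; group
        _ = o := by rw [h o hoc, h _ (inv_mem hoc), inv_inv]
    obtain ⟨n, hn⟩ := ho
    have e : g = (g ^ 2) ^ (n + 1) := by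
      rw [← pow_mul, show 2 * (n + 1) = orderOf g + 1 by omega, pow_succ, pow_orderOf_eq_one, one_mul]
    rw [e]
    exact ((show Commute (g ^ 2) o from h2).pow_left _).eq

/-- The only involution of `C(z)` centralising a non-trivial element of the core is `z`. -/
theorem Duo.invol_fix {g o : L} (hg : g ∈ Cz z) (h2 : g * g = 1) (h1 : g ≠ 1) (ho : o ∈ core z)
    (ho1 : o ≠ 1) (hgo : g * o = o * g) : g = z := by
  obtain ⟨π, hs, hk, hz, hv⟩ := D.exists_pi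
  have hd : GL23.det4 (GL23.q4 (π ⟨g, hg⟩)) = 1 := by
    by_contra hne
    have := (D.det_cases hs hk hv ⟨g, hg⟩).2 hne o ho
    change g * o * g⁻¹ = o⁻¹ at this
    rw [hgo, mul_inv_cancel_right] at this
    exact ho1 (D.core_eq_one ho this.symm)
  have hker : ∀ a : L, ∀ ha : a ∈ Cz z, a * a = 1 → π ⟨a, ha⟩ = 1 → a = 1 := by
    intro a ha haa h
    have hac : a ∈ core z := (D.mem_core (a := ⟨a, ha⟩)).2 (hk ▸ MonoidHom.mem_ker.2 h)
    exact D.core_eq_one hac (inv_eq_of_mul_eq_one_right haa)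
  rcases GL23.sq_refl_or _ hd (by
    rw [← GL23.q4_mul, ← map_mul, ← GL23.q4_one, ← map_one π]
    exact congrArg GL23.q4 (congrArg π (Subtype.ext h2))) with e | e
  · rw [← GL23.q4_one] at e
    exact absurd (hker g hg h2 (GL23.q4_injective e)) h1
  · rw [← hz D.z_mem] at e
    have he := GL23.q4_injective e
    have hcomm : g * z = z * g := mem_centralizer_singleton_iff.1 hg
    have hzg : z * g = 1 := by
      refine hker _ (mul_mem D.z_mem hg) ?_ ?_
      · calc z * g * (z * g) = z * (g * z) * g := by group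
          _ = z * (z * g) * g := by rw [hcomm]
          _ = 1 := by rw [← mul_assoc z, D.zz, one_mul, h2]
      · rw [show (⟨z * g, mul_mem D.z_mem hg⟩ : ↥(Cz z)) = ⟨z, D.z_mem⟩ * ⟨g, hg⟩ from rfl, map_mul,
          he, ← map_mul, ← map_one π]
        exact congrArg π (Subtype.ext D.zz)
    rw [← inv_eq_of_mul_eq_one_right D.zz]
    exact eq_inv_of_mul_eq_one_right hzg

theorem Duo.card_cz : Nat.card (Cz z) = 48 * Nat.card (core z) := by
  haveI : Fact (Nat.Prime 3) := ⟨Nat.prime_three⟩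
  obtain ⟨π, hs, hk, -, -⟩ := D.exists_pi
  rw [card_eq_card_quotient_mul_card_subgroup π.ker,
    Nat.card_congr (QuotientGroup.quotientKerEquivOfSurjective π hs).toEquiv, hk,
    show core z = (Cfsg.oddCore ↥(Cz z)).map (Cz z).subtype from rfl,
    card_map_of_injective (subtype_injective _), Linear.card_GL_two, ZMod.card]; norm_num

/-- An odd subgroup of `C(z)`. -/
theorem Duo.odd_card {A : Subgroup L} (hA : A ≤ Cz z) (ho : Odd (Nat.card A)) :
    Nat.card A ∣ 3 * Nat.card ↥(A ⊓ core z) := by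
  obtain ⟨π, hs, hk, -, -⟩ := D.exists_pi
  haveI : Fact (Nat.Prime 3) := ⟨Nat.prime_three⟩
  set f := π.comp (inclusion hA) with hf
  have h1 := card_eq_card_quotient_mul_card_subgroup f.ker
  rw [Nat.card_congr (QuotientGroup.quotientKerEquivRange f).toEquiv] at h1
  have hker : Nat.card f.ker = Nat.card ↥(A ⊓ core z) := by
    refine Nat.card_congr
      { toFun := fun a => ⟨(a.1 : L), a.1.2, ?_⟩
        invFun := fun a => ⟨⟨a.1, a.2.1⟩, ?_⟩
        left_inv := fun a => rfl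
        right_inv := fun a => rfl }
    · exact (D.mem_core (a := inclusion hA a.1)).2 (hk ▸ MonoidHom.mem_ker.2 (MonoidHom.mem_ker.1 a.2))
    · refine MonoidHom.mem_ker.2 (MonoidHom.mem_ker.1 ?_)
      show inclusion hA ⟨a.1, a.2.1⟩ ∈ π.ker
      rw [hk]
      exact (D.mem_core (a := inclusion hA ⟨a.1, a.2.1⟩)).1 a.2.2
  rw [hker] at h1
  rw [h1]
  refine mul_dvd_mul_right ?_ _
  have hodd : Odd (Nat.card f.range) := ho.of_dvd_nat ⟨_, h1⟩
  have h48 : Nat.card f.range ∣ 2 ^ 4 * 3 := by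
    refine (card_subgroup_dvd_card _).trans ?_
    rw [Linear.card_GL_two, ZMod.card]; norm_num
  exact ((Nat.coprime_two_left.2 hodd).pow_left 4).symm.dvd_of_dvd_mul_left h48

theorem Duo.cube_mem {g : L} (hg : g ∈ Cz z) (ho : Odd (orderOf g)) : g ^ 3 ∈ core z := by
  obtain ⟨π, hs, hk, -, -⟩ := D.exists_pi
  haveI : Fact (Nat.Prime 3) := ⟨Nat.prime_three⟩
  refine (D.mem_core (a := (⟨g, hg⟩ : ↥(Cz z)) ^ 3)).2 ?_
  rw [← hk, MonoidHom.mem_ker, map_pow, ← orderOf_dvd_iff_pow_eq_one]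
  have hodd : Odd (orderOf (π ⟨g, hg⟩)) := by
    refine ho.of_dvd_nat ?_
    refine (orderOf_map_dvd π _).trans ?_
    rw [Subgroup.orderOf_mk]
  have h48 : orderOf (π ⟨g, hg⟩) ∣ 2 ^ 4 * 3 := by
    refine (_root_.orderOf_dvd_natCard (π ⟨g, hg⟩)).trans ?_
    rw [Linear.card_GL_two, ZMod.card]; norm_num
  exact ((Nat.coprime_two_left.2 hodd).pow_left 4).symm.dvd_of_dvd_mul_left h48

/-- A `2`-element commuting with an element of odd order outside the core. -/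
theorem Duo.two_comm {g x : L} (hg : g ∈ Cz z) (h2 : ∃ j : ℕ, g ^ 2 ^ j = 1) (hx : x ∈ Cz z)
    (ho : Odd (orderOf x)) (hxc : x ∉ core z) (hgx : g * x = x * g) : g = 1 ∨ g = z := by
  haveI : Fact (Nat.Prime 3) := ⟨Nat.prime_three⟩
  obtain ⟨π, hs, hk, hz, -⟩ := D.exists_pi
  obtain ⟨j, hj⟩ := h2
  set X := GL23.q4 (π ⟨x, hx⟩) with hX
  set Γ := π ⟨g, hg⟩ with hΓ
  have hX1 : X ≠ GL23.one4 := fun e => hxc ((D.mem_core (a := ⟨x, hx⟩)).2 (hk ▸ MonoidHom.mem_ker.2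
    (GL23.q4_injective (e.trans GL23.q4_one.symm))))
  have hX3 : GL23.mul4 X (GL23.mul4 X X) = GL23.one4 := by
    have h3 : π ((⟨x, hx⟩ : ↥(Cz z)) ^ 3) = 1 :=
      MonoidHom.mem_ker.1 (hk ▸ (D.mem_core (a := (⟨x, hx⟩ : ↥(Cz z)) ^ 3)).1 (D.cube_mem hx ho))
    rw [hX, ← GL23.q4_mul, ← GL23.q4_mul, ← map_mul, ← map_mul, ← GL23.q4_one, ← h3]
    congr 2
    simp only [pow_succ, pow_zero, one_mul, mul_assoc]
  have hgX : GL23.mul4 (GL23.q4 Γ) X = GL23.mul4 X (GL23.q4 Γ) := by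
    rw [hX, hΓ, ← GL23.q4_mul, ← GL23.q4_mul, ← map_mul, ← map_mul]
    exact congrArg GL23.q4 (congrArg π (Subtype.ext hgx))
  have hΓj : Γ ^ 2 ^ j = 1 := by
    rw [hΓ, ← map_pow, ← map_one π]
    exact congrArg π (Subtype.ext (by simpa using hj))
  have h16 : Γ ^ 16 = 1 := by
    rw [← orderOf_dvd_iff_pow_eq_one]
    have h1 : orderOf Γ ∣ 2 ^ j := orderOf_dvd_of_pow_eq_one hΓj
    have h48 : orderOf Γ ∣ 3 * 2 ^ 4 := by
      refine (_root_.orderOf_dvd_natCard Γ).trans ?_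
      rw [Linear.card_GL_two, ZMod.card]; norm_num
    exact ((Nat.coprime_primes Nat.prime_two Nat.prime_three).2 (by norm_num)).pow_left j
      |>.coprime_dvd_left h1 |>.dvd_of_dvd_mul_left h48
  have hg16 : GL23.mul4 (GL23.mul4 (GL23.mul4 (GL23.mul4 (GL23.q4 Γ) (GL23.q4 Γ))
      (GL23.mul4 (GL23.q4 Γ) (GL23.q4 Γ))) (GL23.mul4 (GL23.mul4 (GL23.q4 Γ) (GL23.q4 Γ))
      (GL23.mul4 (GL23.q4 Γ) (GL23.q4 Γ)))) (GL23.mul4 (GL23.mul4 (GL23.mul4 (GL23.q4 Γ) (GL23.q4 Γ))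
      (GL23.mul4 (GL23.q4 Γ) (GL23.q4 Γ))) (GL23.mul4 (GL23.mul4 (GL23.q4 Γ) (GL23.q4 Γ))
      (GL23.mul4 (GL23.q4 Γ) (GL23.q4 Γ)))) = GL23.one4 := by
    simp only [← GL23.q4_mul]
    simp only [← pow_two, ← pow_mul]
    norm_num only
    rw [h16, GL23.q4_one]
  have hker : ∀ a : L, ∀ ha : a ∈ Cz z, (∃ i : ℕ, a ^ 2 ^ i = 1) → π ⟨a, ha⟩ = 1 → a = 1 := by
    intro a ha ⟨i, hi⟩ h
    have hac : a ∈ core z := (D.mem_core (a := ⟨a, ha⟩)).2 (hk ▸ MonoidHom.mem_ker.2 h)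
    rw [← orderOf_eq_one_iff]
    exact Nat.eq_one_of_dvd_coprimes ((Nat.coprime_two_left.2 (SDBlock25.Count.core_odd hac)).pow_left i)
      (orderOf_dvd_of_pow_eq_one hi) dvd_rfl
  rcases GL23.commute_three _ hX1 hX3 _ hgX hg16 with e | e
  · rw [← GL23.q4_one] at e
    exact Or.inl (hker g hg ⟨j, hj⟩ (GL23.q4_injective e))
  · rw [← hz D.z_mem] at e
    have he := GL23.q4_injective e
    refine Or.inr ?_
    have hzg : z * g = 1 := by
      refine hker _ (mul_mem D.z_mem hg) ⟨j + 1, ?_⟩ ?_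
      · have hcm : Commute z g := (mem_centralizer_singleton_iff.1 hg).symm
        rw [hcm.mul_pow, pow_succ' 2 j, pow_mul, pow_mul g, pow_two, D.zz, one_pow, one_mul, pow_two,
          ← pow_two, ← pow_mul, mul_comm, pow_mul, hj, one_pow]
      · rw [show (⟨z * g, mul_mem D.z_mem hg⟩ : ↥(Cz z)) = ⟨z, D.z_mem⟩ * ⟨g, hg⟩ from rfl, map_mul]
        rw [show π ⟨g, hg⟩ = π ⟨z, D.z_mem⟩ from he, ← map_mul, ← map_one π]
        exact congrArg π (Subtype.ext D.zz)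
    rw [← inv_eq_of_mul_eq_one_right D.zz]
    exact eq_inv_of_mul_eq_one_right hzg

/-- A subgroup normalised by `C(z)` containing an odd element outside the core contains `z`. -/
theorem Duo.normal_gen {X : Subgroup L} (hX : ∀ g ∈ Cz z, ∀ a ∈ X, g * a * g⁻¹ ∈ X) {x : L}
    (hxX : x ∈ X) (hx : x ∈ Cz z) (ho : Odd (orderOf x)) (hxc : x ∉ core z) : z ∈ X := by
  obtain ⟨π, hs, hk, hz, -⟩ := D.exists_pi
  set G₀ : ↥(Cz z) := ⟨x, hx⟩
  have hX1 : GL23.q4 (π G₀) ≠ GL23.one4 := fun e => hxc ((D.mem_core (a := G₀)).2 (hk ▸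
    MonoidHom.mem_ker.2 (GL23.q4_injective (e.trans GL23.q4_one.symm))))
  have hX3 : GL23.mul4 (GL23.q4 (π G₀)) (GL23.mul4 (GL23.q4 (π G₀)) (GL23.q4 (π G₀))) =
      GL23.one4 := by
    have h3 : π (G₀ ^ 3) = 1 := MonoidHom.mem_ker.1 (hk ▸ (D.mem_core (a := G₀ ^ 3)).1 (D.cube_mem hx ho))
    rw [← GL23.q4_mul, ← GL23.q4_mul, ← map_mul, ← map_mul, ← GL23.q4_one, ← h3]
    congr 2
    simp only [pow_succ, pow_zero, one_mul, mul_assoc]
  obtain ⟨q, hq1, hq4, hqz⟩ := GL23.comm_four _ hX1 hX3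
  obtain ⟨γ, rfl⟩ := GL23.exists_q4 (m := q) (by rw [hq1]; decide)
  obtain ⟨h, rfl⟩ := hs γ
  simp only [← GL23.q4_mul, ← map_mul, ← hz D.z_mem] at hqz hq4
  have e := GL23.q4_injective hqz
  have e4 := GL23.q4_injective (hq4.trans GL23.q4_one.symm)
  -- `h³` and `h⁻¹` agree modulo the core
  set t := h * G₀ * h⁻¹ * G₀⁻¹ with ht
  have hh : π (h * (h * h)) = π h⁻¹ := by
    rw [map_inv, eq_inv_iff_mul_eq_one, ← map_mul, mul_assoc h, mul_assoc h h]
    exact e4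
  have hxx : π (G₀ * G₀) = π G₀⁻¹ := by
    rw [map_inv, eq_inv_iff_mul_eq_one, ← map_mul, mul_assoc G₀]
    exact GL23.q4_injective (by rw [map_mul, map_mul, GL23.q4_mul, GL23.q4_mul, hX3, GL23.q4_one])
  have et : π (t * t) = π ⟨z, D.z_mem⟩ := by
    rw [← e]
    simp only [ht, map_mul] at hh hxx ⊢
    rw [hh, hxx]
  have htX : (t : L) ∈ X := by
    simp only [ht, Subgroup.coe_mul, Subgroup.coe_inv]
    exact mul_mem (hX _ h.2 x hxX) (inv_mem hxX)
  set o := (⟨z, D.z_mem⟩ : ↥(Cz z))⁻¹ * (t * t) with ho'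
  have hoc : (o : L) ∈ core z := D.mem_core.2 (by
    rw [← hk, MonoidHom.mem_ker, ho', map_mul, map_inv, et, inv_mul_cancel])
  have hzo : z * (o : L) ∈ X := by
    rw [ho']
    simp only [Subgroup.coe_mul, Subgroup.coe_inv, mul_inv_cancel_left]
    exact mul_mem htX htX
  have hn := SDBlock25.Count.card_core_odd z
  obtain ⟨n, hn⟩ := hn
  have hpow : (z * (o : L)) ^ (2 * n + 1) = z := by
    rw [(show Commute z (o : L) from SDBlock25.Count.core_comm hoc).mul_pow, ← hn,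
      orderOf_dvd_iff_pow_eq_one.1 (SDBlock25.Count.orderOf_dvd_core hoc), mul_one, hn, pow_succ,
      pow_mul, pow_two, D.zz, one_pow, one_mul]
  rw [← hpow]
  exact pow_mem hzo _

/-- An odd subgroup of `C(z)` containing the core with index three, inverted by `v`. -/
theorem Duo.exists_three : ∃ A : Subgroup L, core z ≤ A ∧ A ≤ Cz z ∧
    Nat.card A = 3 * Nat.card (core z) ∧ (∀ a ∈ A, v * a * v⁻¹ = a⁻¹) ∧
    (∀ a ∈ A, ∀ b ∈ A, a * b = b * a) := by
  obtain ⟨π, hs, hk, hz, hv⟩ := D.exists_pi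
  set V : ↥(Cz z) := ⟨v, D.v_mem⟩ with hV
  obtain ⟨X, hX1, hX3, hXv⟩ := GL23.refl_inverts _ (hv D.v_mem)
  obtain ⟨γ, rfl⟩ := GL23.exists_q4 (m := X) (by rw [GL23.cube_det _ hX3]; decide)
  rw [← GL23.q4_mul, ← GL23.q4_mul] at hX3 hXv
  rw [← GL23.q4_mul] at hXv
  have hγ3 : γ * (γ * γ) = 1 := GL23.q4_injective (hX3.trans GL23.q4_one.symm)
  have hγo : orderOf γ = 3 := by
    haveI : Fact (Nat.Prime 3) := ⟨Nat.prime_three⟩
    refine orderOf_eq_prime ?_ fun e => hX1 (by rw [e, GL23.q4_one])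
    rw [← hγ3]; simp only [pow_succ, pow_zero, one_mul, mul_assoc]
  set A := ((zpowers γ).comap π).map (Cz z).subtype with hA
  have hcard : Nat.card A = 3 * Nat.card (core z) := by
    rw [hA, show core z = (Cfsg.oddCore ↥(Cz z)).map (Cz z).subtype from rfl,
      card_map_of_injective (subtype_injective _), card_map_of_injective (subtype_injective _)]
    have h1 := card_mul_index ((zpowers γ).comap π)
    have h2 := card_mul_index (zpowers γ)
    rw [index_comap_of_surjective _ hs] at h1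
    rw [card_eq_card_quotient_mul_card_subgroup π.ker,
      Nat.card_congr (QuotientGroup.quotientKerEquivOfSurjective π hs).toEquiv, hk, ← h2,
      Nat.card_zpowers, hγo] at h1
    refine Nat.eq_of_mul_eq_mul_right (Nat.pos_of_ne_zero (FiniteIndex.index_ne_zero (H := zpowers γ)))
      (h1.trans ?_)
    ring
  have hAC : A ≤ Cz z := map_subtype_le _
  have hcore : core z ≤ A := by
    rintro _ ⟨a, ha, rfl⟩
    refine mem_map_of_mem _ (show π a ∈ zpowers γ from ?_)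
    rw [MonoidHom.mem_ker.1 (hk ▸ ha : a ∈ π.ker)]
    exact one_mem _
  have hn : ∀ a ∈ A, v * a * v⁻¹ ∈ A := by
    rintro _ ⟨a, ha, rfl⟩
    refine ⟨V * a * V⁻¹, ?_, rfl⟩
    obtain ⟨i, hi⟩ := (ha : π a ∈ zpowers γ)
    show π (V * a * V⁻¹) ∈ zpowers γ
    have hVV : (π V)⁻¹ = π V := by
      rw [← map_inv]; exact congrArg π (Subtype.ext D.inv_v)
    have hconj : π V * γ * (π V)⁻¹ = γ * γ := by
      rw [hVV, mul_assoc]; exact GL23.q4_injective hXv
    rw [map_mul, map_mul, map_inv, ← hi, ← conj_zpow, hconj]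
    exact zpow_mem (mul_mem (mem_zpowers γ) (mem_zpowers γ)) _
  have hodd : Odd (Nat.card A) := by
    rw [hcard]; exact (by decide : Odd 3).mul (SDBlock25.Count.card_core_odd z)
  obtain ⟨S, hS⟩ := D.exists_ctx
  have hinv : ∀ a ∈ A, v * a * v⁻¹ = a⁻¹ := by
    refine LargeExtra.Basic.inverts_of_fixedPointFree D.vv A hn ?_
    intro a ha hfix
    have hW : a ∈ W := hS.centV (hAC ha) (mul_inv_eq_iff_eq_mul.1 hfix).symm
    rw [← orderOf_eq_one_iff]
    exact Nat.eq_one_of_dvd_coprimes (Nat.coprime_two_left.2 hodd)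
      (orderOf_dvd_of_pow_eq_one (by rw [pow_two]; exact D.fsd.four.sq a hW))
      (Subgroup.orderOf_dvd_natCard _ ha)
  refine ⟨A, hcore, hAC, hcard, hinv, fun a ha b hb => inv_injective ?_⟩
  rw [← hinv _ (mul_mem ha hb), mul_inv_rev, ← hinv a ha, ← hinv b hb]
  group

end Cfsg.Agent.Lib.Suborbit46
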