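import Cfsg.Agent.Lib.Suborbit46.Graph

/-!
# Shifting a critical pair
-/

set_option autoImplicit false
set_option linter.unusedSectionVars false

namespace Cfsg.Agent.Lib.Suborbit46

open Subgroup
open scoped commutatorElement Pointwise

universe u

variable {G : Type u} [Group G] {H P : Subgroup G}

/-- Commutators `[G_{cd}, V_c]` lie in `Z₀(d)` for every edge with `d` of type `s`. -/
def IntoA (P : Subgroup G) (g₀ : G) (s : Bool) : Prop :=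
  ∀ u c : Bool × (G ⧸ H), u.1 = s → Adj g₀ u c →
    ∀ x ∈ St c.2 ⊓ St u.2, ∀ v ∈ Vv P c.2, ⁅x, v⁆ ∈ Z0v P u.2

/-- Modules of two neighbours of a vertex of type `s` commute. -/
def Comm (P : Subgroup G) (g₀ : G) (s : Bool) : Prop :=
  ∀ u c c' : Bool × (G ⧸ H), u.1 = s → Adj g₀ u c → Adj g₀ u c' →
    ∀ v ∈ Vv P c.2, ∀ w ∈ Vv P c'.2, v * w = w * v

variable [Finite G] (C : Con G H P) {g₀ : G} (T : Turn H P g₀)

include C T

/-- A third vertex can be produced next to any edge. -/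
theorem Con.exists_other {u u₁ : Bool × (G ⧸ H)} (e : Adj g₀ u u₁) :
    ∃ c, Adj g₀ u c ∧ c.2 ≠ u₁.2 := by
  obtain ⟨h1, g, hu, hw⟩ := e
  obtain ⟨h, hh, hn⟩ := C.setup.exists_notMem
  obtain ⟨hσ, hσH⟩ := T.step u.1
  set σ := step g₀ u.1 with hσdef
  refine ⟨(!u.1, ((g * h * σ : G) : G ⧸ H)), ⟨rfl, g * h, ?_, rfl⟩, fun e => hn ?_⟩
  · rw [← hu]; exact QuotientGroup.eq.2 (by simpa using inv_mem hh)
  · rw [← hw] at e
    have := QuotientGroup.eq.1 e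
    rw [← C.inter_eq hσ hσH]
    exact Subgroup.mem_inf.2 ⟨hh, mem_cj.2 (by simpa [mul_assoc] using inv_mem this)⟩

omit T in
theorem Con.intoA_of_edge {u c : Bool × (G ⧸ H)} (e : Adj g₀ u c)
    (h : ∀ x ∈ St c.2 ⊓ St u.2, ∀ v ∈ Vv P c.2, ⁅x, v⁆ ∈ Z0v P u.2) :
    IntoA (H := H) P g₀ u.1 := by
  intro u' c' hs e' x hx v hv
  obtain ⟨k, hk, hk'⟩ := e.exists_smul e' hs.symm
  rw [← hk, ← hk', St_smul, St_smul, cj, cj,
    ← Subgroup.map_inf _ _ _ (MulAut.conj k).injective] at hx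
  rw [← hk', Vv_smul] at hv
  rw [← hk, Z0v_smul, mem_cj]
  have := h _ (mem_cj.1 hx) _ (mem_cj.1 hv)
  simpa [commutatorElement_def, mul_assoc] using this

theorem Con.near {b : ℕ} (hmin : ∀ n < b, ∀ u w : Bool × (G ⧸ H), ¬ Crit P g₀ n u w) {n : ℕ}
    (hn : n < b) {u w : Bool × (G ⧸ H)} (h : Walk g₀ n u w) : Vv P u.2 ≤ Kv P w.2 := by
  by_contra hle
  exact hmin n hn u w ⟨h, hle⟩

theorem Con.le_St {b : ℕ} (hb : 1 ≤ b) (hmin : ∀ n < b, ∀ u w : Bool × (G ⧸ H), ¬ Crit P g₀ n u w)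
    {u w : Bool × (G ⧸ H)} (h : Walk g₀ b u w) : Vv P u.2 ≤ St w.2 := by
  obtain ⟨b', rfl⟩ := Nat.exists_eq_add_of_le' hb
  obtain ⟨m, hm, e⟩ := h.last
  exact (C.near T hmin (by omega) hm).trans (C.Kv_le_edge (e.edge T))

theorem Con.crit_rev {b : ℕ} (hb : 1 ≤ b)
    (hmin : ∀ n < b, ∀ u w : Bool × (G ⧸ H), ¬ Crit P g₀ n u w)
    {u w : Bool × (G ⧸ H)} (h : Crit P g₀ b u w) : Crit P g₀ b w u := by
  refine ⟨h.1.symm, fun hle => h.2 fun v hv => ?_⟩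
  exact C.cent_Vv (C.le_St T hb hmin h.1 hv) fun x hx => (C.comm_Kv hv (hle hx)).symm

/-- The value of the commutator of a critical pair. -/
theorem Con.crit_comm {b : ℕ} (hb : 1 ≤ b)
    (hmin : ∀ n < b, ∀ u w : Bool × (G ⧸ H), ¬ Crit P g₀ n u w)
    {u w u₁ w₁ : Bool × (G ⧸ H)} (h : Crit P g₀ b u w) (hu₁ : Adj g₀ u u₁)
    (hu₁' : Walk g₀ (b - 1) u₁ w) (hw₁ : Adj g₀ w₁ w) (hw₁' : Walk g₀ (b - 1) u w₁) :
    ∃ v ∈ Vv P u.2, ∃ x ∈ Vv P w.2, v ∈ St w.2 ⊓ St w₁.2 ∧ x ∈ St u.2 ⊓ St u₁.2 ∧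
      ⁅x, v⁆ ≠ 1 := by
  obtain ⟨x, hx, hx'⟩ := SetLike.not_le_iff_exists.1 (C.crit_rev T hb hmin h).2
  have hxE : x ∈ St u.2 ⊓ St u₁.2 := Subgroup.mem_inf.2
    ⟨C.le_St T hb hmin h.1.symm hx, C.Kv_le_St _ (C.near T hmin (by omega) hu₁'.symm hx)⟩
  obtain ⟨v, hv, hne⟩ : ∃ v ∈ Vv P u.2, ⁅x, v⁆ ≠ 1 := by
    by_contra! hall
    exact hx' (C.cent_Vv (Subgroup.mem_inf.1 hxE).1 fun v hv =>
      commutatorElement_eq_one_iff_mul_comm.1 (hall v hv))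
  exact ⟨v, hv, x, hx, Subgroup.mem_inf.2 ⟨C.le_St T hb hmin h.1 hv,
    C.Kv_le_St _ (C.near T hmin (by omega) hw₁' hv)⟩, hxE, hne⟩

/-- The arc group determines the neighbour. -/
theorem Con.adj_eq {u c c' : Bool × (G ⧸ H)} (e : Adj g₀ u c) (e' : Adj g₀ u c')
    (h : St u.2 ⊓ St c.2 ≤ St c'.2) : c.2 = c'.2 := by
  obtain ⟨-, g₁, hg₁, hg₂⟩ := e
  obtain ⟨-, g₂, hg₃, hg₄⟩ := e'
  obtain ⟨hσ, hσH⟩ := T.step u.1
  set σ := step g₀ u.1
  have key : ∀ g : G, (g : G ⧸ H) = u.2 → St u.2 ⊓ St ((g * σ : G) : G ⧸ H) = cj g P := by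
    intro g hg
    rw [St_eq hg, St_eq (g := g * σ) rfl, cj_mul, cj, cj,
      ← Subgroup.map_inf _ _ _ (MulAut.conj g).injective]
    show cj g (H ⊓ cj σ H) = _
    rw [C.inter_eq hσ hσH]
  have hh : g₁⁻¹ * g₂ ∈ H := QuotientGroup.eq.1 (hg₁.trans hg₃.symm)
  have hle : cj g₁ P ≤ cj g₂ P := by
    rw [← key g₁ hg₁, ← key g₂ hg₃, hg₂, hg₄]
    exact le_inf inf_le_left h
  have heq := Subgroup.eq_of_le_of_card_ge hle (by rw [card_cj, card_cj])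
  have hP : cj (g₁⁻¹ * g₂) P = P := by rw [cj_mul, ← heq, ← cj_mul, inv_mul_cancel, cj_one]
  have hmem : g₁⁻¹ * g₂ ∈ P := by
    by_contra hn
    exact C.setup.conj_notMem C.ne_bot hh hn hP
  rw [← C.inter_eq hσ hσH] at hmem
  rw [← hg₂, ← hg₄]
  exact QuotientGroup.eq.2 (by
    simpa [mul_assoc] using mem_cj.1 (Subgroup.mem_inf.1 hmem).2)

/-- The shift lemma. -/
theorem Con.start {b : ℕ} (hb : 2 ≤ b)
    (hmin : ∀ n < b, ∀ u w : Bool × (G ⧸ H), ¬ Crit P g₀ n u w)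
    {u w : Bool × (G ⧸ H)} (h : Crit P g₀ b u w) :
    IntoA (H := H) P g₀ u.1 ∧
      (Comm (H := H) P g₀ u.1 ∨ ∃ e w' : Bool × (G ⧸ H), e.1 = !u.1 ∧ Crit P g₀ b e w') := by
  obtain ⟨b', rfl⟩ := Nat.exists_eq_add_of_le' hb
  obtain ⟨u₁, hu₁, hu₁'⟩ := h.1
  obtain ⟨w₁, hw₁', hw₁⟩ := h.1.last
  obtain ⟨w₂, hw₂', hw₂⟩ := hw₁'.last
  obtain ⟨v₀, hv₀, x₀, hx₀, hv₀E, hx₀E, hne⟩ := C.crit_comm T (by omega) hmin h hu₁ hu₁' hw₁
    (by simpa using hw₁')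
  have Eu₁ := hu₁.edge T
  -- the value of the commutator on both ends
  set z := ⁅x₀, v₀⁆ with hz
  have hzu : z ∈ Vv P u.2 := (Subgroup.mem_inf.1 (C.edge_comm Eu₁ hx₀E hv₀).1).1
  have hne' : ⁅v₀, x₀⁆ ≠ 1 := fun e => hne (by rw [hz, ← commutatorElement_inv, e, inv_one])
  have hvx : ⁅v₀, x₀⁆ = z := by
    rw [hz, ← commutatorElement_inv, C.inv_Vv hzu]
  have hsub : ∀ v ∈ St w.2 ⊓ St w₁.2, ∀ x ∈ Vv P w.2, ⁅v, x⁆ ∈ Vv P u.2 := by
    intro v hv x hx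
    by_cases he : ⁅v, x⁆ = 1
    · rw [he]; exact one_mem _
    rw [((C.edge_comm (hw₁.symm.edge T) hv₀E hx₀).2 hne').2 v hv x hx he, hvx]
    exact hzu
  have hx₀K : x₀ ∉ Kv P u.2 := fun hk => hne (commutatorElement_eq_one_iff_mul_comm.2
    (C.comm_Kv hv₀ hk))
  obtain ⟨e, he, hene⟩ := C.exists_other T hu₁
  have Ee := he.edge T
  have hxe : x₀ • e.2 ≠ e.2 := by
    intro hfix
    refine hx₀K ?_
    -- fixing two neighbours forces membership in the core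
    obtain ⟨k, hku, hke⟩ := hu₁.exists_smul he rfl
    by_contra hxK
    have hEE : St u.2 ⊓ St u₁.2 ≤ St e.2 := by
      obtain ⟨g, -, hE, hK, -⟩ := C.edge_base Eu₁
      intro y hy
      rw [hE, mem_cj] at hy
      have hx' : g⁻¹ * x₀ * g ∈ P := by rw [← mem_cj, ← hE]; exact hx₀E
      have hxK' : g⁻¹ * x₀ * g ∉ coreIn H P := fun h' => hxK (by rwa [hK, mem_cj])
      have := C.setup.le_of_core_le C.ne_bot (A := cj g⁻¹ (St e.2)) hx' hxK'
        (fun c hc => mem_cj.2 (by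
          have : g * c * g⁻¹ ∈ St e.2 := C.Kv_le_edge Ee (hK ▸ conj_mem_cj hc)
          simpa using this))
        (mem_cj.2 (by simpa [mul_assoc] using mem_St.2 hfix)) hy
      simpa [mul_assoc] using mem_cj.1 this
    exact hene (C.adj_eq T hu₁ he hEE).symm
  -- the failing case
  have hfail : ∀ e, Adj g₀ u e → x₀ • e.2 ≠ e.2 → Vv P e.2 ≤ Kv P w₁.2 →
      IntoA (H := H) P g₀ u.1 ∧ Comm (H := H) P g₀ u.1 := by
    intro e he hxe hle
    have Ee := he.edge T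
    set N := Vv P u.2 ⊔ Vv P e.2 with hN
    have hVeK : Vv P e.2 ≤ Kv P u.2 := C.near T hmin (show 1 < b' + 2 by omega) he.symm.walk
    have hnormN : ∀ y ∈ St u.2, (∀ v ∈ Vv P e.2, y * v * y⁻¹ ∈ N) → ∀ n ∈ N, y * n * y⁻¹ ∈ N := by
      intro y hy hye n hn
      have key : N ≤ cj y⁻¹ N := by
        refine sup_le (fun v hv => mem_cj.2 ?_) (fun v hv => mem_cj.2 ?_)
        · rw [inv_inv]; exact le_sup_left (b := Vv P e.2) (C.conj_Vv hv hy)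
        · rw [inv_inv]; exact hye v hv
      simpa [mul_assoc] using mem_cj.1 (key hn)
    have hx₀N : x₀ ∈ normalizer (N : Set G) := by
      have hx1 : ∀ n ∈ N, x₀ * n * x₀⁻¹ ∈ N :=
        hnormN x₀ (Subgroup.mem_inf.1 hx₀E).1 fun v hv => by
          have hvE : v ∈ St w.2 ⊓ St w₁.2 := Subgroup.mem_inf.2
            ⟨C.Kv_le_edge (hw₁.edge T) (hle hv), C.Kv_le_St _ (hle hv)⟩
          have h1 := hsub v hvE x₀ hx₀
          have e1 : x₀ * v * x₀⁻¹ = ⁅v, x₀⁆⁻¹ * v := by rw [commutatorElement_def]; group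
          rw [e1, C.inv_Vv h1]
          exact mul_mem (le_sup_left (b := Vv P e.2) h1) (le_sup_right (a := Vv P u.2) hv)
      rw [mem_normalizer_iff]
      refine fun n => ⟨hx1 n, fun hn => ?_⟩
      have h2 := hx1 _ hn
      rw [C.inv_Vv hx₀] at h2
      simpa [← mul_assoc, C.sq_Vv hx₀, mul_assoc n, C.sq_Vv hx₀] using h2
    have hEN : St u.2 ⊓ St e.2 ≤ normalizer (N : Set G) := le_normalizer_of_conj_mem fun y hy =>
      hnormN y (Subgroup.mem_inf.1 hy).1 fun v hv =>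
        le_sup_right (a := Vv P u.2) (C.conj_Vv hv (Subgroup.mem_inf.1 hy).2)
    have hStN : St u.2 ≤ normalizer (N : Set G) := C.edge_max Ee hEN hx₀N
      (Subgroup.mem_inf.1 hx₀E).1 fun hm => hxe (mem_St.1 hm)
    have hall : ∀ c, Adj g₀ u c → Vv P c.2 ≤ N := by
      intro c hc
      obtain ⟨k, hk, hk'⟩ := he.exists_smul hc rfl
      rw [← hk', Vv_smul]
      intro y hy
      have := (mem_normalizer_iff.1 (hStN (mem_St.2 hk)) _).1
        (le_sup_right (a := Vv P u.2) (mem_cj.1 hy))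
      simpa [mul_assoc] using this
    have hprod : (N : Set G) = (Vv P u.2 : Set G) * (Vv P e.2 : Set G) :=
      Subgroup.coe_mul_of_left_le_normalizer_right _ _
        ((C.Vv_le_Kv _).trans ((C.Kv_le_edge Ee).trans (C.normalizer_Vv _)))
    have hmem : ∀ n ∈ N, ∃ a ∈ Vv P u.2, ∃ v ∈ Vv P e.2, n = a * v := fun n hn => by
      rw [← SetLike.mem_coe, hprod, Set.mem_mul] at hn
      obtain ⟨a, ha, v, hv, e1⟩ := hn
      exact ⟨a, ha, v, hv, e1.symm⟩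
    have hNcomm : ∀ n ∈ N, ∀ n' ∈ N, n * n' = n' * n := by
      intro n hn n' hn'
      obtain ⟨a, ha, v, hv, rfl⟩ := hmem n hn
      obtain ⟨a', ha', v', hv', rfl⟩ := hmem n' hn'
      have haa : Commute a a' := (C.comm_Kv ha' (C.Vv_le_Kv _ ha))
      have hav : Commute a v' := (C.comm_Kv ha (hVeK hv')).symm
      have hva : Commute v a' := C.comm_Kv ha' (hVeK hv)
      have hvv : Commute v v' := C.comm_Kv hv' (C.Vv_le_Kv _ hv)
      exact ((haa.mul_right hav).mul_left (hva.mul_right hvv)).eq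
    refine ⟨?_, fun u' c c' hs hc hc' v hv v' hv' => ?_⟩
    · obtain ⟨k₀, hk₀, hk₀'⟩ := SetLike.not_le_iff_exists.1 (C.Kv_ne Ee)
      have hk₀E : k₀ ∈ St e.2 ⊓ St u.2 :=
        Subgroup.mem_inf.2 ⟨C.Kv_le_edge Ee hk₀, C.Kv_le_St _ hk₀⟩
      obtain ⟨v₁, hv₁, hne₁⟩ : ∃ v ∈ Vv P e.2, ⁅k₀, v⁆ ≠ 1 := by
        by_contra! hall'
        exact hk₀' (C.cent_Vv (Subgroup.mem_inf.1 hk₀E).1 fun v hv =>
          commutatorElement_eq_one_iff_mul_comm.1 (hall' v hv))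
      obtain ⟨hmF, hm2⟩ := C.edge_comm Ee.symm hk₀E hv₁
      set m := ⁅k₀, v₁⁆ with hm
      have hmu : m ∈ Vv P u.2 := C.Zed_symm Ee.symm hmF
      have hcomm : ∀ k ∈ Kv P u.2, ∀ n ∈ N, ⁅k, n⁆ = 1 ∨ ⁅k, n⁆ = m := by
        intro k hk n hn
        obtain ⟨a, ha, v, hv, rfl⟩ := hmem n hn
        have hkE : k ∈ St e.2 ⊓ St u.2 :=
          Subgroup.mem_inf.2 ⟨C.Kv_le_edge Ee hk, C.Kv_le_St _ hk⟩
        have hF := (C.edge_comm Ee.symm hkE hv).1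
        have hkv : ⁅k, a * v⁆ = ⁅k, v⁆ := by
          have h1 : Commute k a := C.comm_Kv ha hk
          have h2 : Commute ⁅k, v⁆ a := by
            have h2' := C.Zed_symm Ee.symm hF
            exact C.comm_Kv ha (C.Vv_le_Kv _ h2')
          calc ⁅k, a * v⁆ = (k * a) * v * k⁻¹ * v⁻¹ * a⁻¹ := by rw [commutatorElement_def]; group
            _ = a * ⁅k, v⁆ * a⁻¹ := by rw [h1.eq, commutatorElement_def]; group
            _ = ⁅k, v⁆ := by rw [← h2.eq, mul_inv_cancel_right]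
        rw [hkv]
        by_cases h1 : ⁅k, v⁆ = 1
        · exact Or.inl h1
        · exact Or.inr ((hm2 hne₁).2 k hkE v hv h1)
      have hcent : ∀ h ∈ St u.2, h * m * h⁻¹ = m := by
        intro h hh
        have e1 : h * m * h⁻¹ = ⁅h * k₀ * h⁻¹, h * v₁ * h⁻¹⁆ := by
          rw [hm]; simp [commutatorElement_def, mul_assoc]
        have hk : h * k₀ * h⁻¹ ∈ Kv P u.2 := by
          have := conj_mem_cj (g := h) hk₀
          rwa [← Kv_smul, mem_St.1 hh] at this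
        have hn : h * v₁ * h⁻¹ ∈ N :=
          (mem_normalizer_iff.1 (hStN hh) _).1 (le_sup_right (a := Vv P u.2) hv₁)
        rw [e1]
        rcases hcomm _ hk _ hn with h1 | h1
        · rw [← e1] at h1
          exact absurd (conj_eq_one_iff.1 h1) hne₁
        · exact h1
      refine C.intoA_of_edge he fun x hx v hv => ?_
      by_cases h1 : ⁅x, v⁆ = 1
      · rw [h1]; exact one_mem _
      rw [(hm2 hne₁).2 x hx v hv h1, Z0v, mem_cj, mem_Z0]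
      refine ⟨mem_cj.1 hmu, fun y hy => ?_⟩
      have h2 := hcent _ (show u.2.out * y * u.2.out⁻¹ ∈ St u.2 from conj_mem_cj hy)
      have h3 := congrArg (fun t => u.2.out⁻¹ * t * u.2.out) (mul_inv_eq_iff_eq_mul.1 h2)
      simpa [mul_assoc] using h3
    · obtain ⟨k, hk, hk'⟩ := hc.exists_smul (show Adj g₀ u' c from hc) rfl
      obtain ⟨k, hk, -⟩ := he.exists_smul hc hs.symm
      have hback : ∀ d, Adj g₀ u' d → Vv P d.2 ≤ cj k N := by
        intro d hd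
        have hd' : Adj g₀ u (d.1, k⁻¹ • d.2) := by
          have := hd.smul k⁻¹
          rw [← hk, inv_smul_smul] at this
          rwa [show (u'.1, u.2) = u from Prod.ext hs rfl] at this
        have h2 := cj_mono k (hall _ hd')
        rwa [← Vv_smul, smul_inv_smul] at h2
      have h1 := hNcomm _ (mem_cj.1 (hback c hc hv)) _ (mem_cj.1 (hback c' hc' hv'))
      have := congrArg (fun y => k * y * k⁻¹) h1
      simpa [mul_assoc] using this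
  -- the two shifts
  have hWalk : ∀ e, Adj g₀ u e → Walk g₀ (b' + 2) e w₁ := fun e he => ⟨u, he.symm, hw₁'⟩
  by_cases hd : Vv P e.2 ≤ Kv P w₁.2
  · obtain ⟨h1, h2⟩ := hfail e he hxe hd
    exact ⟨h1, Or.inl h2⟩
  have he' : Adj g₀ u (e.1, x₀ • e.2) := by
    have := he.smul x₀
    rwa [mem_St.1 (Subgroup.mem_inf.1 hx₀E).1] at this
  by_cases hd' : Vv P (x₀ • e.2) ≤ Kv P w₁.2
  · have hxe' : x₀ • (e.1, x₀ • e.2).2 ≠ (e.1, x₀ • e.2).2 :=
      fun h => hxe (MulAction.injective x₀ h)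
    obtain ⟨h1, h2⟩ := hfail _ he' hxe' hd'
    exact ⟨h1, Or.inl h2⟩
  refine ⟨?_, Or.inr ⟨e, w₁, he.1, hWalk e he, hd⟩⟩
  -- both shifts are critical
  obtain ⟨v₁, hv₁, x₁, hx₁, hv₁E, hx₁E, hne₁⟩ := C.crit_comm T (b := b' + 2) (by omega) hmin
    (u := e) (w := w₁) (u₁ := u) (w₁ := w₂) ⟨hWalk e he, hd⟩ he.symm
    (by simpa using hw₁') hw₂ ⟨u, he.symm, hw₂'⟩
  obtain ⟨v₂, hv₂, x₂, hx₂, hv₂E, hx₂E, hne₂⟩ := C.crit_comm T (b := b' + 2) (by omega) hmin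
    (u := (e.1, x₀ • e.2)) (w := w₁) (u₁ := u) (w₁ := w₂) ⟨hWalk _ he', hd'⟩ he'.symm
    (by simpa using hw₁') hw₂ ⟨u, he'.symm, hw₂'⟩
  obtain ⟨hF₁, hm₁⟩ := C.edge_comm Ee.symm hx₁E hv₁
  obtain ⟨hF₂, -⟩ := C.edge_comm (he'.edge T).symm hx₂E hv₂
  set m := ⁅x₁, v₁⁆ with hm
  have hx1v : ⁅v₁, x₁⁆ = m := by
    rw [hm, ← commutatorElement_inv, C.inv_Vv (Subgroup.mem_inf.1 hF₁).1]
  have hx2v : ⁅v₂, x₂⁆ = ⁅x₂, v₂⁆ := by
    rw [← commutatorElement_inv, C.inv_Vv (Subgroup.mem_inf.1 hF₂).1]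
  have heq : ⁅x₂, v₂⁆ = m := by
    rw [← hx1v, ← hx2v]
    exact ((C.edge_comm (hw₂.symm.edge T) hv₁E hx₁).2 (hx1v ▸ hne₁)).2 v₂ hv₂E x₂ hx₂
      (hx2v ▸ hne₂)
  refine C.intoA_of_edge he fun x hx v hv => ?_
  by_cases h1 : ⁅x, v⁆ = 1
  · rw [h1]; exact one_mem _
  rw [(hm₁ hne₁).2 x hx v hv h1]
  rw [heq] at hF₂
  have hmu : m ∈ Vv P u.2 := C.Zed_symm Ee.symm hF₁
  have hle : St e.2 ⊓ St u.2 ≤ centralizer ({m} : Set G) := fun y hy =>
    mem_centralizer_singleton_iff.2 (mem_centralizer_iff.1 (Subgroup.mem_inf.1 hF₁).2 y hy)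
  have hle' : St (x₀ • e.2) ⊓ St u.2 ≤ centralizer ({m} : Set G) := fun y hy =>
    mem_centralizer_singleton_iff.2 (mem_centralizer_iff.1 (Subgroup.mem_inf.1 hF₂).2 y hy)
  obtain ⟨y, hy, hy'⟩ : ∃ y ∈ St (x₀ • e.2) ⊓ St u.2, y ∉ St e.2 := by
    by_contra! hall
    exact hxe (C.adj_eq T he' he fun y hy => hall y (by rwa [inf_comm] at hy))
  have hgen : St u.2 ≤ centralizer ({m} : Set G) :=
    C.edge_max Ee (A := centralizer ({m} : Set G)) (by rw [inf_comm]; exact hle) (hle' hy)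
      (Subgroup.mem_inf.1 hy).2 hy'
  rw [Z0v, mem_cj, mem_Z0]
  refine ⟨mem_cj.1 hmu, fun z hz => ?_⟩
  have h2 := mem_centralizer_singleton_iff.1 (hgen (conj_mem_cj (g := u.2.out) hz))
  have h3 := congrArg (fun t => u.2.out⁻¹ * t * u.2.out) h2
  simpa [mul_assoc] using h3

end Cfsg.Agent.Lib.Suborbit46
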