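import Cfsg.Agent.Lib.Suborbit46.Shape

/-!
# The two elementary abelian subgroups of `P` of order `|V|`, and `N(P)`
-/

set_option autoImplicit false
set_option linter.unusedSectionVars false
set_option linter.style.haveILetI false

namespace Cfsg.Agent.Lib.Suborbit46

open Subgroup
open scoped commutatorElement

universe u

variable {G : Type u} [Group G] [Finite G] {H P : Subgroup G}

/-- An element `g` of `N(P)` outside `H` moving `V` out of itself. -/
structure Pair (G : Type u) [Group G] (H P : Subgroup G) (g : G) : Prop where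
  con : Con G H P
  norm : g ∈ normalizer (P : Set G)
  notMem : g ∉ H
  nle : ¬ cj g (V H P) ≤ V H P

theorem Con.exists_pair (C : Con G H P) : ∃ g, Pair G H P g := by
  obtain ⟨g₁, hg₁, hg₁H⟩ := C.setup.exists_norm
  obtain ⟨g, hg, hgH, hnle⟩ := C.exists_conj_not_le ⟨hg₁, hg₁H⟩
  exact ⟨g, C, hg, hgH, C.core_eq_V ▸ hnle⟩

theorem Con.notMem_core (C : Con G H P) {p : G} (h : p ∉ V H P) : p ∉ coreIn H P := by
  rwa [C.core_eq_V]

theorem Con.V_le_P (C : Con G H P) : V H P ≤ P := C.V_le.trans coreIn_le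

theorem Con.card_P (C : Con G H P) : Nat.card P = 2 * Nat.card (V H P) := by
  rw [← C.core_eq_V, C.setup.card_core C.ne_bot]

theorem Con.mul_mem_V (C : Con G H P) {s t : G} (hs : s ∈ P) (ht : t ∈ P) (hs' : s ∉ V H P)
    (ht' : t ∉ V H P) : s * t ∈ V H P :=
  C.core_eq_V ▸ C.setup.mul_mem_core C.ne_bot hs ht (C.notMem_core hs') (C.notMem_core ht')

variable {g : G} (Q : Pair G H P g)

include Q

theorem Pair.cj_P : cj g P = P := cj_eq_self.2 Q.norm

theorem Pair.cj_le : cj g (V H P) ≤ P := (cj_mono g Q.con.V_le_P).trans Q.cj_P.le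

theorem Pair.sq {y : G} (hy : y ∈ cj g (V H P)) : y * y = 1 := by
  have := congrArg (fun z => g * z * g⁻¹) (Q.con.sq_V (mem_cj.1 hy))
  simpa [mul_assoc] using this

theorem Pair.comm {x y : G} (hx : x ∈ cj g (V H P)) (hy : y ∈ cj g (V H P)) : x * y = y * x :=
  comm_of_sq_one (fun _ ha => Q.sq ha) hx hy

theorem Pair.cj_Z : cj g (omegaCenter P) = omegaCenter P :=
  Subgroup.eq_of_le_of_card_ge (cj_omegaCenter_le Q.cj_P) (by rw [card_cj])

theorem Pair.Z_le : omegaCenter P ≤ cj g (V H P) := Q.cj_Z ▸ cj_mono g Z_le_V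

theorem Pair.exists_out : ∃ t ∈ cj g (V H P), t ∈ P ∧ t ∉ V H P ∧ t ∉ omegaCenter P := by
  obtain ⟨t, ht, htV⟩ := SetLike.not_le_iff_exists.1 Q.nle
  exact ⟨t, ht, Q.cj_le ht, htV, fun h => htV (Z_le_V h)⟩

theorem Pair.inf_eq {y : G} (hy : y ∈ V H P) (hy' : y ∈ cj g (V H P)) : y ∈ omegaCenter P := by
  obtain ⟨t, ht, htP, htV, -⟩ := Q.exists_out
  exact Q.con.fixed hy htP (Q.con.notMem_core htV) (Q.comm ht hy')

/-- The involutions of `P`. -/
theorem Pair.invol_cases {p : G} (hp : p ∈ P) (h2 : p * p = 1) :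
    p ∈ V H P ∨ p ∈ cj g (V H P) := by
  refine or_iff_not_imp_left.2 fun hpV => ?_
  obtain ⟨t, ht, htP, htV, -⟩ := Q.exists_out
  set v := p * t with hv
  have hvV : v ∈ V H P := Q.con.mul_mem_V hp htP hpV htV
  have htt : t * t = 1 := Q.sq ht
  have hp' : p = v * t := by rw [hv, mul_assoc, htt, mul_one]
  have hc : t * v = v * t := by
    have hti : t⁻¹ = t := inv_eq_of_mul_eq_one_right htt
    have hvi : v⁻¹ = v := inv_eq_of_mul_eq_one_right (Q.con.sq_V hvV)
    have hpi : (v * t)⁻¹ = v * t := inv_eq_of_mul_eq_one_right (hp' ▸ h2)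
    rw [mul_inv_rev, hti, hvi] at hpi
    exact hpi
  rw [hp']
  exact mul_mem (Q.Z_le (Q.con.fixed hvV htP (Q.con.notMem_core htV) hc)) ht

/-- An elementary abelian subgroup of `P` of order `|V|` is `V` or its conjugate. -/
theorem Pair.el_ab {A : Subgroup G} (hA : A ≤ P) (h2 : ∀ a ∈ A, a * a = 1)
    (hc : Nat.card A = Nat.card (V H P)) : A = V H P ∨ A = cj g (V H P) := by
  by_cases h : A ≤ V H P
  · exact Or.inl (Subgroup.eq_of_le_of_card_ge h hc.ge)
  refine Or.inr (Subgroup.eq_of_le_of_card_ge (fun a ha => ?_) (by rw [card_cj]; exact hc.ge))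
  obtain ⟨b, hb, hbV⟩ := SetLike.not_le_iff_exists.1 h
  have hb' := (Q.invol_cases (hA hb) (h2 b hb)).resolve_left hbV
  rcases Q.invol_cases (hA ha) (h2 a ha) with h1 | h1
  · have hab : a * b ∉ V H P := fun h3 => hbV (by simpa using mul_mem (inv_mem h1) h3)
    have h4 := (Q.invol_cases (hA (mul_mem ha hb)) (h2 _ (mul_mem ha hb))).resolve_left hab
    simpa using mul_mem h4 (inv_mem hb')
  · exact h1

theorem Pair.cj_cases {n : G} (hn : n ∈ normalizer (P : Set G)) :
    cj n (V H P) = V H P ∨ cj n (V H P) = cj g (V H P) := by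
  refine Q.el_ab ((cj_mono n Q.con.V_le_P).trans (cj_eq_self.2 hn).le) (fun a ha => ?_) (card_cj _ _)
  have := congrArg (fun z => n * z * n⁻¹) (Q.con.sq_V (mem_cj.1 ha))
  simpa [mul_assoc] using this

theorem Pair.V_ne_bot : V H P ≠ ⊥ := fun e => Q.nle (by rw [e, cj, Subgroup.map_bot])

theorem Pair.normalizer_V : normalizer (V H P : Set G) = H :=
  le_antisymm (Q.con.setup.norm_le (Q.con.V_le.trans coreIn_le_left) Q.V_ne_bot le_normalizer_V)
    le_normalizer_V

theorem Pair.mem_of_norm {n : G} (hn : n ∈ normalizer (P : Set G)) (h : cj n (V H P) = V H P) :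
    n ∈ P := by
  by_contra hnP
  exact Q.con.setup.conj_notMem Q.con.ne_bot (Q.normalizer_V ▸ cj_eq_self.1 h) hnP
    (cj_eq_self.2 hn)

theorem Pair.mem_or {n : G} (hn : n ∈ normalizer (P : Set G)) : n ∈ P ∨ g⁻¹ * n ∈ P := by
  rcases Q.cj_cases hn with h | h
  · exact Or.inl (Q.mem_of_norm hn h)
  · refine Or.inr (Q.mem_of_norm (mul_mem (inv_mem Q.norm) hn) ?_)
    rw [cj_mul, h, ← cj_mul, inv_mul_cancel, cj_one]

theorem Pair.gg_mem : g * g ∈ P := by
  refine (Q.mem_or (mul_mem Q.norm Q.norm)).resolve_right fun h => Q.notMem (Q.con.setup.le ?_)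
  simpa using h

theorem Pair.cj_cj : cj g (cj g (V H P)) = V H P := by
  rw [← cj_mul]
  exact cj_eq_self.2 (Q.normalizer_V.symm ▸ Q.con.setup.le Q.gg_mem)

theorem Pair.card_normalizer : Nat.card ↥(normalizer (P : Set G)) = 2 * Nat.card P := by
  have hle : P ≤ normalizer (P : Set G) := Subgroup.le_normalizer
  have hi : (P.subgroupOf (normalizer (P : Set G))).index = 2 := by
    rw [index_eq_two_iff]
    refine ⟨⟨g, Q.norm⟩, fun b => ?_⟩
    simp only [mem_subgroupOf, Subgroup.coe_mul]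
    by_cases hb : (b : G) ∈ P
    · refine Or.inr ⟨hb, fun h => Q.notMem (Q.con.setup.le ?_)⟩
      simpa using mul_mem (inv_mem hb) h
    · refine Or.inl ⟨?_, hb⟩
      have h1 := (Q.mem_or b.2).resolve_left hb
      have h2 : g⁻¹ * (g⁻¹ * b) * g ∈ P := by rw [← mem_cj, Q.cj_P]; exact h1
      have := mul_mem Q.gg_mem h2
      simpa [mul_assoc] using this
  have := (P.subgroupOf (normalizer (P : Set G))).card_mul_index
  rw [hi, Nat.card_congr (subgroupOfEquivOfLe hle).toEquiv] at this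
  omega

/-- An element of order three of `H` fixes only `Z₀` in `V`. -/
theorem Pair.mem_Z0_of_comm {d v : G} (hd : d ∈ H) (h3 : d * d * d = 1) (h1 : d ≠ 1)
    (hv : v ∈ V H P) (hdv : d * v = v * d) : v ∈ Z0 H P := by
  have C := Q.con
  have hdP : d ∉ P := fun h => by
    haveI : Fact (Nat.Prime 3) := ⟨Nat.prime_three⟩
    obtain ⟨k, hk⟩ := IsPGroup.iff_card.1 C.setup.twoP
    have h' := Subgroup.orderOf_dvd_natCard P h
    rw [orderOf_eq_prime (by rw [pow_succ, pow_two]; exact h3) h1, hk] at h'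
    exact absurd (Nat.prime_three.dvd_of_dvd_pow h') (by norm_num)
  have key : ∀ u ∈ omegaCenter P, d * u = u * d → u ∈ Z0 H P := fun u hu hdu => by
    refine mem_Z0.2 ⟨Z_le_V hu, fun x hx => ?_⟩
    have hle : P ⊔ zpowers d ≤ centralizer ({u} : Set G) := sup_le
      (fun p hp => mem_centralizer_singleton_iff.2 (hu.2.1 p hp))
      (zpowers_le.2 (mem_centralizer_singleton_iff.2 hdu))
    rw [C.setup.sup_eq hd hdP] at hle
    exact mem_centralizer_singleton_iff.1 (hle hx)
  by_contra hv0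
  have hvZ : v ∉ omegaCenter P := fun h => hv0 (key v h hdv)
  obtain ⟨z, hzZ, hz0⟩ := SetLike.not_le_iff_exists.1 C.Z_not_le_Z0
  set z' := d * z * d⁻¹ with hz'
  have hz'V : z' ∈ V H P := conj_V (Z_le_V hzZ) hd
  -- a conjugate of `z` centralised by `d` would centralise `z`
  have hz'd : d * z' ≠ z' * d := fun e => hz0 (key z hzZ (by
    calc d * z = d⁻¹ * (d * (d * z * d⁻¹)) * d := by group
      _ = d⁻¹ * (d * z * d⁻¹ * d) * d := by rw [show d * (d * z * d⁻¹) = d * z * d⁻¹ * d from e]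
      _ = z * d := by group))
  set a := z * z' with ha
  have hda : d * a = a * d := by
    by_cases hz'Z : z' ∈ omegaCenter P
    · have hz'0 : z' ∉ Z0 H P := fun h => hz'd ((mem_Z0.1 h).2 d hd)
      exact (mem_Z0.1 (C.mul_mem_Z0 hzZ hz'Z hz0 hz'0)).2 d hd
    · have hm : v * z' ∈ omegaCenter P := C.mul_mem_Z hv hz'V hvZ hz'Z
      have hm0 : v * z' ∉ Z0 H P := fun h => hz'd (by
        have h' : Commute d (v * z') := (mem_Z0.1 h).2 d hd
        have h'' : Commute d v := hdv
        have := h''.inv_right.mul_right h'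
        rwa [inv_mul_cancel_left] at this)
      have h' : Commute d (z * (v * z')) := (mem_Z0.1 (C.mul_mem_Z0 hzZ hm hz0 hm0)).2 d hd
      have h'' : Commute d v := hdv
      have := h''.inv_right.mul_right h'
      rwa [← mul_assoc z v, C.comm_V (Z_le_V hzZ) hv, mul_assoc v z, inv_mul_cancel_left] at this
  have haV : a ∈ V H P := mul_mem (Z_le_V hzZ) hz'V
  have hz'e : z' = z * a := by rw [ha, ← mul_assoc, hzZ.2.2, one_mul]
  have ha1 : a = 1 := by
    have e1 : d * z' * d⁻¹ = z * a * a := by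
      rw [hz'e, show d * (z * a) * d⁻¹ = (d * z * d⁻¹) * (d * a * d⁻¹) by group, ← hz', hda,
        mul_inv_cancel_right, hz'e]
    rw [mul_assoc z a a, C.sq_V haV, mul_one] at e1
    have e2 : d * (d * z' * d⁻¹) * d⁻¹ = z' := by rw [e1]
    rw [show d * (d * z' * d⁻¹) * d⁻¹ = d * d * d * z * (d * d * d)⁻¹ by rw [hz']; group, h3] at e2
    simp only [one_mul, inv_one, mul_one] at e2
    rw [hz'e] at e2
    exact left_eq_mul.1 e2
  exact hz0 (key z hzZ (by
    have h : z' = z := by rw [hz'e, ha1, mul_one]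
    exact mul_inv_eq_iff_eq_mul.1 h))

end Cfsg.Agent.Lib.Suborbit46
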