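import Cfsg.Agent.Lib.Suborbit46.Omega

/-!
# Edges of the orbital graphs of `N(P)`
-/

set_option autoImplicit false
set_option linter.unusedSectionVars false

namespace Cfsg.Agent.Lib.Suborbit46

open Subgroup
open scoped commutatorElement

universe u

variable {G : Type u} [Group G] {H P : Subgroup G}

/-- The stabiliser of a coset. -/
noncomputable def St (v : G ⧸ H) : Subgroup G := cj v.out H

/-- The core of a coset. -/
noncomputable def Kv (P : Subgroup G) (v : G ⧸ H) : Subgroup G := cj v.out (coreIn H P)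

/-- The module of a coset. -/
noncomputable def Vv (P : Subgroup G) (v : G ⧸ H) : Subgroup G := cj v.out (V H P)

/-- The central part of a coset. -/
noncomputable def Z0v (P : Subgroup G) (v : G ⧸ H) : Subgroup G := cj v.out (Z0 H P)

theorem cj_eq_of_coset {A : Subgroup G} (hA : H ≤ normalizer (A : Set G)) {g : G} {v : G ⧸ H}
    (hg : (g : G ⧸ H) = v) : cj v.out A = cj g A := by
  have h : g⁻¹ * v.out ∈ H := QuotientGroup.eq.1 (hg.trans (QuotientGroup.out_eq' v).symm)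
  rw [show v.out = g * (g⁻¹ * v.out) by simp, cj_mul, cj_eq_self.2 (hA h)]

theorem le_normalizer_Z0 [Finite G] : H ≤ normalizer (Z0 H P : Set G) :=
  le_normalizer_of_conj_mem fun h hh z hz => by
    rwa [(mem_Z0.1 hz).2 h hh, mul_inv_cancel_right]

theorem St_eq {g : G} {v : G ⧸ H} (hg : (g : G ⧸ H) = v) : St v = cj g H :=
  cj_eq_of_coset Subgroup.le_normalizer hg

variable [Finite G]

theorem Kv_eq {g : G} {v : G ⧸ H} (hg : (g : G ⧸ H) = v) : Kv P v = cj g (coreIn H P) :=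
  cj_eq_of_coset le_normalizer_coreIn hg

theorem Vv_eq {g : G} {v : G ⧸ H} (hg : (g : G ⧸ H) = v) : Vv P v = cj g (V H P) :=
  cj_eq_of_coset le_normalizer_V hg

theorem Z0v_eq {g : G} {v : G ⧸ H} (hg : (g : G ⧸ H) = v) : Z0v P v = cj g (Z0 H P) :=
  cj_eq_of_coset le_normalizer_Z0 hg

omit [Finite G] in
theorem mem_St {x : G} {v : G ⧸ H} : x ∈ St v ↔ x • v = v := by
  rw [St, mem_cj]
  conv_rhs => rw [← QuotientGroup.out_eq' v, MulAction.Quotient.smul_coe, smul_eq_mul,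
    eq_comm, QuotientGroup.eq]
  simp [mul_assoc]

omit [Finite G] in
theorem smul_out (g : G) (v : G ⧸ H) : ((g * v.out : G) : G ⧸ H) = g • v := by
  conv_rhs => rw [← QuotientGroup.out_eq' v, MulAction.Quotient.smul_coe, smul_eq_mul]

theorem Vv_smul (g : G) (v : G ⧸ H) : Vv P (g • v) = cj g (Vv P v) := by
  rw [Vv_eq (smul_out g v), cj_mul]; rfl

theorem Kv_smul (g : G) (v : G ⧸ H) : Kv P (g • v) = cj g (Kv P v) := by
  rw [Kv_eq (smul_out g v), cj_mul]; rfl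

theorem Z0v_smul (g : G) (v : G ⧸ H) : Z0v P (g • v) = cj g (Z0v P v) := by
  rw [Z0v_eq (smul_out g v), cj_mul]; rfl

theorem St_smul (g : G) (v : G ⧸ H) : St (g • v) = cj g (St v) := by
  rw [St_eq (smul_out g v), cj_mul]; rfl

/-- An edge: two cosets whose arc group is a conjugate of `P`. -/
def Edge (P : Subgroup G) (c d : G ⧸ H) : Prop :=
  ∃ g σ : G, σ ∈ normalizer (P : Set G) ∧ σ ∉ H ∧ (g : G ⧸ H) = c ∧ ((g * σ : G) : G ⧸ H) = d

omit [Finite G] in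
theorem Edge.symm {c d : G ⧸ H} (e : Edge P c d) : Edge P d c := by
  obtain ⟨g, σ, h1, h2, hc, hd⟩ := e
  exact ⟨g * σ, σ⁻¹, inv_mem h1, fun h => h2 (by simpa using inv_mem h), hd, by simpa using hc⟩

variable (C : Con G H P)

include C

theorem Con.inter_eq {σ : G} (hσ : σ ∈ normalizer (P : Set G)) (hσH : σ ∉ H) :
    H ⊓ cj σ H = P := by
  have hle : P ≤ H ⊓ cj σ H := le_inf C.setup.le
    (by rw [← cj_eq_self.2 hσ]; exact cj_mono σ C.setup.le)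
  refine le_antisymm ?_ hle
  by_contra hn
  have h := C.setup.eq_of_lt hle inf_le_left hn
  exact hσH (C.setup.normalizer_eq ▸ cj_eq_self.1
    (Subgroup.eq_of_le_of_card_ge (inf_eq_left.1 h) (by rw [card_cj])).symm)

theorem Con.edge_base {c d : G ⧸ H} (e : Edge P c d) :
    ∃ g : G, (g : G ⧸ H) = c ∧ St c ⊓ St d = cj g P ∧ Kv P c = cj g (coreIn H P) ∧
      Vv P c = cj g (V H P) ∧ Z0v P c = cj g (Z0 H P) ∧
      Vv P c ⊓ centralizer ((St c ⊓ St d : Subgroup G) : Set G) = cj g (omegaCenter P) := by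
  obtain ⟨g, σ, h1, h2, hc, hd⟩ := e
  have hE : St c ⊓ St d = cj g P := by
    rw [St_eq hc, St_eq hd, cj_mul, cj, cj, ← Subgroup.map_inf _ _ _ (MulAut.conj g).injective]
    show cj g (H ⊓ cj σ H) = _
    rw [C.inter_eq h1 h2]
  refine ⟨g, hc, hE, Kv_eq hc, Vv_eq hc, Z0v_eq hc, ?_⟩
  rw [hE, Vv_eq hc]
  ext z
  simp only [Subgroup.mem_inf, mem_cj, mem_centralizer_iff, SetLike.mem_coe]
  constructor
  · rintro ⟨hz, hz'⟩
    refine ⟨coreIn_le (C.V_le hz), fun p hp => ?_, C.sq_V hz⟩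
    have := congrArg (fun y => g⁻¹ * y * g) (hz' (g * p * g⁻¹) (by simpa [mul_assoc] using hp))
    simpa [mul_assoc] using this
  · intro hz
    refine ⟨Z_le_V hz, fun p hp => ?_⟩
    have := congrArg (fun y => g * y * g⁻¹) (hz.2.1 _ hp)
    simpa [mul_assoc] using this

/-- The fixed subgroup of an edge. -/
theorem Con.Zed_symm {c d : G ⧸ H} (e : Edge P c d) :
    Vv P c ⊓ centralizer ((St c ⊓ St d : Subgroup G) : Set G) ≤ Vv P d := by
  obtain ⟨g, σ, h1, h2, hc, hd⟩ := e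
  have hE : St c ⊓ St d = cj g P := by
    rw [St_eq hc, St_eq hd, cj_mul, cj, cj, ← Subgroup.map_inf _ _ _ (MulAut.conj g).injective]
    show cj g (H ⊓ cj σ H) = _
    rw [C.inter_eq h1 h2]
  intro z hz
  obtain ⟨hz1, hz2⟩ := Subgroup.mem_inf.1 hz
  rw [Vv_eq hc, mem_cj] at hz1
  have hzZ : g⁻¹ * z * g ∈ omegaCenter P := by
    refine ⟨coreIn_le (C.V_le hz1), fun p hp => ?_, C.sq_V hz1⟩
    have hm : g * p * g⁻¹ ∈ St c ⊓ St d := hE ▸ conj_mem_cj hp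
    have := congrArg (fun y => g⁻¹ * y * g) (mem_centralizer_iff.1 hz2 _ hm)
    simpa [mul_assoc] using this
  have h3 : cj σ⁻¹ (omegaCenter P) ≤ omegaCenter P :=
    cj_omegaCenter_le (cj_eq_self.2 (inv_mem h1))
  have h4 := Z_le_V (H := H) (h3 (conj_mem_cj (g := σ⁻¹) hzZ))
  rw [Vv_eq hd, mem_cj]
  simpa [mul_assoc] using h4

theorem Con.Kv_le_St (c : G ⧸ H) : Kv P c ≤ St c := cj_mono _ coreIn_le_left

theorem Con.Vv_le_Kv (c : G ⧸ H) : Vv P c ≤ Kv P c := cj_mono _ C.V_le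

theorem Con.Z0v_le_Vv (c : G ⧸ H) : Z0v P c ≤ Vv P c := cj_mono _ Z0_le_V

theorem Con.Kv_le_edge {c d : G ⧸ H} (e : Edge P c d) : Kv P c ≤ St d := by
  obtain ⟨g, -, hE, hK, -⟩ := C.edge_base e
  rw [hK]
  exact ((cj_mono g coreIn_le).trans_eq hE.symm).trans inf_le_right

theorem Con.comm_Kv {c : G ⧸ H} {v k : G} (hv : v ∈ Vv P c) (hk : k ∈ Kv P c) :
    k * v = v * k := by
  have := congrArg (fun y => c.out * y * c.out⁻¹) (C.comm_core (mem_cj.1 hv) (mem_cj.1 hk))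
  simpa [mul_assoc] using this

theorem Con.sq_Vv {c : G ⧸ H} {v : G} (hv : v ∈ Vv P c) : v * v = 1 := by
  have := congrArg (fun y => c.out * y * c.out⁻¹) (C.sq_V (mem_cj.1 hv))
  simpa [mul_assoc] using this

theorem Con.inv_Vv {c : G ⧸ H} {v : G} (hv : v ∈ Vv P c) : v⁻¹ = v :=
  inv_eq_of_mul_eq_one_right (C.sq_Vv hv)

theorem Con.conj_Vv {c : G ⧸ H} {v x : G} (hv : v ∈ Vv P c) (hx : x ∈ St c) :
    x * v * x⁻¹ ∈ Vv P c := by
  refine mem_cj.2 ?_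
  have := conj_V (H := H) (mem_cj.1 hv) (mem_cj.1 hx)
  simpa [mul_assoc] using this

theorem Con.normalizer_Vv (c : G ⧸ H) : St c ≤ normalizer (Vv P c : Set G) :=
  le_normalizer_of_conj_mem fun _ hx _ hv => C.conj_Vv hv hx

/-- Elements of `St c` centralising `V c` lie in `K c`. -/
theorem Con.cent_Vv {c : G ⧸ H} {x : G} (hx : x ∈ St c)
    (hc : ∀ v ∈ Vv P c, x * v = v * x) : x ∈ Kv P c := by
  refine mem_cj.2 (C.cent_V (mem_cj.1 hx) fun v hv => ?_)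
  have := congrArg (fun y => c.out⁻¹ * y * c.out) (hc _ (conj_mem_cj hv))
  simpa [mul_assoc] using this

theorem Con.not_le_Kv {c d : G ⧸ H} (e : Edge P c d) :
    ∃ x ∈ St c ⊓ St d, x ∉ Kv P c := by
  obtain ⟨g, -, hE, hK, -⟩ := C.edge_base e
  obtain ⟨t, ht, ht'⟩ := C.setup.exists_notMem_core C.ne_bot
  refine ⟨g * t * g⁻¹, hE ▸ conj_mem_cj ht, fun h => ht' ?_⟩
  rw [hK, mem_cj] at h
  simpa [mul_assoc] using h

/-- Commutators on an edge. -/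
theorem Con.edge_comm {c d : G ⧸ H} (e : Edge P c d) {x v : G} (hx : x ∈ St c ⊓ St d)
    (hv : v ∈ Vv P c) : ⁅x, v⁆ ∈ Vv P c ⊓ centralizer ((St c ⊓ St d : Subgroup G) : Set G) ∧
      (⁅x, v⁆ ≠ 1 → ⁅x, v⁆ ∉ Z0v P c ∧
        ∀ y ∈ St c ⊓ St d, ∀ w ∈ Vv P c, ⁅y, w⁆ ≠ 1 → ⁅y, w⁆ = ⁅x, v⁆) := by
  obtain ⟨g, -, hE, hK, hV, hZ0, hZ⟩ := C.edge_base e
  rw [hZ]
  have key : ∀ y w : G, ⁅y, w⁆ = g * ⁅g⁻¹ * y * g, g⁻¹ * w * g⁆ * g⁻¹ := fun y w => by
    simp [commutatorElement_def, mul_assoc]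
  have hpre : ∀ y ∈ St c ⊓ St d, ∀ w ∈ Vv P c, g⁻¹ * y * g ∈ P ∧ g⁻¹ * w * g ∈ V H P := by
    intro y hy w hw
    rw [hE, mem_cj] at hy
    rw [hV, mem_cj] at hw
    exact ⟨hy, hw⟩
  obtain ⟨hx', hv'⟩ := hpre x hx v hv
  refine ⟨key x v ▸ conj_mem_cj (C.comm_mem_Z hv' hx'), fun hne => ?_⟩
  have hne' : ∀ y w : G, ⁅y, w⁆ ≠ 1 → g⁻¹ * y * g ∈ P → g⁻¹ * w * g ∈ V H P →
      g⁻¹ * w * g ∉ omegaCenter P ∧ g⁻¹ * y * g ∉ coreIn H P := by
    intro y w h hy hw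
    constructor <;> intro h' <;> refine h ?_ <;> rw [key]
    · rw [C.comm_eq_one hw hy (Or.inl h')]; simp
    · rw [C.comm_eq_one hw hy (Or.inr h')]; simp
  obtain ⟨a1, a2⟩ := hne' x v hne hx' hv'
  refine ⟨fun h => C.comm_notMem_Z0 hv' hx' a1 a2 ?_, fun y hy w hw hyw => ?_⟩
  · rw [hZ0, key x v, mem_cj] at h
    simpa [mul_assoc] using h
  · obtain ⟨hy', hw'⟩ := hpre y hy w hw
    obtain ⟨b1, b2⟩ := hne' y w hyw hy' hw'
    rw [key y w, key x v, C.comm_eq hw' hv' b1 a1 hy' hx' b2 a2]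

theorem Con.edge_comm_ne {c d : G ⧸ H} (e : Edge P c d) {x v : G} (hx : x ∈ St c ⊓ St d)
    (hx' : x ∉ Kv P c) (hv : v ∈ Vv P c)
    (hv' : v ∉ Vv P c ⊓ centralizer ((St c ⊓ St d : Subgroup G) : Set G)) : ⁅x, v⁆ ≠ 1 := by
  obtain ⟨g, -, hE, hK, hV, -, hZ⟩ := C.edge_base e
  rw [hE, mem_cj] at hx
  rw [hK, mem_cj] at hx'
  rw [hV, mem_cj] at hv
  rw [hZ, mem_cj] at hv'
  intro h
  refine C.comm_ne_one hv hx hv' hx' ?_
  have := congrArg (fun y => g⁻¹ * y * g) h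
  simpa [commutatorElement_def, mul_assoc] using this

theorem Con.exists_comm_ne {c d : G ⧸ H} (e : Edge P c d) :
    ∃ x ∈ St c ⊓ St d, ∃ v ∈ Vv P c, ⁅x, v⁆ ≠ 1 := by
  obtain ⟨g, -, hE, hK, hV, -, hZ⟩ := C.edge_base e
  obtain ⟨x, hx, hx'⟩ := C.not_le_Kv e
  obtain ⟨v, hv, hv'⟩ := C.exists_notMem_Z
  refine ⟨x, hx, g * v * g⁻¹, hV ▸ conj_mem_cj hv, C.edge_comm_ne e hx hx' (hV ▸ conj_mem_cj hv) ?_⟩
  rw [hZ, mem_cj]
  simpa [mul_assoc] using hv'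

/-- Two elements of `V c` outside the fixed subgroup differ by an element of it. -/
theorem Con.mul_mem_fixed {c d : G ⧸ H} (e : Edge P c d) {v w : G} (hv : v ∈ Vv P c)
    (hw : w ∈ Vv P c) (hv' : v ∉ Vv P c ⊓ centralizer ((St c ⊓ St d : Subgroup G) : Set G))
    (hw' : w ∉ Vv P c ⊓ centralizer ((St c ⊓ St d : Subgroup G) : Set G)) :
    v * w ∈ Vv P c ⊓ centralizer ((St c ⊓ St d : Subgroup G) : Set G) := by
  obtain ⟨g, -, -, -, hV, -, hZ⟩ := C.edge_base e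
  rw [hV, mem_cj] at hv hw
  rw [hZ, mem_cj] at hv' hw' ⊢
  simpa [mul_assoc] using C.mul_mem_Z hv hw hv' hw'

theorem Con.Z0v_eq_of_ne_one {c : G ⧸ H} {y z : G} (hy : y ∈ Z0v P c) (hz : z ∈ Z0v P c)
    (hy1 : y ≠ 1) (hz1 : z ≠ 1) : y = z := by
  by_contra hne
  have hs : ({1, y, z} : Set G) ⊆ (Z0v P c : Set G) := by
    simp only [Set.insert_subset_iff, Set.singleton_subset_iff]
    exact ⟨one_mem _, hy, hz⟩
  have h := Set.ncard_le_ncard hs (Set.toFinite _)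
  have h2 : (Z0v P c : Set G).ncard ≤ 2 := by
    rw [← Nat.card_coe_set_eq]
    exact (card_cj _ _).trans_le C.card_Z0_le
  have h3 : ({1, y, z} : Set G).ncard = 3 := by
    rw [Set.ncard_insert_of_notMem, Set.ncard_pair hne]
    simp [Ne.symm hy1, Ne.symm hz1]
  omega

theorem Con.eq_of_mem_Z0v {c d : G ⧸ H} {z : G} (hc : z ∈ Z0v P c) (hd : z ∈ Z0v P d)
    (h1 : z ≠ 1) : c = d := by
  rw [Z0v, mem_cj] at hc hd
  set k := d.out⁻¹ * c.out with hk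
  have e : d.out⁻¹ * z * d.out = k * (c.out⁻¹ * z * c.out) * k⁻¹ := by rw [hk]; group
  by_contra hne
  refine C.conj_notMem_Z0 hc (fun h => h1 ?_) (g := k) (fun hm => hne ?_) (e ▸ hd)
  · have := congrArg (fun y => c.out * y * c.out⁻¹) h
    simpa [mul_assoc] using this
  · rw [← QuotientGroup.out_eq' c, ← QuotientGroup.out_eq' d]
    exact QuotientGroup.eq.2 (by simpa [hk, mul_assoc] using inv_mem hm)

/-- The edge group is a maximal subgroup of the stabiliser. -/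
theorem Con.edge_max {c d : G ⧸ H} (e : Edge P c d) {A : Subgroup G} (hA : St c ⊓ St d ≤ A)
    {x : G} (hxA : x ∈ A) (hx : x ∈ St c) (hxd : x ∉ St d) : St c ≤ A := by
  obtain ⟨g, hc, hE, -⟩ := C.edge_base e
  intro y hy
  have h : P ⊔ zpowers (g⁻¹ * x * g) = H := C.setup.sup_eq
    (by rw [St_eq hc, mem_cj] at hx; exact hx)
    fun h => hxd (Subgroup.mem_inf.1 (hE.symm ▸ mem_cj.2 h : x ∈ St c ⊓ St d)).2
  have hy' : g⁻¹ * y * g ∈ P ⊔ zpowers (g⁻¹ * x * g) := by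
    rw [h]; rwa [St_eq hc, mem_cj] at hy
  have hle : P ⊔ zpowers (g⁻¹ * x * g) ≤ cj g⁻¹ A :=
    sup_le (fun p hp => mem_cj.2 (by simpa using hA (hE ▸ conj_mem_cj hp)))
      (zpowers_le.2 (mem_cj.2 (by simpa [mul_assoc] using hxA)))
  simpa [mul_assoc] using mem_cj.1 (hle hy')

theorem Con.Kv_ne {c d : G ⧸ H} (e : Edge P c d) : ¬ Kv P c ≤ Kv P d := by
  intro h
  obtain ⟨g, σ, h1, h2, hc, hd⟩ := e
  rw [Kv_eq hc, Kv_eq hd, cj_mul] at h
  have h' : coreIn H P ≤ cj σ (coreIn H P) := fun k hk => by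
    have := mem_cj.1 (h (conj_mem_cj hk))
    simpa [mul_assoc] using this
  have hne : coreIn H P ≠ ⊥ := fun e0 => by
    obtain ⟨v, hv, hv'⟩ := C.exists_notMem_Z
    have := C.V_le hv
    rw [e0, mem_bot] at this
    exact hv' (this ▸ one_mem _)
  exact hne (C.setup.eq_bot_of_norm coreIn_le_left le_normalizer_coreIn h2
    (Subgroup.eq_of_le_of_card_ge h' (by rw [card_cj])).symm)

end Cfsg.Agent.Lib.Suborbit46
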