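import Cfsg.Agent.Lib.Suborbit46.Kill3
import Cfsg.Agent.S0197
import Cfsg.Agent.Lib.RecogThree.L33.Model
import Cfsg.Agent.Lib.RecogThree.L33.Example
import Cfsg.Agent.Lib.RecogThree.M11.Unique

/-!
# Semidihedral Sylow `2`-subgroups: `PSL(3,3)` or order `7920`
-/

set_option autoImplicit false
set_option linter.unusedSectionVars false
set_option linter.style.haveILetI false

namespace Cfsg.Agent.Lib.Suborbit46

open Subgroup
open Cfsg.Agent.Lib.SDBlock25.Count (core)

universe u

variable {L : Type u} [Group L] [Finite L] {W : Subgroup L} {c : L}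

theorem FSD.engine (P : FSD L W c) (hfam : Fam W) :
    Nonempty (L ≃* Matrix.ProjectiveSpecialLinearGroup (Fin 3) (ZMod 3)) ∨
      (Nat.card L = 7920 ∧ ∀ z ∈ W, z ≠ 1 → Nat.card (Cz z) = 48) := by
  haveI := P.four.simple
  haveI : Nontrivial W := Finite.one_lt_card_iff_nontrivial.1 (by rw [P.four.card]; norm_num)
  have hcard : ∀ z ∈ W, z ≠ 1 → Nat.card (Cz z) = 48 ∧
      Nonempty (↥(Cz z) ≃* GL (Fin 2) (ZMod 3)) := by
    intro z hz hz1
    obtain ⟨v, hv, hv1, hvz⟩ := P.four.exists_other hz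
    have D : Duo L W c z v := ⟨P, hz, hz1, hv, hv1, hvz⟩
    have hk := D.core_trivial hfam
    obtain ⟨π, hs, hker, -, -⟩ := D.exists_pi
    have hinj : Function.Injective π := by
      rw [← MonoidHom.ker_eq_bot_iff, hker, ← Subgroup.card_eq_one, ← hk]
      exact (card_map_of_injective (subtype_injective _)).symm
    exact ⟨by rw [D.card_cz, hk], ⟨MulEquiv.ofBijective π ⟨hinj, hs⟩⟩⟩
  obtain ⟨⟨z, hz⟩, hne⟩ := exists_ne (1 : W)
  have hz1 : z ≠ 1 := fun e => hne (Subtype.ext e)
  obtain ⟨e⟩ := (hcard z hz hz1).2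
  have ht : orderOf z = 2 := P.four.orderOf_eq hz hz1
  rcases Cfsg.Agent.S0197.result z ht e with h | h
  · left
    haveI : Fact (Nat.Prime 13) := ⟨by norm_num⟩
    haveI : Fact (Nat.Prime 3) := ⟨Nat.prime_three⟩
    haveI : Finite (Matrix.SpecialLinearGroup (Fin 3) (ZMod 3)) :=
      Nat.finite_of_card_ne_zero
        (by rw [Spectrum.SLThreeThree.card_SL3]; norm_num)
    haveI := RecogThree.L33.Example.isSimple
    obtain ⟨φ⟩ := RecogThree.L33.Model.unique e h ht RecogThree.L33.Example.centEquiv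
      Spectrum.SLThreeThree.card_SL3 RecogThree.L33.Example.orderOf_d
    exact ⟨φ.trans RecogThree.L33.Example.toPSL⟩
  · exact Or.inr ⟨h, fun x hx hx1 => (hcard x hx hx1).1⟩

end Cfsg.Agent.Lib.Suborbit46
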