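import Cfsg.Agent.Lib.Suborbit46.Cent
import Cfsg.Agent.Lib.SDBlock25.Main

/-!
# The order: `7920 k³` or `5616 k³`
-/

set_option autoImplicit false
set_option linter.unusedSectionVars false
set_option linter.style.haveILetI false

namespace Cfsg.Agent.Lib.Suborbit46

open Subgroup
open Cfsg.Agent.Lib.SDBlock25.Count (core)

universe u

theorem units_three : ∀ x : (ZMod 3)ˣ, (x : ZMod 3) = 1 ∨ (x : ZMod 3) = 2 := by decide

variable {L : Type u} [Group L] [Finite L] {W : Subgroup L} {c z v : L} (D : Duo L W c z v)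

include D

theorem Duo.order_formula :
    Nat.card L = 7920 * Nat.card (core z) ^ 3 ∨ Nat.card L = 5616 * Nat.card (core z) ^ 3 := by
  haveI : Fact (Nat.Prime 2) := ⟨Nat.prime_two⟩
  haveI : Fact (Nat.Prime 3) := ⟨Nat.prime_three⟩
  obtain ⟨S, hS⟩ := D.exists_ctx
  obtain ⟨-, -, -, -, -, hS16⟩ := hS.exists_bar
  obtain ⟨π, hs, hk, hz, hv⟩ := D.exists_pi
  obtain ⟨m, σ, y, hsd⟩ := exists_coords hS.sd
  have hm : m = 4 := by
    have := hsd.ext.card
    omega
  subst hm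
  have hσm : σ ^ 4 = z := by
    refine (hS.center_cases (pow_mem hsd.ext.mem 4) fun s hs' => (hsd.ext.z_comm hs')).resolve_left ?_
    intro h
    have := hsd.ext.orderOf_z
    rw [h, orderOf_one] at this
    omega
  subst hσm
  have hSD : SDBlock25.Sections.SD S 4 σ := ⟨le_rfl, hsd.ext⟩
  -- the derived part
  set δ : ↥(Cz (σ ^ 4)) →* (ZMod 3)ˣ := (Matrix.GeneralLinearGroup.det).comp π with hδ
  have hdet : ∀ a : ↥(Cz (σ ^ 4)), a ∈ δ.ker ↔
      ((π a : Matrix (Fin 2) (Fin 2) (ZMod 3))).det = 1 := fun a => by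
    rw [MonoidHom.mem_ker, hδ, Units.ext_iff]; rfl
  let φ : ↥δ.ker →* Matrix.SpecialLinearGroup (Fin 2) (ZMod 3) :=
    { toFun := fun a => ⟨(π a.1 : Matrix (Fin 2) (Fin 2) (ZMod 3)), (hdet _).1 a.2⟩
      map_one' := Subtype.ext (by simp)
      map_mul' := fun a b => Subtype.ext ((congrArg (fun g : GL (Fin 2) (ZMod 3) => (g : Matrix (Fin 2) (Fin 2) (ZMod 3))) (map_mul π a.1 b.1)).trans (Units.val_mul _ _)) }
  have hφs : Function.Surjective φ := by
    intro s
    obtain ⟨a, ha⟩ := hs (Matrix.SpecialLinearGroup.toGL s)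
    refine ⟨⟨a, (hdet a).2 (by rw [ha]; exact s.2)⟩, Subtype.ext ?_⟩
    show (π a : Matrix (Fin 2) (Fin 2) (ZMod 3)) = _
    rw [ha]; rfl
  have hidx : δ.ker.index = 2 := by
    have hsur : Function.Surjective δ := by
      have h2 : ((Matrix.GeneralLinearGroup.det (π ⟨v, D.v_mem⟩) : (ZMod 3)ˣ) : ZMod 3) = 2 :=
        (GL23.det4_q4 _).symm.trans (GL23.refl_det _ (hv D.v_mem))
      intro x
      rcases units_three x with h | h
      · exact ⟨1, by rw [map_one]; exact Units.ext h.symm⟩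
      · exact ⟨⟨v, D.v_mem⟩, Units.ext (h2.trans h.symm)⟩
    rw [index_ker, MonoidHom.range_eq_top.2 hsur, card_top, Nat.card_units, Nat.card_zmod]
  have hodd : Odd (Nat.card φ.ker) := by
    have h1 : Nat.card φ.ker ∣ Nat.card π.ker := by
      refine card_dvd_of_injective
        (({ toFun := fun a => ⟨(a.1.1 : ↥(Cz (σ ^ 4))), MonoidHom.mem_ker.2 (Units.ext
              (congrArg (fun t : Matrix.SpecialLinearGroup (Fin 2) (ZMod 3) => (t : Matrix (Fin 2) (Fin 2) (ZMod 3))) (MonoidHom.mem_ker.1 a.2)))⟩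
            map_one' := rfl
            map_mul' := fun a b => rfl } : ↥φ.ker →* ↥π.ker)) ?_
      intro a b h
      exact Subtype.ext (Subtype.ext (congrArg (fun x : ↥π.ker => (x : ↥(Cz (σ ^ 4)))) h))
    refine Odd.of_dvd_nat ?_ h1
    rw [hk]; exact ZStar.Elements.oddCore_odd
  have hcard3 : Fintype.card (ZMod 3) = 3 := ZMod.card 3
  have H : SDBlock25.ZColumn.Hyp hSD y δ.ker φ :=
    ⟨hsd.y_mem, hsd.y_notMem, hsd.y_sq, by rw [hcard3]; decide, hidx, hφs, hodd⟩
  have hone : ∀ i : L, orderOf i = 2 → IsConj (σ ^ 4) i := fun i hi =>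
    hS.isConj _ _ hsd.ext.orderOf_z hi
  have hyz : y ∈ Cz (σ ^ 4) := hS.S_le hsd.y_mem
  have hy1 : y ≠ 1 := fun e => hsd.y_notMem (e ▸ one_mem _)
  have hρ : ∀ k : ℕ, Even k → σ ^ k ≠ 1 → σ ^ k ≠ σ ^ 4 →
      (Nat.card (core (σ ^ k)) : ℚ) = (Nat.card (core (σ ^ 4)) : ℚ) *
        (Nat.card {v : L // v ∈ core (σ ^ k) ∧ y * v = v * y} : ℚ) ^ 2 := by
    intro k ⟨j, hj⟩ h1 h4
    subst hj
    have hsq : σ ^ (j + j) * σ ^ (j + j) = σ ^ 4 := by
      rcases Nat.even_or_odd j with ⟨i, rfl⟩ | ⟨i, rfl⟩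
      · exfalso
        have h8 : σ ^ 8 = 1 := by
          have := pow_orderOf_eq_one σ
          rwa [hsd.ext.order] at this
        rw [show i + i + (i + i) = 4 * i by ring, pow_mul] at h1 h4
        have h44 : (σ ^ 4) * (σ ^ 4) = 1 := by rw [← pow_add]; exact h8
        rcases Nat.even_or_odd i with ⟨l, rfl⟩ | ⟨l, rfl⟩
        · exact h1 (by rw [← two_mul, pow_mul, pow_two, h44, one_pow])
        · exact h4 (by rw [pow_succ, pow_mul, pow_two, h44, one_pow, one_mul])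
      · have h8 : σ ^ 8 = 1 := by
          have := pow_orderOf_eq_one σ
          rwa [hsd.ext.order] at this
        rw [← pow_add, show 2 * i + 1 + (2 * i + 1) + (2 * i + 1 + (2 * i + 1)) = 8 * i + 4 by ring,
          pow_add, pow_mul, h8, one_pow, one_mul]
    set g := σ ^ (j + j) with hg
    have hgS : g ∈ (S : Subgroup L) := pow_mem hsd.ext.mem _
    have hgC : g ∈ Cz (σ ^ 4) := hS.S_le hgS
    have hsub : ∀ a ∈ core g, a ∈ Cz (σ ^ 4) ∧ Odd (orderOf a) := fun a ha => by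
      refine ⟨mem_centralizer_singleton_iff.2 ?_, SDBlock25.Count.core_odd ha⟩
      rw [← hsq]
      exact ((SDBlock25.Count.core_comm ha).mul_left (SDBlock25.Count.core_comm ha)).eq.symm
    have hle : ∀ a ∈ core g, a ∈ core (σ ^ 4) := by
      intro a ha
      by_contra hac
      obtain ⟨n, hn⟩ := S.2 ⟨g, hgS⟩
      rcases D.two_comm hgC ⟨n, by simpa using congrArg Subtype.val hn⟩ (hsub a ha).1 (hsub a ha).2
        hac (SDBlock25.Count.core_comm ha).eq with e | e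
      · exact h1 e
      · exact h4 e
    have hge : ∀ a ∈ core (σ ^ 4), a ∈ core g := by
      intro a ha
      refine SDBlock25.Count.mem_core hSD h1 h4 ?_ (SDBlock25.Count.core_odd ha)
      have hj' : σ ^ j ∈ Cz (σ ^ 4) := hS.S_le (pow_mem hsd.ext.mem _)
      refine (mul_inv_eq_iff_eq_mul.1 ?_ : g * a = a * g)
      rw [hg, pow_add, show σ ^ j * σ ^ j * a * (σ ^ j * σ ^ j)⁻¹ =
        σ ^ j * (σ ^ j * a * (σ ^ j)⁻¹) * (σ ^ j)⁻¹ by group]
      rcases D.dicho hj' with h | h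
      · rw [h a ha, h a ha]
      · rw [h a ha, h _ (inv_mem ha), inv_inv]
    have heq : core g = core (σ ^ 4) := le_antisymm hle hge
    have hfix : Nat.card {v : L // v ∈ core g ∧ y * v = v * y} = 1 := by
      rw [Nat.card_eq_one_iff_unique]
      refine ⟨⟨fun a b => Subtype.ext ?_⟩, ⟨⟨1, one_mem _, by simp⟩⟩⟩
      have key : ∀ a : {v : L // v ∈ core g ∧ y * v = v * y}, a.1 = 1 := fun a => by
        by_contra hne
        exact hsd.y_notMem (D.invol_fix hyz hsd.y_sq hy1 (hle _ a.2.1) hne a.2.2 ▸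
          pow_mem (mem_zpowers σ) 4)
      rw [key a, key b]
    rw [hfix, heq, Nat.cast_one, one_pow, mul_one]
  obtain ⟨A, C, -, hA, -, -, -, -, -, -, h4, hAC, hG⟩ :=
    SDBlock25.Main.exists_degrees hSD H hone D.fsd.four.noTwo hρ
  have hQ : SDBlock25.ZColumn.sgn (Fintype.card (ZMod 3)) * (Fintype.card (ZMod 3) : ℤ) = 3 := by
    rw [hcard3]; rfl
  rw [hQ] at hAC hG
  set k := Nat.card (core (σ ^ 4)) with hk'
  have hcz : Nat.card ↥(SDBlock25.ZColumn.Cz σ 4) = 48 * k := D.card_cz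
  rw [hcz] at hG
  have hG' : (Nat.card L : ℤ) * (A + 3) ^ 2 = 4608 * (k : ℤ) ^ 3 * (A * (A + 1)) := by
    have : ((Nat.card L : ℤ) : ℚ) * ((A + 3 : ℤ) : ℚ) ^ 2 =
        ((4608 * (k : ℤ) ^ 3 * (A * (A + 1)) : ℤ) : ℚ) := by
      push_cast at hG ⊢
      rw [hG]; ring
    exact_mod_cast this
  have hkpos : 0 < k := Nat.card_pos
  have h32 : ¬ 32 ∣ Nat.card L := by
    intro h
    have hidx := S.not_dvd_index
    have hmul := (S : Subgroup L).card_mul_index
    rw [hS16] at hmul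
    rw [← hmul] at h
    exact hidx (Nat.dvd_of_mul_dvd_mul_left (by norm_num) (show 16 * 2 ∣ 16 * _ from h))
  have hd : A + 9 ∣ 72 := ⟨C + 9, by linear_combination -hAC⟩
  have hb := Int.le_of_dvd (by norm_num) hd
  have hb' := Int.le_of_dvd (by norm_num) (Int.neg_dvd.2 hd)
  have hp : (0 : ℤ) < (k : ℤ) ^ 3 := by positivity
  have hN : (Nat.card L : ℤ) ≥ 0 := Int.natCast_nonneg _
  obtain ⟨hlo, hhi⟩ : -81 ≤ A ∧ A ≤ 63 := ⟨by omega, by omega⟩
  have hA2 : A % 2 = 1 := Int.odd_iff.1 hA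
  interval_cases A <;> first
    | omega
    | (exfalso; revert hd; decide)
    | (exact Or.inl (by push_cast [← Nat.cast_inj (R := ℤ)] at hG' ⊢; linarith))
    | (exact Or.inr (by push_cast [← Nat.cast_inj (R := ℤ)] at hG' ⊢; linarith))
    | (exfalso; apply h32; exact Int.natCast_dvd_natCast.1 ⟨63 * 6 * (k : ℤ) ^ 3, by push_cast; linarith⟩)
    | (exfalso; apply h32; exact Int.natCast_dvd_natCast.1 ⟨210 * (k : ℤ) ^ 3, by push_cast; linarith⟩)
    | (exfalso; apply h32; exact Int.natCast_dvd_natCast.1 ⟨90 * (k : ℤ) ^ 3, by push_cast; linarith⟩)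
    | (exfalso; norm_num at hG'; linarith)

end Cfsg.Agent.Lib.Suborbit46
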