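import Cfsg.Agent.Lib.Suborbit46.Setup
import Cfsg.Agent.S3224
import Cfsg.Prelude.Def_CaseTheorems

/-!
# Simple groups with a self-centralising four-group and a large Sylow 2-subgroup
-/

set_option autoImplicit false
set_option linter.unusedSectionVars false
set_option linter.style.haveILetI false

namespace Cfsg.Agent.Lib.Suborbit46

open Subgroup

universe u

variable {L : Type u} [Group L] [Finite L]

/-- A self-centralising four-group `W` with an element `c` of order three acting on it. -/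
structure Four (L : Type u) [Group L] (W : Subgroup L) (c : L) : Prop where
  simple : IsSimpleGroup L
  nc : ¬ ∀ a b : L, a * b = b * a
  card : Nat.card W = 4
  sq : ∀ w ∈ W, w * w = 1
  cent : centralizer (W : Set L) = W
  cN : c ∈ normalizer (W : Set L)
  c3 : c * c * c = 1
  cMove : ∀ w ∈ W, w ≠ 1 → c * w * c⁻¹ ≠ w
  normCard : Nat.card ↥(normalizer (W : Set L)) = 24
  big : 16 ∣ Nat.card L

variable {W : Subgroup L} {c : L} (F : Four L W c)

include F

theorem Four.orderOf_eq {w : L} (hw : w ∈ W) (h1 : w ≠ 1) : orderOf w = 2 :=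
  haveI : Fact (Nat.Prime 2) := ⟨Nat.prime_two⟩
  orderOf_eq_prime (by rw [pow_two]; exact F.sq w hw) h1

theorem Four.comm {a b : L} (ha : a ∈ W) (hb : b ∈ W) : a * b = b * a := by
  have h := F.cent.ge hb
  exact mem_centralizer_iff.1 h a ha

theorem Four.inv {a : L} (ha : a ∈ W) : a⁻¹ = a := inv_eq_of_mul_eq_one_right (F.sq a ha)

/-- Two different involutions of `W` and their product. -/
theorem Four.cases {a b : L} (ha : a ∈ W) (hb : b ∈ W) (ha1 : a ≠ 1) (hb1 : b ≠ 1) (hab : a ≠ b)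
    {x : L} (hx : x ∈ W) : x = 1 ∨ x = a ∨ x = b ∨ x = a * b := by
  by_contra! hne
  have hab1 : a * b ≠ 1 := fun e => hab (by rw [← F.inv hb]; exact eq_inv_of_mul_eq_one_left e)
  have hsub : ({1, a, b, a * b, x} : Set L) ⊆ W := by
    simp only [Set.insert_subset_iff, Set.singleton_subset_iff]
    exact ⟨one_mem _, ha, hb, mul_mem ha hb, hx⟩
  have h5 : ({1, a, b, a * b, x} : Set L).ncard = 5 := by
    rw [Set.ncard_insert_of_notMem, Set.ncard_insert_of_notMem, Set.ncard_insert_of_notMem,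
      Set.ncard_pair hne.2.2.2.symm]
    · simp [ha1, hne.2.2.1.symm]
    · simp [hab, hne.2.1.symm, hb1]
    · simp [ha1.symm, hb1.symm, hab1.symm, hne.1.symm]
  have := Set.ncard_le_ncard hsub (Set.toFinite _)
  rw [h5, ← Nat.card_coe_set_eq, SetLike.coe_sort_coe, F.card] at this
  omega

/-- The centraliser of two different involutions of `W`. -/
theorem Four.mem_of_comm {a b : L} (ha : a ∈ W) (hb : b ∈ W) (ha1 : a ≠ 1) (hb1 : b ≠ 1)
    (hab : a ≠ b) {g : L} (hga : g * a = a * g) (hgb : g * b = b * g) : g ∈ W := by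
  refine F.cent.le (mem_centralizer_iff.2 fun x hx => ?_)
  rcases F.cases ha hb ha1 hb1 hab hx with rfl | rfl | rfl | rfl
  · simp
  · exact hga.symm
  · exact hgb.symm
  · exact ((show Commute g a from hga).mul_right hgb).eq.symm

theorem Four.exists_other {a : L} (ha : a ∈ W) : ∃ b ∈ W, b ≠ 1 ∧ b ≠ a := by
  by_contra! h
  have hsub : (W : Set L) ⊆ {1, a} := fun x hx => by
    by_cases h1 : x = 1
    · simp [h1]
    · simp [h x hx h1]
  have h2 := Set.ncard_le_ncard hsub (Set.toFinite _)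
  rw [← Nat.card_coe_set_eq, SetLike.coe_sort_coe, F.card] at h2
  have h3 : ({1, a} : Set L).ncard ≤ 2 := by
    refine (Set.ncard_insert_le _ _).trans ?_
    rw [Set.ncard_singleton]
  omega

theorem Four.cj_mem {g w : L} (hg : g ∈ normalizer (W : Set L)) (hw : w ∈ W) :
    g * w * g⁻¹ ∈ W := (mem_normalizer_iff.1 hg w).1 hw

/-- `⟨c⟩` is transitive on the involutions of `W`. -/
theorem Four.exists_conj {a b : L} (ha : a ∈ W) (hb : b ∈ W) (ha1 : a ≠ 1) (hb1 : b ≠ 1) :
    ∃ g ∈ normalizer (W : Set L), g * a * g⁻¹ = b := by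
  have h1 : ∀ w ∈ W, w ≠ 1 → c * w * c⁻¹ ≠ 1 := fun w _ hw1 e =>
    hw1 (by simpa [mul_assoc] using congrArg (fun t => c⁻¹ * t * c) e)
  set a' := c * a * c⁻¹ with ha'
  have ha'W : a' ∈ W := F.cj_mem F.cN ha
  have hne : a ≠ a' := (F.cMove a ha ha1).symm
  rcases F.cases ha ha'W ha1 (h1 a ha ha1) hne hb with h | h | h | h
  · exact absurd h hb1
  · exact ⟨1, one_mem _, by simp [h]⟩
  · exact ⟨c, F.cN, h.symm⟩
  · refine ⟨c * c, mul_mem F.cN F.cN, ?_⟩
    have hb' : c * c * a * (c * c)⁻¹ = c * a' * c⁻¹ := by rw [ha']; group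
    rw [hb', h]
    rcases F.cases ha ha'W ha1 (h1 a ha ha1) hne (F.cj_mem F.cN ha'W) with e | e | e | e
    · exact absurd e (h1 a' ha'W (h1 a ha ha1))
    · exfalso
      -- `c` would interchange `a` and `a'`
      refine F.cMove a ha ha1 ?_
      have e3 : c * (c * a' * c⁻¹) * c⁻¹ = a := by
        have h3 := F.c3
        rw [ha', show c * (c * (c * a * c⁻¹) * c⁻¹) * c⁻¹ = c * c * c * a * (c * c * c)⁻¹ by group,
          h3]
        simp
      rw [e] at e3
      exact e3
    · exact absurd e (F.cMove a' ha'W (h1 a ha ha1))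
    · exact e

theorem Four.exists_sylow : ∃ S : Sylow 2 L, W ≤ (S : Subgroup L) ∧
    16 ∣ Nat.card (S : Subgroup L) := by
  haveI : Fact (Nat.Prime 2) := ⟨Nat.prime_two⟩
  obtain ⟨S, hS⟩ := (IsPGroup.of_card (p := 2) (n := 2) (by rw [F.card]; norm_num) :
    IsPGroup 2 W).exists_le_sylow
  refine ⟨S, hS, ?_⟩
  have := S.pow_dvd_card_of_pow_dvd_card (n := 4) (by simpa using F.big)
  simpa using this

variable {S : Sylow 2 L} (hS : W ≤ (S : Subgroup L)) (h16 : 16 ∣ Nat.card (S : Subgroup L))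

include hS h16

/-- The central involution of `S` lies in `W`. -/
theorem Four.exists_center : ∃ z ∈ W, z ≠ 1 ∧ (∀ s ∈ (S : Subgroup L), s * z = z * s) ∧
    ∃ v ∈ W, v ≠ 1 ∧ v ≠ z := by
  haveI : Fact (Nat.Prime 2) := ⟨Nat.prime_two⟩
  haveI : Nontrivial (S : Subgroup L) := Finite.one_lt_card_iff_nontrivial.1
    (lt_of_lt_of_le (by norm_num) (Nat.le_of_dvd Nat.card_pos h16))
  haveI := S.2.center_nontrivial
  obtain ⟨⟨⟨z, hzS⟩, hzc⟩, hne⟩ := exists_ne (1 : center (S : Subgroup L))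
  have hz : ∀ s ∈ (S : Subgroup L), s * z = z * s := fun s hs =>
    congrArg Subtype.val (mem_center_iff.1 hzc ⟨s, hs⟩)
  have hzW : z ∈ W := F.cent.le (mem_centralizer_iff.2 fun w hw => hz w (hS hw))
  have hz1 : z ≠ 1 := fun e => hne (Subtype.ext (Subtype.ext e))
  obtain ⟨v, hv, hv1, hvz⟩ := F.exists_other hzW
  exact ⟨z, hzW, hz1, hz, v, hv, hv1, hvz⟩

/-- The Sylow `2`-subgroup is dihedral or semidihedral. -/
theorem Four.sylow_cases :
    (∃ n : ℕ, Nonempty ((S : Subgroup L) ≃* DihedralGroup n)) ∨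
      Cfsg.IsQuasiDihedral (S : Subgroup L) := by
  obtain ⟨z, hzW, hz1, hz, v, hv, hv1, hvz⟩ := F.exists_center hS h16
  have hC : Nat.card ↥(centralizer ({(⟨v, hS hv⟩ : (S : Subgroup L))} : Set _)) = 4 := by
    rw [← F.card]
    have e : centralizer ({(⟨v, hS hv⟩ : (S : Subgroup L))} : Set _) = W.subgroupOf S := by
      ext x
      rw [mem_centralizer_singleton_iff, mem_subgroupOf, Subtype.ext_iff]
      exact ⟨fun h => F.mem_of_comm hzW hv hz1 hv1 hvz.symm (hz x x.2) h,
        fun h => F.comm h hv⟩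
    rw [e, Nat.card_congr (subgroupOfEquivOfLe hS).toEquiv]
  rcases Cfsg.Agent.S3224.result (S := (S : Subgroup L)) S.2 ⟨v, hS hv⟩
    (by rw [Subgroup.orderOf_mk]; exact F.orderOf_eq hv hv1) hC with h | h | h
  · exact Or.inl h
  · exact Or.inr h
  · rw [h] at h16
    norm_num at h16

end Cfsg.Agent.Lib.Suborbit46
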