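import Cfsg.Agent.Lib.Suborbit46.Edge

/-!
# The bipartite graph of an orbital, walks and critical pairs
-/

set_option autoImplicit false
set_option linter.unusedSectionVars false

namespace Cfsg.Agent.Lib.Suborbit46

open Subgroup

universe u

variable {G : Type u} [Group G] {H P : Subgroup G}

/-- An element of `N(P)` outside `H`. -/
structure Turn (H P : Subgroup G) (g₀ : G) : Prop where
  norm : g₀ ∈ normalizer (P : Set G)
  notMem : g₀ ∉ H

/-- The translation attached to a type of vertex. -/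
def step (g₀ : G) : Bool → G
  | false => g₀
  | true => g₀⁻¹

theorem step_not (g₀ : G) (s : Bool) : step g₀ (!s) = (step g₀ s)⁻¹ := by cases s <;> simp [step]

theorem Turn.step {g₀ : G} (T : Turn H P g₀) (s : Bool) :
    step g₀ s ∈ normalizer (P : Set G) ∧ step g₀ s ∉ H := by
  cases s
  · exact ⟨T.norm, T.notMem⟩
  · exact ⟨inv_mem T.norm, fun h => T.notMem (by simpa [Suborbit46.step] using inv_mem h)⟩

/-- Adjacency in the bipartite double of the orbital of `(H, g₀ H)`. -/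
def Adj (g₀ : G) (u w : Bool × (G ⧸ H)) : Prop :=
  w.1 = !u.1 ∧ ∃ g : G, (g : G ⧸ H) = u.2 ∧ ((g * step g₀ u.1 : G) : G ⧸ H) = w.2

theorem Adj.symm {g₀ : G} {u w : Bool × (G ⧸ H)} (e : Adj g₀ u w) : Adj g₀ w u := by
  obtain ⟨h, g, hu, hw⟩ := e
  refine ⟨by simp [h], g * step g₀ u.1, hw, ?_⟩
  rw [h, step_not, mul_inv_cancel_right, hu]

theorem Adj.edge {g₀ : G} (T : Turn H P g₀) {u w : Bool × (G ⧸ H)} (e : Adj g₀ u w) :
    Edge P u.2 w.2 := by
  obtain ⟨-, g, hu, hw⟩ := e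
  exact ⟨g, _, (T.step u.1).1, (T.step u.1).2, hu, hw⟩

theorem Adj.smul {g₀ : G} {u w : Bool × (G ⧸ H)} (e : Adj g₀ u w) (k : G) :
    Adj g₀ (u.1, k • u.2) (w.1, k • w.2) := by
  obtain ⟨h, g, hu, hw⟩ := e
  exact ⟨h, k * g, by rw [← hu]; rfl, by rw [← hw, mul_assoc]; rfl⟩

theorem Adj.exists_smul {g₀ : G} {u w u' w' : Bool × (G ⧸ H)} (e : Adj g₀ u w)
    (e' : Adj g₀ u' w') (hs : u.1 = u'.1) : ∃ k : G, k • u.2 = u'.2 ∧ k • w.2 = w'.2 := by
  obtain ⟨-, g, hu, hw⟩ := e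
  obtain ⟨-, g', hu', hw'⟩ := e'
  refine ⟨g' * g⁻¹, ?_, ?_⟩
  · rw [← hu, ← hu', MulAction.Quotient.smul_coe, smul_eq_mul, inv_mul_cancel_right]
  · rw [← hw, ← hw', ← hs, MulAction.Quotient.smul_coe, smul_eq_mul, ← mul_assoc,
      inv_mul_cancel_right]

/-- Walks. -/
def Walk (g₀ : G) : ℕ → Bool × (G ⧸ H) → Bool × (G ⧸ H) → Prop
  | 0, u, w => u = w
  | n + 1, u, w => ∃ m, Adj g₀ u m ∧ Walk g₀ n m w

theorem Walk.trans {g₀ : G} {w : Bool × (G ⧸ H)} : ∀ {n m : ℕ} {u v : Bool × (G ⧸ H)},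
    Walk g₀ n u v → Walk g₀ m v w → Walk g₀ (n + m) u w
  | 0, m, u, v, h1, h2 => by
    cases (h1 : u = v)
    rwa [Nat.zero_add]
  | n + 1, m, u, v, ⟨k, hk, h1⟩, h2 => by
    rw [Nat.add_right_comm]
    exact ⟨k, hk, h1.trans h2⟩

theorem Adj.walk {g₀ : G} {u w : Bool × (G ⧸ H)} (e : Adj g₀ u w) : Walk g₀ 1 u w := ⟨w, e, rfl⟩

theorem Walk.symm {g₀ : G} : ∀ {n : ℕ} {u w : Bool × (G ⧸ H)},
    Walk g₀ n u w → Walk g₀ n w u
  | 0, u, w, h => Eq.symm (h : u = w)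
  | _ + 1, _, _, ⟨_, hk, h⟩ => h.symm.trans hk.symm.walk

theorem Walk.smul {g₀ : G} (k : G) : ∀ {n : ℕ} {u w : Bool × (G ⧸ H)},
    Walk g₀ n u w → Walk g₀ n (u.1, k • u.2) (w.1, k • w.2)
  | 0, u, w, h => by cases (h : u = w); rfl
  | _ + 1, _, _, ⟨m, hm, h⟩ => ⟨(m.1, k • m.2), hm.smul k, h.smul k⟩

theorem Walk.last {g₀ : G} {n : ℕ} {u w : Bool × (G ⧸ H)} (h : Walk g₀ (n + 1) u w) :
    ∃ m, Walk g₀ n u m ∧ Adj g₀ m w := by
  obtain ⟨m, hm, h'⟩ := h.symm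
  exact ⟨m, h'.symm, hm.symm⟩

variable [Finite G]

/-- A critical pair at distance `n`. -/
def Crit (P : Subgroup G) (g₀ : G) (n : ℕ) (u w : Bool × (G ⧸ H)) : Prop :=
  Walk g₀ n u w ∧ ¬ Vv P u.2 ≤ Kv P w.2

variable (C : Con G H P) {g₀ : G} (T : Turn H P g₀)

include C T

theorem Con.exists_crit : ∃ n, ∃ u w : Bool × (G ⧸ H), Crit P g₀ n u w := by
  by_contra! hall
  set a : Bool × (G ⧸ H) := (false, ((1 : G) : G ⧸ H)) with ha
  have hle : ∀ w, (∃ n, Walk g₀ n a w) → Vv P a.2 ≤ St w.2 := fun w ⟨n, hn⟩ => by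
    by_contra h
    exact hall n a w ⟨hn, fun h' => h (h'.trans (C.Kv_le_St _))⟩
  let R : Subgroup G :=
    { carrier := {g | ∃ n, Walk g₀ n a (false, (g : G ⧸ H))}
      one_mem' := ⟨0, rfl⟩
      mul_mem' := by
        rintro x y ⟨n, hn⟩ ⟨m, hm⟩
        have h := hm.smul x
        refine ⟨n + m, hn.trans ?_⟩
        simpa [ha, MulAction.Quotient.smul_coe] using h
      inv_mem' := by
        rintro x ⟨n, hn⟩
        refine ⟨n, ?_⟩
        simpa [ha, MulAction.Quotient.smul_coe] using (hn.smul x⁻¹).symm }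
  have hH : H ≤ R := fun h hh => ⟨0, by
    show a = (false, (h : G ⧸ H))
    rw [ha, show ((h : G) : G ⧸ H) = ((1 : G) : G ⧸ H) from QuotientGroup.eq.2 (by simpa using hh)]⟩
  have hR : R = ⊤ := by
    refine C.setup.coatom.2 R (lt_of_le_of_ne hH fun e => ?_)
    have hconj : ∀ h ∈ H, g₀ * h * g₀⁻¹ ∈ R := fun h hh => by
      have e1 : Adj g₀ a (true, ((g₀ : G) : G ⧸ H)) := ⟨rfl, 1, rfl, by simp [step, ha]⟩
      have e2 : Adj g₀ (true, ((g₀ : G) : G ⧸ H)) (false, ((g₀ * h * g₀⁻¹ : G) : G ⧸ H)) :=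
        ⟨rfl, g₀ * h, QuotientGroup.eq.2 (by simpa using inv_mem hh), by simp [step]⟩
      exact ⟨1 + 1, e1.walk.trans e2.walk⟩
    refine T.notMem (C.setup.normalizer_eq ▸ cj_eq_self.1 ?_)
    refine Subgroup.eq_of_le_of_card_ge (fun y hy => ?_) (by rw [card_cj])
    have := hconj _ (mem_cj.1 hy)
    rw [← e] at this
    simpa [mul_assoc] using this
  obtain ⟨v, hv, hv'⟩ := C.exists_notMem_Z
  have hfix : ∀ g : G, g⁻¹ * v * g ∈ H := fun g => by
    obtain ⟨n, hn⟩ : g ∈ R := hR ▸ mem_top g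
    have h := hle _ ⟨n, hn⟩ (show v ∈ Vv P a.2 by
      rw [Vv_eq (g := 1) rfl, cj_one]; exact hv)
    rwa [St_eq (g := g) rfl, mem_cj] at h
  have hcl : Subgroup.normalClosure ({v} : Set G) ≤ H := by
    rw [Subgroup.normalClosure, closure_le]
    intro y hy
    obtain ⟨x, hx, hc⟩ := Group.mem_conjugatesOfSet_iff.1 hy
    rw [Set.mem_singleton_iff] at hx
    obtain ⟨k, rfl⟩ := isConj_iff.1 hc
    subst hx
    simpa using hfix k⁻¹
  have := C.setup.core _ hcl normalClosure_normal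
  have hv1 : v = 1 := by
    simpa [this, mem_bot] using subset_normalClosure (Set.mem_singleton v)
  exact hv' (hv1 ▸ one_mem _)

end Cfsg.Agent.Lib.Suborbit46
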