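import Mathlib

/-!
# The transfer of a central involution of a `2`-subgroup

If the involution `z` commutes with the `2`-group `P` and `S` is the only coset of `S` fixed by `P`,
the transfer of `z` into an abelian quotient of `S` is the image of `z`.
-/

set_option autoImplicit false
set_option linter.unusedSectionVars false
set_option linter.style.haveILetI false

namespace Cfsg.Agent.Lib.Suborbit46

open Subgroup MulAction

universe u v

variable {G : Type u} [Group G] [Finite G] {A : Type v} [CommGroup A]

open Classical in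
/-- The value of `φ` on a conjugate, or `1`. -/
noncomputable def conjVal {S : Subgroup G} (φ : S →* A) (z x : G) : A :=
  if h : x⁻¹ * z * x ∈ S then φ ⟨x⁻¹ * z * x, h⟩ else 1

variable {S : Subgroup G} (φ : S →* A) {z : G}

theorem conjVal_mul (x : G) {s : G} (hs : s ∈ S) : conjVal φ z (x * s) = conjVal φ z x := by
  have e : (x * s)⁻¹ * z * (x * s) = s⁻¹ * (x⁻¹ * z * x) * s := by group
  by_cases h : x⁻¹ * z * x ∈ S
  · have h' : (x * s)⁻¹ * z * (x * s) ∈ S := e ▸ mul_mem (mul_mem (inv_mem hs) h) hs
    rw [conjVal, conjVal, dif_pos h, dif_pos h']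
    have e' : (⟨_, h'⟩ : S) = (⟨s, hs⟩ : S)⁻¹ * ⟨_, h⟩ * ⟨s, hs⟩ := Subtype.ext e
    rw [e', map_mul, map_mul, mul_right_comm, map_inv, inv_mul_cancel, one_mul]
  · rw [conjVal, conjVal, dif_neg h, dif_neg]
    rw [e]
    exact fun h' => h (by simpa [mul_assoc] using mul_mem (mul_mem hs h') (inv_mem hs))

theorem conjVal_left {p : G} (hp : p * z = z * p) (x : G) :
    conjVal φ z (p * x) = conjVal φ z x := by
  have e : (p * x)⁻¹ * z * (p * x) = x⁻¹ * z * x := by
    calc (p * x)⁻¹ * z * (p * x) = x⁻¹ * p⁻¹ * (z * p) * x := by group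
      _ = x⁻¹ * z * x := by rw [← hp]; group
  unfold conjVal
  by_cases h : x⁻¹ * z * x ∈ S
  · rw [dif_pos h, dif_pos (e ▸ h)]
    exact congrArg φ (Subtype.ext e)
  · rw [dif_neg h, dif_neg (e ▸ h)]

theorem conjVal_sq (hz : z * z = 1) (x : G) : conjVal φ z x * conjVal φ z x = 1 := by
  by_cases h : x⁻¹ * z * x ∈ S
  · have e : (⟨x⁻¹ * z * x, h⟩ : S) * ⟨x⁻¹ * z * x, h⟩ = 1 := Subtype.ext (by
      show x⁻¹ * z * x * (x⁻¹ * z * x) = 1
      rw [show x⁻¹ * z * x * (x⁻¹ * z * x) = x⁻¹ * (z * z) * x by group, hz]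
      group)
    rw [conjVal, dif_pos h, ← map_mul, e, map_one]
  · rw [conjVal, dif_neg h, one_mul]

/-- The transfer of an involution is the product of its values on the cosets. -/
theorem transfer_invol_prod [Fintype (G ⧸ S)] (hz : z * z = 1) :
    MonoidHom.transfer φ z = ∏ q : G ⧸ S, conjVal φ z q.out := by
  classical
  have hzi : z⁻¹ = z := inv_eq_of_mul_eq_one_right hz
  set T : S.LeftTransversal :=
    ⟨_, isComplement_range_left (H := S) (f := Quotient.out) fun q => QuotientGroup.out_eq' q⟩
  have hT : ∀ q, (T.2.leftQuotientEquiv q : G) = q.out := fun q =>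
    IsComplement.leftQuotientEquiv_apply (fun q => QuotientGroup.out_eq' q) q
  have hsub : ∀ q : G ⧸ S, q.out⁻¹ * z * (z • q).out ∈ S := fun q => by
    have h : ((z * (z • q).out : G) : G ⧸ S) = q := by
      rw [← smul_eq_mul, ← MulAction.Quotient.smul_mk, QuotientGroup.out_eq', ← mul_smul, hz,
        one_smul]
    have h2 := QuotientGroup.eq.1 ((QuotientGroup.out_eq' q).trans h.symm)
    simpa [mul_assoc] using h2
  set t : G ⧸ S → A := fun q => φ ⟨_, hsub q⟩ with ht
  have hdiff : MonoidHom.transfer φ z = ∏ q, t q := by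
    rw [MonoidHom.transfer_def φ T z]
    simp only [Subgroup.leftTransversals.diff]
    rw [Subsingleton.elim S.fintypeQuotientOfFiniteIndex ‹Fintype (G ⧸ S)›]
    refine Finset.prod_congr rfl fun q _ => congrArg φ (Subtype.ext ?_)
    simp only [smul_apply_eq_smul_apply_inv_smul, hT, hzi, smul_eq_mul]
    group
  -- the values on the moved cosets cancel
  have hcancel : ∏ q, (t q * (conjVal φ z q.out)⁻¹) = 1 := by
    refine Finset.prod_involution (fun q _ => z • q) (fun q _ => ?_) (fun q _ hne h => hne ?_)
      (fun q _ => Finset.mem_univ _) (fun q _ => by rw [← mul_smul, hz, one_smul])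
    · by_cases hfix : z • q = q
      · rw [hfix]
        have hm : q.out⁻¹ * z * q.out ∈ S := by
          have := hsub q
          rwa [hfix] at this
        have : t q = conjVal φ z q.out := by
          rw [ht, conjVal, dif_pos hm]
          exact congrArg φ (Subtype.ext (by simp only [hfix]))
        rw [this, mul_inv_cancel, one_mul]
      · have h1 : ∀ q : G ⧸ S, z • q ≠ q → conjVal φ z q.out = 1 := fun q hq => by
          refine dif_neg fun h => hq ?_
          have h' : ((q.out : G) : G ⧸ S) = ((z * q.out : G) : G ⧸ S) :=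
            QuotientGroup.eq.2 (by simpa [mul_assoc] using h)
          rw [QuotientGroup.out_eq', ← smul_eq_mul, ← MulAction.Quotient.smul_mk,
            QuotientGroup.out_eq'] at h'
          exact h'.symm
        rw [h1 q hfix, h1 (z • q) fun e => hfix (MulAction.injective z e), inv_one, mul_one,
          mul_one, ht, ← map_mul]
        refine (congrArg φ (Subtype.ext ?_)).trans (map_one φ)
        show q.out⁻¹ * z * (z • q).out * ((z • q).out⁻¹ * z * (z • z • q).out) = 1
        rw [← mul_smul, hz, one_smul,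
          show q.out⁻¹ * z * (z • q).out * ((z • q).out⁻¹ * z * q.out) =
            q.out⁻¹ * (z * z) * q.out by group, hz]
        group
    · have hm : q.out⁻¹ * z * q.out ∈ S := by
        have := hsub q
        rwa [h] at this
      have : t q = conjVal φ z q.out := by
        rw [ht, conjVal, dif_pos hm]
        exact congrArg φ (Subtype.ext (by simp only [h]))
      rw [this, mul_inv_cancel]
  rw [hdiff]
  rw [Finset.prod_mul_distrib, Finset.prod_inv_distrib, mul_inv_eq_one] at hcancel
  exact hcancel

/-- The transfer into the quotient is the image of `z`. -/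
theorem transfer_eq_self {P : Subgroup G} (hz : z * z = 1) (hP : IsPGroup 2 P) (hPS : P ≤ S)
    (hc : ∀ p ∈ P, p * z = z * p) (hzS : z ∈ S)
    (huniq : ∀ x : G, (∀ p ∈ P, x⁻¹ * p * x ∈ S) → x ∈ S) :
    MonoidHom.transfer φ z = φ ⟨z, hzS⟩ := by
  classical
  haveI : Fact (Nat.Prime 2) := ⟨Nat.prime_two⟩
  letI : Fintype (G ⧸ S) := Fintype.ofFinite _
  rw [transfer_invol_prod φ hz]
  set f : G ⧸ S → A := fun q => conjVal φ z q.out with hf
  have hout : ∀ x : G, f (x : G ⧸ S) = conjVal φ z x := fun x => by
    have h := QuotientGroup.eq.1 (QuotientGroup.out_eq' (x : G ⧸ S)).symm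
    rw [hf]
    simpa using conjVal_mul φ x h
  have hinv : ∀ (p : P) (q : G ⧸ S), f (p • q) = f q := fun p q => by
    induction q using QuotientGroup.induction_on with | _ x => ?_
    show f ((p : G) • (x : G ⧸ S)) = _
    rw [MulAction.Quotient.smul_mk, hout, hout, smul_eq_mul, conjVal_left φ (hc p p.2)]
  set q₀ : G ⧸ S := ((1 : G) : G ⧸ S) with hq₀
  have hq₀fix : ∀ p : P, p • q₀ = q₀ := fun p => by
    show (p : G) • q₀ = q₀
    rw [hq₀, MulAction.Quotient.smul_mk, smul_eq_mul, mul_one]
    exact QuotientGroup.eq.2 (by simpa using inv_mem (hPS p.2))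
  have hfix : ∀ q : G ⧸ S, (∀ p : P, p • q = q) → q = q₀ := fun q hq => by
    induction q using QuotientGroup.induction_on with | _ x => ?_
    refine QuotientGroup.eq.2 ?_
    rw [mul_one]
    refine inv_mem (huniq x fun p hp => ?_)
    have := hq ⟨p⁻¹, inv_mem hp⟩
    change (p⁻¹ : G) • ((x : G) : G ⧸ S) = _ at this
    rw [MulAction.Quotient.smul_mk, smul_eq_mul, QuotientGroup.eq] at this
    simpa [mul_assoc] using this
  have hrest : ∏ q ∈ Finset.univ.erase q₀, f q = 1 := by
    refine Finset.prod_fiberwise_of_maps_to (g := fun q => (Quotient.mk'' q : orbitRel.Quotient P (G ⧸ S)))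
      (t := Finset.univ.image fun q => (Quotient.mk'' q : orbitRel.Quotient P (G ⧸ S)))
      (fun q _ => Finset.mem_image_of_mem _ (Finset.mem_univ q)) f |>.symm.trans ?_
    refine Finset.prod_eq_one fun ω _ => ?_
    induction ω using Quotient.inductionOn' with | h r => ?_
    by_cases hr : r = q₀
    · refine Finset.prod_eq_one fun q hq => ?_
      exfalso
      simp only [Finset.mem_filter, Finset.mem_erase, Quotient.eq''] at hq
      obtain ⟨⟨hne, -⟩, p, hp⟩ := hq
      exact hne (hp.symm.trans (hr ▸ hq₀fix p))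
    · have hne : ∀ q ∈ orbit P r, q ≠ q₀ := by
        rintro _ ⟨p, rfl⟩ e
        exact hr (MulAction.injective p (e.trans (hq₀fix p).symm))
      have hset : (Finset.univ.erase q₀).filter
          (fun q => (Quotient.mk'' q : orbitRel.Quotient P (G ⧸ S)) = Quotient.mk'' r) =
          (orbit P r).toFinset := by
        ext q
        simp only [Finset.mem_filter, Finset.mem_erase, Finset.mem_univ, and_true, Quotient.eq'',
          Set.mem_toFinset]
        exact ⟨fun h => h.2, fun h => ⟨hne q h, h⟩⟩
      rw [hset, Finset.prod_congr rfl (g := fun _ => f r) fun q hq => ?_, Finset.prod_const]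
      · obtain ⟨n, hn⟩ := hP.card_orbit r
        have hn0 : n ≠ 0 := fun e => hr (hfix r fun p => by
          rw [e, pow_zero, Nat.card_coe_set_eq, Set.ncard_eq_one] at hn
          obtain ⟨w, hw⟩ := hn
          exact ((Set.ext_iff.1 hw _).1 (mem_orbit r p)).trans
            ((Set.ext_iff.1 hw _).1 (mem_orbit_self r)).symm)
        rw [← Set.ncard_eq_toFinset_card', ← Nat.card_coe_set_eq, hn,
          show 2 ^ n = 2 * 2 ^ (n - 1) by rw [← pow_succ', Nat.sub_add_cancel (by omega)],
          pow_mul, pow_two, hf, conjVal_sq φ hz, one_pow]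
      · obtain ⟨p, rfl⟩ := Set.mem_toFinset.1 hq
        exact hinv p r
  show ∏ q, f q = _
  rw [← Finset.mul_prod_erase _ _ (Finset.mem_univ q₀), hrest, mul_one, hq₀, hout, conjVal,
    dif_pos (by simpa using hzS)]
  exact congrArg φ (Subtype.ext (by simp))

end Cfsg.Agent.Lib.Suborbit46
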