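import Cfsg.Agent.Lib.Suborbit46.Big
import Cfsg.Agent.Lib.Suborbit46.General
import Cfsg.Agent.Lib.Suborbit46.Transfer

/-!
# Point stabilisers of order 48: a subgroup of index two
-/

set_option autoImplicit false
set_option linter.unusedSectionVars false
set_option linter.style.haveILetI false

namespace Cfsg.Agent.Lib.Suborbit46

open Subgroup

universe u

variable {G : Type u} [Group G] [Finite G] {H P : Subgroup G} {g c z : G} {W : Subgroup G}
  (B : Big G H P g c z W)

include B

/-- An elementary abelian subgroup of order eight of `N(P)` lies in `P`. -/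
theorem Big.el_ab_norm {A : Subgroup G} (hA : A ≤ normalizer (P : Set G))
    (h2 : ∀ a ∈ A, a * a = 1) (hc : Nat.card A = 8) : A ≤ P := by
  by_contra hle
  obtain ⟨e, he, heP⟩ := SetLike.not_le_iff_exists.1 hle
  have Q := B.pair
  have hge := (Q.mem_or (hA he)).resolve_left heP
  -- `e` interchanges `V` and its conjugate
  have hswap : cj e (V H P) = cj g (V H P) := by
    conv_lhs => rw [show e = g * (g⁻¹ * e) by group, cj_mul]
    have hm : g⁻¹ * e ∈ normalizer (V H P : Set G) := by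
      rw [Q.normalizer_V]; exact Q.con.setup.le hge
    rw [cj_eq_self.2 hm]
  have hcomm : ∀ a ∈ A ⊓ P, e * a = a * e := fun a ha =>
    comm_of_sq_one h2 he (Subgroup.mem_inf.1 ha).1
  have hZ : A ⊓ P ≤ omegaCenter P := by
    intro a ha
    have hconj : e * a * e⁻¹ = a := by rw [hcomm a ha, mul_inv_cancel_right]
    rcases Q.invol_cases (Subgroup.mem_inf.1 ha).2 (h2 a (Subgroup.mem_inf.1 ha).1) with h | h
    · refine Q.inf_eq h ?_
      rw [← hswap, ← hconj]
      exact conj_mem_cj h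
    · refine Q.inf_eq ?_ h
      have h' := h
      rw [← hswap, mem_cj] at h'
      have : e⁻¹ * a * e = a := by
        calc e⁻¹ * a * e = e⁻¹ * (a * e) := by group
          _ = a := by rw [← hcomm a ha]; group
      rwa [this] at h'
  have hidx : 4 ≤ Nat.card ↥(A ⊓ P) := by
    have hi : ((A ⊓ P).subgroupOf A).index = 2 := by
      rw [index_eq_two_iff]
      refine ⟨⟨e, he⟩, fun b => ?_⟩
      simp only [mem_subgroupOf, Subgroup.coe_mul, Subgroup.mem_inf]
      by_cases hb : (b : G) ∈ P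
      · exact Or.inr ⟨⟨b.2, hb⟩, fun h => heP (by simpa using mul_mem (inv_mem hb) h.2)⟩
      · refine Or.inl ⟨⟨mul_mem b.2 he, ?_⟩, fun h => hb h.2⟩
        have hgb := (Q.mem_or (hA b.2)).resolve_left hb
        have h1 : g⁻¹ * (g⁻¹ * b) * g ∈ P := mem_cj.1 (Q.cj_P.symm ▸ hgb)
        have := mul_mem (mul_mem Q.gg_mem h1) hge
        simpa [mul_assoc] using this
    have := ((A ⊓ P).subgroupOf A).card_mul_index
    rw [hi, Nat.card_congr (subgroupOfEquivOfLe inf_le_left).toEquiv, hc] at this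
    omega
  have hZc : Nat.card (omegaCenter P) = 4 := by
    have := Q.con.card_V
    rw [B.cardV] at this
    omega
  have heq := Subgroup.eq_of_le_of_card_ge hZ (by omega)
  have hz : z ∈ A ⊓ P := heq.symm ▸ Q.con.Z0_le B.zMem
  have heH : e ∈ H := B.centralizer_z ▸ mem_centralizer_singleton_iff.2 (hcomm z hz)
  exact Q.con.setup.conj_notMem Q.con.ne_bot heH heP (cj_eq_self.2 (hA he))

/-- `N(P)` is the only coset of itself fixed by `P`. -/
theorem Big.coset_unique {x : G} (hx : ∀ p ∈ P, x⁻¹ * p * x ∈ normalizer (P : Set G)) :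
    x ∈ normalizer (P : Set G) := by
  have Q := B.pair
  have key : ∀ U : Subgroup G, U ≤ P → (∀ a ∈ U, a * a = 1) → Nat.card U = 8 →
      cj x⁻¹ U ≤ P := fun U hU h2 hc => B.el_ab_norm
    (fun y hy => by
      have h := mem_cj.1 hy
      rw [inv_inv] at h
      have := hx _ (hU h)
      simpa [mul_assoc] using this)
    (fun a ha => by
      have := congrArg (fun w => x⁻¹ * w * x) (h2 _ (mem_cj.1 ha))
      simpa [mul_assoc] using this)
    (by rw [card_cj, hc])
  obtain ⟨t, ht, htP, htV, -⟩ := Q.exists_out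
  have hP : P ≤ cj x P := by
    refine Q.con.setup.le_of_core_le Q.con.ne_bot htP (Q.con.notMem_core htV) ?_ ?_
    · rw [Q.con.core_eq_V]
      intro v hv
      have := cj_mono x (key _ Q.con.V_le_P (fun a ha => Q.con.sq_V ha) B.cardV)
        (show v ∈ cj x (cj x⁻¹ (V H P)) by rwa [← cj_mul, mul_inv_cancel, cj_one])
      exact this
    · exact cj_mono x (key _ Q.cj_le (fun a ha => Q.sq ha) (by rw [card_cj, B.cardV]))
        (show t ∈ cj x (cj x⁻¹ (cj g (V H P))) by rwa [← cj_mul x x⁻¹, mul_inv_cancel, cj_one])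
  exact cj_eq_self.1 (Subgroup.eq_of_le_of_card_ge hP (by rw [card_cj])).symm

/-- A subgroup of index two not containing `z`. -/
theorem Big.exists_index_two : ∃ L : Subgroup G, L.index = 2 ∧ z ∉ L := by
  haveI : Fact (Nat.Prime 2) := ⟨Nat.prime_two⟩
  have Q := B.pair
  set S := normalizer (P : Set G) with hS
  have hPS : P ≤ S := Subgroup.le_normalizer
  have hDS : W ⊔ cj g W ≤ S := B.D_le.trans hPS
  haveI hDn : ((W ⊔ cj g W).subgroupOf S).Normal :=
    (normal_subgroupOf_iff_le_normalizer hDS).2 B.D_normal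
  set D := (W ⊔ cj g W).subgroupOf S with hD
  have hA4 : Nat.card (↥S ⧸ D) = 4 := by
    have h := D.card_mul_index
    rw [Nat.card_congr (subgroupOfEquivOfLe hDS).toEquiv, B.card_D,
      show Nat.card ↥S = 32 by rw [hS, Q.card_normalizer, B.cardP]] at h
    rw [← index_eq_card]
    omega
  letI : CommGroup (↥S ⧸ D) := IsPGroup.commGroupOfCardEqPrimeSq (p := 2) (by rw [hA4]; norm_num)
  set φ : ↥S →* ↥S ⧸ D := QuotientGroup.mk' D
  have hzP : z ∈ P := Q.con.V_le_P B.zV
  set τ := MonoidHom.transfer φ with hτ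
  have hτz : τ z = φ ⟨z, hPS hzP⟩ := transfer_eq_self φ B.zz Q.con.setup.twoP hPS
    (fun p hp => B.zc (Q.con.setup.le hp)) (hPS hzP) fun x hx => B.coset_unique hx
  have hτz1 : τ z ≠ 1 := fun e => by
    rw [hτz, QuotientGroup.mk'_apply, QuotientGroup.eq_one_iff, hD, mem_subgroupOf] at e
    exact B.z_notMem_D e
  have hconj : ∀ a b : G, τ (a * b * a⁻¹) = τ b := fun a b => by
    rw [map_mul, map_mul, map_inv, mul_right_comm, mul_inv_cancel, one_mul]
  have hτc : τ c = 1 := by
    have h3 : τ c ^ 3 = 1 := by rw [← map_pow, pow_succ, pow_two, B.c3, map_one]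
    have h4 : τ c ^ 4 = 1 := hA4 ▸ pow_card_eq_one'
    rwa [pow_succ, h3, one_mul] at h4
  have hτW : ∀ w ∈ W, τ w = 1 := fun w hw => by
    by_cases h1 : w = 1
    · rw [h1, map_one]
    set u := c * w * c⁻¹ with hu
    have huW : u ∈ W := (mem_normalizer_iff.1 (B.Wn B.cH) w).1 hw
    have hwu : w * u ∈ W := mul_mem hw huW
    have hcu : c * u * c⁻¹ = w * u := B.conj_conj hw h1
    have e : τ u = τ w * τ u := by rw [← map_mul, ← hcu]; exact (hconj c u).symm
    exact left_eq_mul.1 (e.trans (mul_comm _ _))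
  set R : Subgroup G := (zpowers (τ z)).comap τ with hR
  haveI hRn : R.Normal := inferInstance
  have hmemR : ∀ x : G, τ x = 1 → x ∈ R := fun x hx => mem_comap.2 (hx ▸ one_mem _)
  have hVR : V H P ≤ R := B.V_eq ▸ sup_le (fun w hw => hmemR w (hτW w hw))
    (zpowers_le.2 (mem_comap.2 (mem_zpowers _)))
  obtain ⟨t, ht, htP, htV, -⟩ := Q.exists_out
  have hPR : P ≤ R := Q.con.setup.le_of_core_le Q.con.ne_bot htP (Q.con.notMem_core htV)
    (Q.con.core_eq_V ▸ hVR) (by simpa [mul_assoc] using hRn.conj_mem _ (hVR (mem_cj.1 ht)) g)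
  have hcP : c ∉ P := fun h => by
    haveI : Fact (Nat.Prime 3) := ⟨Nat.prime_three⟩
    have := Subgroup.orderOf_dvd_natCard P h
    rw [orderOf_eq_prime (p := 3) (by rw [pow_succ, pow_two]; exact B.c3) B.c1, B.cardP] at this
    norm_num at this
  have hHR : H ≤ R := by
    rw [← Q.con.setup.sup_eq B.cH hcP]
    exact sup_le hPR (zpowers_le.2 (hmemR c hτc))
  refine ⟨τ.ker, ?_, fun h => hτz1 (MonoidHom.mem_ker.1 h)⟩
  have hker : τ.ker ≠ ⊥ := fun e => Q.con.setup.notSol (Group.isSolvable_of_comm fun a b =>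
    (MonoidHom.ker_eq_bot_iff _).1 e (by rw [map_mul, map_mul, mul_comm]))
  have htop : (⊤ : Subgroup G) ≤ R := by
    rw [← Q.con.setup.sup_normal hker]
    exact sup_le (fun x hx => hmemR x (MonoidHom.mem_ker.1 hx)) hHR
  have hrange : τ.range = zpowers (τ z) := le_antisymm
    (fun _ ⟨x, hx⟩ => hx ▸ mem_comap.1 (htop (mem_top x))) (zpowers_le.2 ⟨z, rfl⟩)
  rw [index_ker, hrange, Nat.card_zpowers]
  exact orderOf_eq_prime (by rw [pow_two, ← map_mul, B.zz, map_one]) hτz1

end Cfsg.Agent.Lib.Suborbit46
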