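import Cfsg.Agent.Lib.Suborbit46.Kill1
import Cfsg.Agent.Lib.Suborbit46.Formula

/-!
# The core is a `3`-group and `|R ∩ C(v)| = 3`
-/

set_option autoImplicit false
set_option linter.unusedSectionVars false
set_option linter.style.haveILetI false

namespace Cfsg.Agent.Lib.Suborbit46

open Subgroup
open Cfsg.Agent.Lib.SDBlock25.Count (core)

universe u

variable {L : Type u} [Group L] [Finite L]

/-- A group with cyclic Sylow `2`-subgroup of order two: the odd elements form a subgroup of index two. -/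
theorem exists_odd_half {X : Type u} [Group X] [Finite X] (S : Sylow 2 X)
    (hS : Nat.card (S : Subgroup X) = 2) :
    ∃ K : Subgroup X, Nat.card X = 2 * Nat.card K ∧ ∀ a : X, a ∈ K ↔ Odd (orderOf a) := by
  haveI := Fact.mk Nat.prime_two
  have h2 : 2 ∣ Nat.card X := hS ▸ card_subgroup_dvd_card _
  have hmin : (Nat.card X).minFac = 2 := Nat.minFac_eq_two_iff _ |>.2 h2
  haveI hcyc : IsCyclic (S : Subgroup X) := isCyclic_of_prime_card hS
  set φ := MonoidHom.transferSylow S (hcyc.normalizer_le_centralizer hmin)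
  have hKodd : ¬ 2 ∣ Nat.card φ.ker := MonoidHom.not_dvd_card_ker_transferSylow S _
  have hc : φ.ker.IsComplement' (S : Subgroup X) := IsCyclic.isComplement' hmin hcyc
  refine ⟨φ.ker, by rw [← hc.card_mul, hS, mul_comm], fun a => ⟨fun ha => ?_, fun ha => ?_⟩⟩
  · rw [Nat.odd_iff, ← Nat.two_dvd_ne_zero]
    exact fun h => hKodd (h.trans (Subgroup.orderOf_dvd_natCard _ ha))
  · rw [MonoidHom.mem_ker, ← orderOf_eq_one_iff]
    have h1 : orderOf (φ a) ∣ 2 := (_root_.orderOf_dvd_natCard (φ a)).trans (dvd_of_eq hS)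
    exact Nat.eq_one_of_dvd_coprimes (Nat.coprime_two_left.2 ha) h1 (orderOf_map_dvd φ a)

variable {W : Subgroup L} {c z v : L} (D : Duo L W c z v) (hfam : Fam W)

include D hfam

theorem Duo.c_cases {E : Subgroup L} (hE : E ≤ core z) (hne : E ≠ ⊥) :
    Nat.card ↥(Rc E ⊓ Cz v) = 1 ∨ Nat.card ↥(Rc E ⊓ Cz v) = 3 :=
  (Nat.dvd_prime Nat.prime_three).1 (D.card_Rc_v hE hne hfam)

theorem Duo.card_cen' {E : Subgroup L} (hE : E ≤ core z) (hne : E ≠ ⊥) :
    Nat.card (Nc E) ∣ 216 * Nat.card (core z) := by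
  rw [D.card_cen hE hne, D.card_Rc hE hne]
  rcases D.c_cases hfam hE hne with h | h <;> rw [h]
  · exact ⟨9, by ring⟩
  · exact ⟨1, by ring⟩

/-- The order of the core is a power of three. -/
theorem Duo.core_three : ∀ r : ℕ, r.Prime → r ∣ Nat.card (core z) → r = 3 := by
  intro r hr hrk
  by_contra h3
  haveI := Fact.mk hr
  have hr2 : r ≠ 2 := by
    rintro rfl
    exact (SDBlock25.Count.card_core_odd z).not_two_dvd_nat hrk
  obtain ⟨Q₀⟩ : Nonempty (Sylow r (core z)) := inferInstance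
  set Q := (Q₀ : Subgroup (core z)).map (core z).subtype with hQ
  have hQle : Q ≤ core z := map_subtype_le _
  have hQcard : Nat.card Q = r ^ (Nat.card (core z)).factorization r := by
    rw [hQ, card_map_of_injective (subtype_injective _)]
    exact Q₀.card_eq_multiplicity
  set j := (Nat.card (core z)).factorization r with hj
  have hj1 : 1 ≤ j := (Nat.Prime.dvd_iff_one_le_factorization hr Nat.card_pos.ne').1 hrk
  have hQne : Q ≠ ⊥ := fun e => by
    rw [e, card_bot] at hQcard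
    exact absurd hQcard (Nat.one_lt_pow (by omega) hr.one_lt).ne
  have hco : (r ^ 1).Coprime 216 := by
    rw [pow_one, hr.coprime_iff_not_dvd]
    intro h
    have h' : r ∣ 2 ^ 3 * 3 ^ 3 := by norm_num; exact h
    rcases hr.dvd_mul.1 h' with e | e
    · exact hr2 ((Nat.prime_dvd_prime_iff_eq hr Nat.prime_two).1 (hr.dvd_of_dvd_pow e))
    · exact h3 ((Nat.prime_dvd_prime_iff_eq hr Nat.prime_three).1 (hr.dvd_of_dvd_pow e))
  -- `r`-subgroups of centralisers in the core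
  have hbound : ∀ {E P : Subgroup L}, E ≤ core z → E ≠ ⊥ → IsPGroup r P → P ≤ Nc E →
      Nat.card P ∣ r ^ j := by
    intro E P hE hne hP hPN
    obtain ⟨n, hn⟩ := hP.exists_card_eq
    have h := (card_dvd_of_le hPN).trans (D.card_cen' hfam hE hne)
    rw [hn] at h ⊢
    have hk : r ^ n ∣ Nat.card (core z) := by
      refine Nat.Coprime.dvd_of_dvd_mul_left ?_ h
      exact (Nat.coprime_pow_left_iff Nat.one_pos _ _).1 hco |>.pow_left n
    exact pow_dvd_pow r ((Nat.Prime.pow_dvd_iff_le_factorization hr Nat.card_pos.ne').1 hk)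
  obtain ⟨P, hP⟩ := ((Q₀.2.map (core z).subtype : IsPGroup r Q)).exists_le_sylow
  have hPne : Nontrivial (P : Subgroup L) :=
    (Subgroup.nontrivial_iff_ne_bot _).2 (fun e => hQne (le_bot_iff.1 (e ▸ hP)))
  haveI := P.2.center_nontrivial
  obtain ⟨⟨⟨y, hyP⟩, hyc⟩, hy1⟩ := exists_ne (1 : center (P : Subgroup L))
  have hyc' : ∀ p ∈ (P : Subgroup L), p * y = y * p := fun p hp =>
    congrArg Subtype.val (mem_center_iff.1 hyc ⟨p, hp⟩)
  have hyQ : y ∈ Q := by
    have hle : Q ⊔ zpowers y ≤ Nc Q := by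
      refine sup_le (fun q hq => mem_cen.2 fun q' hq' => D.comm_core (hQle hq) (hQle hq')) ?_
      rw [zpowers_le, mem_cen]
      exact fun q hq => (hyc' q (hP hq)).symm
    have h := hbound hQle hQne (P.2.to_le (sup_le hP (zpowers_le.2 hyP))) hle
    rw [← hQcard] at h
    rw [eq_of_le_of_card_ge (le_sup_left : Q ≤ Q ⊔ zpowers y) (Nat.le_of_dvd Nat.card_pos h)]
    exact mem_sup_right (mem_zpowers y)
  have hy1' : y ≠ 1 := fun e => hy1 (Subtype.ext (Subtype.ext e))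
  have hPN : (P : Subgroup L) ≤ Nc (zpowers y) := fun p hp => mem_cen.2 fun e he => by
    obtain ⟨i, rfl⟩ := he
    exact ((show Commute p y from hyc' p hp).zpow_right i).eq
  have h1 := hbound ((zpowers_le.2 (hQle hyQ))) (zpowers_eq_bot.not.2 hy1') P.2 hPN
  have h2 : r ^ (3 * j) ∣ Nat.card (P : Subgroup L) := by
    refine P.pow_dvd_card_of_pow_dvd_card ?_
    have h : r ^ (3 * j) ∣ Nat.card (core z) ^ 3 := by
      rw [mul_comm, pow_mul]
      exact pow_dvd_pow_of_dvd (Nat.ordProj_dvd _ r) 3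
    rcases D.order_formula with e | e <;> rw [e] <;> exact h.mul_left _
  have := (Nat.pow_dvd_pow_iff_le_right hr.one_lt).1 (h2.trans h1)
  omega

variable (hk : 1 < Nat.card (core z))

include hk

theorem Duo.exists_pow : ∃ n : ℕ, Nat.card (core z) = 3 ^ n ∧ 1 ≤ n := by
  have h := Nat.eq_prime_pow_of_unique_prime_dvd (p := 3) Nat.card_pos.ne'
    (fun {d} hd hdk => D.core_three hfam d hd hdk)
  exact ⟨_, h, Nat.one_le_iff_ne_zero.2 fun e => by rw [h, e] at hk; simp at hk⟩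

theorem Duo.three_le : 3 ≤ Nat.card (core z) := by
  obtain ⟨n, hn, h1⟩ := D.exists_pow hfam hk
  rw [hn]
  calc 3 = 3 ^ 1 := rfl
    _ ≤ 3 ^ n := Nat.pow_le_pow_right (by norm_num) h1

/-- A `3`-subgroup in the centraliser of a part of the core. -/
theorem Duo.three_bound {E P : Subgroup L} (hE : E ≤ core z) (hne : E ≠ ⊥) (hP : IsPGroup 3 P)
    (hPN : P ≤ Nc E) : Nat.card P ∣ 3 * Nat.card (core z) * Nat.card ↥(Rc E ⊓ Cz v) ^ 2 := by
  haveI := Fact.mk Nat.prime_three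
  obtain ⟨n, hn⟩ := hP.exists_card_eq
  have h := card_dvd_of_le hPN
  rw [D.card_cen hE hne, D.card_Rc hE hne, hn,
    show 24 * (Nat.card (core z) * Nat.card ↥(Rc E ⊓ Cz v) ^ 2) =
      8 * (3 * Nat.card (core z) * Nat.card ↥(Rc E ⊓ Cz v) ^ 2) by ring] at h
  rw [hn]
  exact ((Nat.Coprime.pow_left n (by norm_num : Nat.Coprime 3 8))).dvd_of_dvd_mul_left h

/-- A Sylow `3`-subgroup is big. -/
theorem Duo.sylow_three (P : Sylow 3 L) :
    9 * Nat.card (core z) ^ 3 ∣ Nat.card (P : Subgroup L) := by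
  haveI := Fact.mk Nat.prime_three
  obtain ⟨n, hn, -⟩ := D.exists_pow hfam hk
  rw [hn, show 9 * (3 ^ n) ^ 3 = 3 ^ (2 + 3 * n) by rw [pow_add, ← pow_mul, mul_comm n]; norm_num]
  refine P.pow_dvd_card_of_pow_dvd_card ?_
  rcases D.order_formula with e | e <;> rw [e, hn, pow_add, ← pow_mul, mul_comm n]
  · exact mul_dvd_mul (by norm_num) dvd_rfl
  · exact mul_dvd_mul (by norm_num) dvd_rfl

/-- The centraliser in `R` of `v` has order three. -/
theorem Duo.card_c : Nat.card ↥(Rc (core z) ⊓ Cz v) = 3 := by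
  haveI := Fact.mk Nat.prime_three
  haveI := Fact.mk Nat.prime_two
  refine (D.c_cases hfam le_rfl ?_).resolve_left fun hc1 => ?_
  · intro e; rw [e, card_bot] at hk; omega
  have hne : core z ≠ ⊥ := fun e => by rw [e, card_bot] at hk; omega
  have h3 := D.three_le hfam hk
  obtain ⟨A, hOA, hAC, hAcard, hAinv, hAcomm⟩ := D.exists_three
  obtain ⟨n, hn, -⟩ := D.exists_pow hfam hk
  have hAP : IsPGroup 3 A := IsPGroup.of_card (n := n + 1) (by rw [hAcard, hn]; ring)
  obtain ⟨P, hP⟩ := hAP.exists_le_sylow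
  have hPne : Nontrivial (P : Subgroup L) :=
    (Subgroup.nontrivial_iff_ne_bot _).2 fun e => hne (le_bot_iff.1 (e ▸ (hOA.trans hP)))
  haveI := P.2.center_nontrivial
  obtain ⟨⟨⟨y, hyP⟩, hyc⟩, hy1⟩ := exists_ne (1 : center (P : Subgroup L))
  have hyc' : ∀ p ∈ (P : Subgroup L), p * y = y * p := fun p hp =>
    congrArg Subtype.val (mem_center_iff.1 hyc ⟨p, hp⟩)
  have hy1' : y ≠ 1 := fun e => hy1 (Subtype.ext (Subtype.ext e))
  have hyA : y ∈ A := by
    have hle : A ⊔ zpowers y ≤ Nc (core z) := by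
      refine sup_le (fun a ha => mem_cen.2 fun o ho => hAcomm a ha o (hOA ho)) ?_
      rw [zpowers_le, mem_cen]
      exact fun o ho => (hyc' o (hP (hOA ho))).symm
    have h := D.three_bound hfam hk le_rfl hne (P.2.to_le (sup_le hP (zpowers_le.2 hyP))) hle
    rw [hc1, one_pow, mul_one, ← hAcard] at h
    rw [eq_of_le_of_card_ge (le_sup_left : A ≤ A ⊔ zpowers y) (Nat.le_of_dvd Nat.card_pos h)]
    exact mem_sup_right (mem_zpowers y)
  have hPbig := D.sylow_three hfam hk P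
  by_cases hyO : y ∈ core z
  · have hPN : (P : Subgroup L) ≤ Nc (zpowers y) := fun p hp => mem_cen.2 fun e he => by
      obtain ⟨i, rfl⟩ := he
      exact ((show Commute p y from hyc' p hp).zpow_right i).eq
    have h := Nat.le_of_dvd (Nat.mul_pos (Nat.mul_pos three_pos Nat.card_pos) (pow_pos Nat.card_pos 2)) (hPbig.trans (D.three_bound hfam hk (zpowers_le.2 hyO)
      (zpowers_eq_bot.not.2 hy1') P.2 hPN))
    have h3' : Nat.card ↥(Rc (zpowers y) ⊓ Cz v) ≤ 3 :=
      Nat.le_of_dvd (by norm_num) (D.card_Rc_v (zpowers_le.2 hyO) (zpowers_eq_bot.not.2 hy1') hfam)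
    nlinarith [Nat.pow_le_pow_left h3' 2, Nat.mul_le_mul h3 h3]
  -- `C(y)` has twice odd order
  have hyz : y * z = z * y := mem_cen1.1 (hAC hyA)
  have hyodd : Odd (orderOf y) := (show Odd (Nat.card A) by
    rw [hAcard]; exact (by decide : Odd 3).mul (SDBlock25.Count.card_core_odd z)).of_dvd_nat
      (Subgroup.orderOf_dvd_natCard _ hyA)
  set Y := Cz y
  set Z : ↥Y := ⟨z, mem_cen1.2 hyz.symm⟩ with hZ
  have hZ2 : orderOf Z = 2 := by
    rw [hZ, Subgroup.orderOf_mk]; exact D.fsd.four.orderOf_eq D.zW D.z1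
  obtain ⟨S₀, hS₀⟩ := (IsPGroup.of_card (p := 2) (n := 1) (by rw [Nat.card_zpowers, hZ2, pow_one]) :
    IsPGroup 2 (zpowers Z)).exists_le_sylow
  have hZS : Z ∈ (S₀ : Subgroup ↥Y) := hS₀ (mem_zpowers Z)
  have hsub : ∀ a ∈ (S₀ : Subgroup ↥Y), a * Z = Z * a → a = 1 ∨ a = Z := by
    intro a ha hc
    obtain ⟨i, hi⟩ := S₀.2 ⟨a, ha⟩
    rcases D.two_comm (g := (a : L)) (x := y) (mem_cen1.2 (congrArg Subtype.val hc))
      ⟨i, by simpa using congrArg Subtype.val (congrArg Subtype.val hi)⟩ (hAC hyA) hyodd hyO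
      (mem_cen1.1 a.2) with e | e
    · exact Or.inl (Subtype.ext e)
    · exact Or.inr (Subtype.ext e)
  haveI : Nontrivial (S₀ : Subgroup ↥Y) := ⟨⟨⟨Z, hZS⟩, 1, fun h => by
    rw [show Z = 1 from congrArg Subtype.val h, orderOf_one] at hZ2; omega⟩⟩
  haveI := S₀.2.center_nontrivial
  obtain ⟨⟨⟨j, hjS⟩, hjc⟩, hj1⟩ := exists_ne (1 : center (S₀ : Subgroup ↥Y))
  have hjZ : j = Z := (hsub j hjS (congrArg Subtype.val (mem_center_iff.1 hjc ⟨Z, hZS⟩)).symm).resolve_left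
    fun e => hj1 (Subtype.ext (Subtype.ext e))
  subst hjZ
  have hS2 : Nat.card (S₀ : Subgroup ↥Y) = 2 := by
    have hset : ((S₀ : Subgroup ↥Y) : Set ↥Y) = {1, Z} := by
      ext a
      constructor
      · intro ha
        simpa using hsub a ha (congrArg Subtype.val (mem_center_iff.1 hjc ⟨a, ha⟩))
      · rintro (e | e) <;> rw [e]
        · exact one_mem _
        · exact hZS
    rw [← SetLike.coe_sort_coe, Nat.card_coe_set_eq, hset, Set.ncard_pair]
    intro e; rw [← e, orderOf_one] at hZ2; omega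
  obtain ⟨K, -, hKmem⟩ := exists_odd_half S₀ hS2
  set A₀ := K.map Y.subtype with hA₀
  have hmem : ∀ a, a ∈ A₀ ↔ a ∈ Y ∧ Odd (orderOf a) := by
    intro a
    constructor
    · rintro ⟨b, hb, rfl⟩
      exact ⟨b.2, by rw [coe_subtype, Subgroup.orderOf_coe]; exact (hKmem b).1 hb⟩
    · rintro ⟨haY, hao⟩
      exact ⟨⟨a, haY⟩, (hKmem _).2 (by rw [Subgroup.orderOf_mk]; exact hao), rfl⟩
  have hA₀odd : Odd (Nat.card A₀) := by
    rw [Nat.odd_iff, ← Nat.two_dvd_ne_zero]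
    intro h
    obtain ⟨⟨a, ha⟩, ha2⟩ := exists_prime_orderOf_dvd_card' (G := A₀) 2 h
    rw [Subgroup.orderOf_mk] at ha2
    exact absurd (ha2 ▸ ((hmem a).1 ha).2) (by decide)
  have hvy : v * y * v⁻¹ = y⁻¹ := hAinv y hyA
  have hinvar : ∀ w, (w * y * w⁻¹ = y ∨ w * y * w⁻¹ = y⁻¹) → ∀ a ∈ A₀, w * a * w⁻¹ ∈ A₀ := by
    intro w hw a ha
    obtain ⟨haY, hao⟩ := (hmem a).1 ha
    refine (hmem _).2 ⟨mem_cen1.2 ?_, by
      rw [show w * a * w⁻¹ = MulAut.conj w a from rfl, MulEquiv.orderOf_eq]; exact hao⟩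
    have hc : Commute (w * a * w⁻¹) (w * y * w⁻¹) := by
      have := (show Commute a y from mem_cen1.1 haY).map (MulAut.conj w)
      simpa using this
    rcases hw with e | e
    · rw [e] at hc; exact hc.eq
    · rw [e] at hc
      have := hc.inv_right
      rw [inv_inv] at this
      exact this.eq
  have hBW := Goldschmidt53.RankTwoBad.brauer_wielandt A₀ hA₀odd D.zz D.vv D.zv_comm
    (hinvar z (Or.inl (by rw [← hyz, mul_inv_cancel_right]))) (hinvar v (Or.inr hvy))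
  have hbot : A₀ ⊓ Cz z ⊓ Cz v = ⊥ := by
    rw [eq_bot_iff]
    intro x hx
    obtain ⟨h12, h3⟩ := mem_inf.1 hx
    obtain ⟨hxA, hxz⟩ := mem_inf.1 h12
    have hxW := D.fsd.four.mem_of_comm D.zW D.vW D.z1 D.v1 D.vz.symm (mem_cen1.1 hxz) (mem_cen1.1 h3)
    rw [mem_bot, ← orderOf_eq_one_iff]
    exact Nat.eq_one_of_dvd_coprimes (Nat.coprime_two_left.2 ((hmem x).1 hxA).2)
      (orderOf_dvd_of_pow_eq_one (by rw [pow_two]; exact D.fsd.four.sq x hxW)) dvd_rfl
  rw [hbot, card_bot, one_pow, mul_one] at hBW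
  have hPA : (P : Subgroup L) ≤ A₀ := fun p hp => (hmem p).2 ⟨mem_cen1.2 (hyc' p hp), by
    obtain ⟨i, hi⟩ := IsPGroup.iff_orderOf.1 P.2 ⟨p, hp⟩
    rw [Subgroup.orderOf_mk] at hi
    rw [hi]; exact (by decide : Odd 3).pow⟩
  have hge : 9 * Nat.card (core z) ^ 3 ≤ Nat.card A₀ :=
    Nat.le_of_dvd Nat.card_pos (hPbig.trans (card_dvd_of_le hPA))
  -- the parts
  have hodd' : ∀ a : L, Odd (Nat.card ↥(A₀ ⊓ Cz a)) := fun a => hA₀odd.of_dvd_nat (card_dvd_of_le inf_le_left)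
  -- one part contains a full core
  have key : ∀ {b d : L}, Duo L W c b d → Nat.card (core b) = Nat.card (core z) →
      Nat.card ↥(A₀ ⊓ Cz b) ≤ Nat.card (core z) ∨ core b ≤ A₀ ∧ Nat.card ↥(A₀ ⊓ Cz b) ≤ 3 * Nat.card (core z) := by
    intro b d Db hb
    obtain ⟨t, ht⟩ := Db.odd_card (A := A₀ ⊓ Cz b) inf_le_right (hodd' b)
    have hd : Nat.card ↥(A₀ ⊓ Cz b ⊓ core b) ∣ Nat.card (core b) := card_dvd_of_le inf_le_right
    by_cases hfull : core b ≤ A₀
    · refine Or.inr ⟨hfull, ?_⟩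
      have h1 : Nat.card ↥(A₀ ⊓ Cz b) ≤ 3 * Nat.card ↥(A₀ ⊓ Cz b ⊓ core b) :=
        Nat.le_of_dvd (Nat.mul_pos three_pos Nat.card_pos) ⟨t, ht⟩
      have := Nat.le_of_dvd Nat.card_pos hd
      omega
    · left
      have hlt : Nat.card ↥(A₀ ⊓ Cz b ⊓ core b) ≠ Nat.card (core b) := fun e => hfull (by
        rw [← eq_of_le_of_card_ge inf_le_right e.ge]
        exact inf_le_left.trans inf_le_left)
      obtain ⟨u, hu⟩ := hd
      have hu1 : u ≠ 1 := fun e => hlt (by rw [hu, e, mul_one])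
      have hu0 : u ≠ 0 := fun e => Nat.card_pos.ne' (hu.trans (by rw [e, mul_zero]))
      have hu2 : u ≠ 2 := fun e => (SDBlock25.Count.card_core_odd b).not_two_dvd_nat ⟨_, by rw [hu, e, mul_comm]⟩
      have h1 : Nat.card ↥(A₀ ⊓ Cz b) ≤ 3 * Nat.card ↥(A₀ ⊓ Cz b ⊓ core b) :=
        Nat.le_of_dvd (Nat.mul_pos three_pos Nat.card_pos) ⟨t, ht⟩
      have h2 : Nat.card ↥(A₀ ⊓ Cz b ⊓ core b) * 3 ≤ Nat.card (core b) :=
        hu ▸ Nat.mul_le_mul_left _ (by omega)
      omega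
  obtain ⟨b, hbW, hb1, hbz, hfull⟩ : ∃ b ∈ W, b ≠ 1 ∧ b ≠ z ∧ core b ≤ A₀ := by
    have hu := D.third
    have ku := key (b := z * v) (d := z) hu.flip hu.card_core_eq
    have kv := key (b := v) (d := z) D.flip D.card_core_eq
    have kz : Nat.card ↥(A₀ ⊓ Cz z) ≤ 3 * Nat.card (core z) := by
      rcases key (b := z) D rfl with h | h
      · omega
      · exact h.2
    rcases kv with hv | ⟨hv, -⟩
    · rcases ku with hu' | ⟨hu', -⟩
      · exfalso
        have hle : Nat.card A₀ ≤ 3 * Nat.card (core z) * Nat.card (core z) * Nat.card (core z) :=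
          hBW ▸ Nat.mul_le_mul (Nat.mul_le_mul kz hv) hu'
        nlinarith [pow_pos (show 0 < Nat.card (core z) by omega) 3]
      · exact ⟨z * v, hu.vW, hu.v1, hu.vz, hu'⟩
    · exact ⟨v, D.vW, D.v1, D.vz, hv⟩
  have Db : Duo L W c b z := ⟨D.fsd, hbW, hb1, D.zW, D.z1, hbz.symm⟩
  have hyb : y ∈ Nc (core b) := mem_cen.2 fun o ho => (mem_cen1.1 ((hmem o).1 (hfull ho)).1).symm
  -- transfer to `z`
  obtain ⟨g, hgN, hg⟩ := D.fsd.four.exists_conj hbW D.zW hb1 D.z1
  set y' := g * y * g⁻¹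
  set v' := g * z * g⁻¹
  have D' : Duo L W c z v' := hg ▸ Db.conj hgN
  have hy'v : y' * v' = v' * y' := by
    calc g * y * g⁻¹ * (g * z * g⁻¹) = g * (y * z) * g⁻¹ := by group
      _ = g * (z * y) * g⁻¹ := by rw [hyz]
      _ = g * z * g⁻¹ * (g * y * g⁻¹) := by group
  have hy'N : y' ∈ Nc (core z) := mem_cen.2 fun o ho => by
    have hz' : g⁻¹ * z * g = b := by rw [← hg]; group
    have hob : g⁻¹ * o * g ∈ core b := by
      have := D.core_conj (g := g⁻¹) ho
      rw [inv_inv, hz'] at this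
      simpa using this
    calc g * y * g⁻¹ * o = g * (y * (g⁻¹ * o * g)) * g⁻¹ := by group
      _ = g * ((g⁻¹ * o * g) * y) * g⁻¹ := by rw [mem_cen.1 hyb _ hob]
      _ = o * (g * y * g⁻¹) := by group
  have hy'o : Odd (orderOf y') := by
    rw [show y' = MulAut.conj g y from rfl, MulEquiv.orderOf_eq]; exact hyodd
  have hy'R := D'.odd_mem_Rc le_rfl hne hy'N hy'o hy'v
  have hv' : Nat.card ↥(Rc (core z) ⊓ Cz v') = 1 := by
    rcases D.fsd.four.cases D.zW D.vW D.z1 D.v1 D.vz.symm D'.vW with e | e | e | e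
    · exact absurd e D'.v1
    · exact absurd e D'.vz
    · rw [e]; exact hc1
    · rw [e, D.card_Rc_swap le_rfl hne]; exact hc1
  have hbot' := (Subgroup.card_eq_one).1 hv'
  have hy'1 : y' = 1 := by
    rw [← mem_bot, ← hbot']
    exact ⟨hy'R, mem_cen1.2 hy'v⟩
  exact hy1' (by simpa [y', mul_assoc] using congrArg (fun t => g⁻¹ * t * g) hy'1)

end Cfsg.Agent.Lib.Suborbit46
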