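import Cfsg.Agent.Lib.Suborbit46.Kill2

/-!
# The core is trivial
-/

set_option autoImplicit false
set_option linter.unusedSectionVars false
set_option linter.style.haveILetI false

namespace Cfsg.Agent.Lib.Suborbit46

open Subgroup
open Cfsg.Agent.Lib.SDBlock25.Count (core)

universe u

variable {L : Type u} [Group L] [Finite L]

theorem odd_of_mem {A : Subgroup L} (hA : Odd (Nat.card A)) {a : L} (ha : a ∈ A) : Odd (orderOf a) :=
  hA.of_dvd_nat (Subgroup.orderOf_dvd_natCard _ ha)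

theorem eq_of_card_three {A : Subgroup L} (hA : Nat.card A = 3) {a : L} (ha : a ∈ A) (h1 : a ≠ 1) :
    zpowers a = A := by
  haveI := Fact.mk Nat.prime_three
  refine eq_of_le_of_card_ge (zpowers_le.2 ha) ?_
  rw [hA, Nat.card_zpowers]
  have h := Subgroup.orderOf_dvd_natCard A ha
  rw [hA] at h
  rcases (Nat.dvd_prime Nat.prime_three).1 h with e | e
  · exact absurd (orderOf_eq_one_iff.1 e) h1
  · omega

variable {W : Subgroup L} {c z v : L} (D : Duo L W c z v) (hfam : Fam W)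
  (hk : 1 < Nat.card (core z))

include D

/-- An element of odd order normalising `E` centralises it. -/
theorem Duo.norm_odd {E : Subgroup L} (hE : E ≤ core z) (hne : E ≠ ⊥) {g : L}
    (hg : ∀ e ∈ E, g * e * g⁻¹ ∈ E) (hg' : ∀ e ∈ E, g⁻¹ * e * g ∈ E) (ho : Odd (orderOf g)) :
    g ∈ Nc E := by
  have hjN : g * z * g⁻¹ ∈ Nc E := mem_cen.2 fun e he => by
    calc g * z * g⁻¹ * e = g * (z * (g⁻¹ * e * g)) * g⁻¹ := by group
      _ = g * ((g⁻¹ * e * g) * z) * g⁻¹ := by rw [mem_cen.1 (D.z_cen hE) _ (hg' e he)]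
      _ = e * (g * z * g⁻¹) := by group
  set j := g * z * g⁻¹ with hj
  have hjj : j * j = 1 := by
    rw [hj, show g * z * g⁻¹ * (g * z * g⁻¹) = g * (z * z) * g⁻¹ by group, D.zz]; group
  have hj1 : j ≠ 1 := fun e => D.z1 (by simpa [hj, mul_assoc] using congrArg (fun t => g⁻¹ * t * g) e)
  obtain ⟨r, hr, hn⟩ := D.isolated hE hne j hjN
  obtain ⟨π, hs, hk', hz, hv⟩ := D.exists_pi
  obtain ⟨e, he, he1⟩ := (bot_or_exists_ne_one E).resolve_left hne
  set n := r⁻¹ * j with hn'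
  have hnN : n ∈ Nc E := mul_mem (inv_mem (Rc_le E hr)) hjN
  set N' : ↥(Cz z) := ⟨n, hn⟩
  have hd : GL23.det4 (GL23.q4 (π N')) = 1 := by
    by_contra h
    have := (D.det_cases hs hk' hv N').2 h e (hE he)
    change n * e * n⁻¹ = e⁻¹ at this
    rw [mem_cen.1 hnN e he, mul_inv_cancel_right] at this
    exact he1 (D.core_eq_one (hE he) this.symm)
  have hn2 : n * n ∈ Rc E := by
    have e1 : n * n = r⁻¹ * (j * r⁻¹ * j⁻¹) * (j * j) := by rw [hn']; group
    rw [e1, hjj, mul_one]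
    exact mul_mem (inv_mem hr) (Rc_conj (fun e he => by rw [mem_cen.1 hjN e he, mul_inv_cancel_right]; exact he)
      (fun e he => by rw [mul_assoc, ← mem_cen.1 hjN e he, inv_mul_cancel_left]; exact he) (inv_mem hr))
  have hπ2 : π (N' * N') = 1 := by
    refine MonoidHom.mem_ker.1 (hk' ▸ (D.mem_core (a := N' * N')).1 ?_)
    exact D.Rc_inf hE ⟨hn2, (N' * N').2⟩
  obtain ⟨r', hr', hjr⟩ : ∃ r' ∈ Rc E, j = z * r' := by
    rcases GL23.sq_refl_or _ hd (by rw [← GL23.q4_mul, ← map_mul, hπ2, GL23.q4_one]) with h | h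
    · exfalso
      rw [← GL23.q4_one] at h
      have hnR : n ∈ Rc E := D.core_le_Rc hE hne
        ((D.mem_core (a := N')).2 (hk' ▸ MonoidHom.mem_ker.2 (GL23.q4_injective h)))
      have hjR : j ∈ Rc E := by
        have := mul_mem hr hnR
        rwa [hn', mul_inv_cancel_left] at this
      have := odd_of_mem (card_Rc_odd E) hjR
      rw [orderOf_eq_prime (p := 2) (by rw [pow_two]; exact hjj) hj1] at this
      exact absurd this (by decide)
    · rw [← hz D.z_mem] at h
      have hπ := GL23.q4_injective h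
      have ho' : (z * n : L) ∈ Rc E := D.core_le_Rc hE hne ((D.mem_core (a := ⟨z, D.z_mem⟩ * N')).2 (by
        rw [← hk', MonoidHom.mem_ker, map_mul, hπ, ← map_mul, ← map_one π]
        exact congrArg π (Subtype.ext D.zz)))
      refine ⟨z * r * z⁻¹ * (z * n), mul_mem (D.norm_Rc hE D.z_mem hr) ho', ?_⟩
      rw [D.fsd.four.inv D.zW, hn']
      simp only [mul_assoc]
      rw [← mul_assoc z z (r⁻¹ * j), D.zz, one_mul, mul_inv_cancel_left, ← mul_assoc, D.zz, one_mul]
  -- `z` and `j` are conjugate by an element of `R`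
  obtain ⟨m, hm⟩ := card_Rc_odd E
  set r₁ := r' ^ (m + 1) with hr₁
  have hr₁R : r₁ ∈ Rc E := pow_mem hr' _
  have hzr : z * r' * z⁻¹ = r'⁻¹ := by
    rw [D.fsd.four.inv D.zW]
    refine eq_inv_of_mul_eq_one_left ?_
    rw [mul_assoc (z * r'), ← hjr, hjj]
  have hr₁2 : r₁ * r₁ = r' := by
    have h1 : r' ^ (2 * m + 1) = 1 := by
      rw [← hm]; exact orderOf_dvd_iff_pow_eq_one.1 (Subgroup.orderOf_dvd_natCard _ hr')
    rw [hr₁, ← pow_add, show m + 1 + (m + 1) = 2 * m + 1 + 1 by omega, pow_succ, h1, one_mul]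
  have hzr₁ : z * r₁ * z⁻¹ = r₁⁻¹ := by rw [hr₁, ← conj_pow, hzr, inv_pow]
  have hconj : r₁⁻¹ * z * r₁ = j := by
    rw [hjr, ← hr₁2, ← hzr₁]
    simp [mul_assoc]
  set h := r₁ * g with hh
  have hhC : h ∈ Cz z := by
    rw [mem_cen1]
    refine mul_inv_eq_iff_eq_mul.1 ?_
    calc h * z * h⁻¹ = r₁ * (g * z * g⁻¹) * r₁⁻¹ := by rw [hh]; group
      _ = r₁ * (r₁⁻¹ * z * r₁) * r₁⁻¹ := by rw [hconj, hj]
      _ = z := by group
  have hr₁N := Rc_le E hr₁R
  have hgh : ∀ e ∈ E, g * e * g⁻¹ = h * e * h⁻¹ := fun e he => by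
    rw [hh, show r₁ * g * e * (r₁ * g)⁻¹ = r₁ * (g * e * g⁻¹) * r₁⁻¹ by group,
      mem_cen.1 hr₁N _ (hg e he), mul_inv_cancel_right]
  have hg2 : g ^ 2 ∈ Nc E := mem_cen.2 fun x hx => by
    refine mul_inv_eq_iff_eq_mul.1 ?_
    calc g ^ 2 * x * (g ^ 2)⁻¹ = g * (g * x * g⁻¹) * g⁻¹ := by rw [pow_two]; group
      _ = x := by
        rw [hgh _ (hg x hx), hgh x hx]
        rcases D.dicho hhC with hd | hd
        · rw [hd x (hE hx), hd x (hE hx)]
        · rw [hd x (hE hx), hd _ (inv_mem (hE hx)), inv_inv]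
  obtain ⟨i, hi⟩ := ho
  have e2 : g = (g ^ 2) ^ (i + 1) := by
    rw [← pow_mul, show 2 * (i + 1) = orderOf g + 1 by omega, pow_succ, pow_orderOf_eq_one, one_mul]
  rw [e2]
  exact pow_mem hg2 _

include hk

theorem Duo.core_ne_bot : core z ≠ ⊥ := fun e => by rw [e, card_bot] at hk; omega

include hfam

theorem Duo.card_cu : Nat.card ↥(Rc (core z) ⊓ Cz (z * v)) = 3 := by
  rw [D.card_Rc_swap le_rfl (D.core_ne_bot hk)]; exact D.card_c hfam hk

theorem Duo.R_le : Rc (core z) ≤ core z ⊔ (Rc (core z) ⊓ Cz v) ⊔ (Rc (core z) ⊓ Cz (z * v)) := by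
  set R := Rc (core z)
  have hne := D.core_ne_bot hk
  set K := core z ⊔ (R ⊓ Cz v) ⊔ (R ⊓ Cz (z * v)) with hK
  have hKR : K ≤ R := sup_le (sup_le (D.core_le_Rc le_rfl hne) inf_le_left) inf_le_left
  have hinv : ∀ w ∈ W, ∀ a ∈ K, w * a * w⁻¹ ∈ K := by
    intro w hw
    have hwC : ∀ b ∈ W, w ∈ Cz b := fun b hb => mem_cen1.2 (D.fsd.four.comm hw hb)
    have hle : K ≤ K.comap (MulAut.conj w).toMonoidHom := by
      refine sup_le (sup_le ?_ ?_) ?_
      · intro o ho
        exact mem_sup_left (mem_sup_left (D.conj_core (hwC z D.zW) ho))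
      · intro o ho
        exact mem_sup_left (mem_sup_right (mem_inf.2 ⟨D.norm_Rc le_rfl (hwC z D.zW) (mem_inf.1 ho).1,
          mul_mem (mul_mem (hwC v D.vW) (mem_inf.1 ho).2) (inv_mem (hwC v D.vW))⟩))
      · intro o ho
        exact mem_sup_right (mem_inf.2 ⟨D.norm_Rc le_rfl (hwC z D.zW) (mem_inf.1 ho).1,
          mul_mem (mul_mem (hwC _ D.third.vW) (mem_inf.1 ho).2) (inv_mem (hwC _ D.third.vW))⟩)
    exact fun a ha => hle ha
  have hKodd : Odd (Nat.card K) := (card_Rc_odd _).of_dvd_nat (card_dvd_of_le hKR)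
  have h := Goldschmidt53.RankTwoBad.brauer_wielandt K hKodd D.zz D.vv D.zv_comm (hinv z D.zW) (hinv v D.vW)
  have hbot : K ⊓ Cz z ⊓ Cz v = ⊥ := by
    rw [eq_bot_iff]
    intro x hx
    obtain ⟨h12, h3⟩ := mem_inf.1 hx
    have hxo := D.Rc_inf le_rfl ⟨hKR (mem_inf.1 h12).1, (mem_inf.1 h12).2⟩
    refine D.core_eq_one hxo ?_
    rw [← D.inverts hxo, ← mem_cen1.1 h3, mul_inv_cancel_right]
  rw [hbot, card_bot, one_pow, mul_one] at h
  have e1 : K ⊓ Cz z = core z := le_antisymm ((inf_le_inf_right _ hKR).trans (D.Rc_inf le_rfl))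
    (le_inf (le_sup_left.trans le_sup_left) D.core_le)
  have e2 : K ⊓ Cz v = R ⊓ Cz v := le_antisymm (inf_le_inf_right _ hKR)
    (le_inf (le_sup_right.trans le_sup_left) inf_le_right)
  have e3 : K ⊓ Cz (z * v) = R ⊓ Cz (z * v) := le_antisymm (inf_le_inf_right _ hKR)
    (le_inf le_sup_right inf_le_right)
  rw [e1, e2, e3, D.card_Rc_swap le_rfl hne, mul_assoc, ← pow_two, ← D.card_Rc le_rfl hne] at h
  exact (eq_of_le_of_card_ge hKR h.ge).ge

/-- No element of `C(z)` of odd order outside the core commutes with both components. -/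
theorem Duo.no_cent {x : L} (hx : x ∈ Cz z) (ho : Odd (orderOf x))
    (hv : ∀ a ∈ Rc (core z) ⊓ Cz v, x * a = a * x)
    (hu : ∀ a ∈ Rc (core z) ⊓ Cz (z * v), x * a = a * x) : x ∈ core z := by
  set R := Rc (core z) with hR
  by_contra hxc
  have hxR : x ∈ Nc R := by
    have hle : R ≤ centralizer ({x} : Set L) := (D.R_le hfam hk).trans (sup_le (sup_le
      (fun o ho' => mem_cen1.2 (D.odd_fix hx ho ho').symm) (fun a ha => mem_cen1.2 (hv a ha).symm))
      (fun a ha => mem_cen1.2 (hu a ha).symm))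
    exact mem_cen.2 fun a ha => (mem_cen1.1 (hle ha)).symm
  have hzR : z ∈ Nc R := by
    refine D.normal_gen (fun g hg a ha => mem_cen.2 fun r hr => ?_) hxR hx ho hxc
    have h1 := D.norm_Rc le_rfl (inv_mem hg) hr
    rw [inv_inv] at h1
    calc g * a * g⁻¹ * r = g * (a * (g⁻¹ * r * g)) * g⁻¹ := by group
      _ = g * ((g⁻¹ * r * g) * a) * g⁻¹ := by rw [mem_cen.1 ha _ h1]
      _ = r * (g * a * g⁻¹) := by group
  obtain ⟨y, hy, hy1⟩ := (bot_or_exists_ne_one (R ⊓ Cz v)).resolve_left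
    (fun e => by
      have := D.card_c hfam hk
      rw [← hR, e, card_bot] at this
      omega)
  have hyo := D.Rc_inf le_rfl ⟨(mem_inf.1 hy).1, mem_cen1.2 (mem_cen.1 hzR y (mem_inf.1 hy).1).symm⟩
  refine hy1 (D.core_eq_one hyo ?_)
  rw [← D.inverts hyo, ← mem_cen1.1 (mem_inf.1 hy).2, mul_inv_cancel_right]

/-- The two components commute. -/
theorem Duo.comm_parts {a b : L} (ha : a ∈ Rc (core z) ⊓ Cz v)
    (hb : b ∈ Rc (core z) ⊓ Cz (z * v)) : a * b = b * a := by
  haveI := Fact.mk Nat.prime_three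
  have hne := D.core_ne_bot hk
  obtain ⟨n, hn, hn1⟩ := D.exists_pow hfam hk
  set R := Rc (core z) with hR
  have hRc : Nat.card R = 9 * Nat.card (core z) := by
    rw [hR, D.card_Rc le_rfl hne, D.card_c hfam hk]; ring
  obtain ⟨A, hOA, hAC, hAcard, hAinv, hAcomm⟩ := D.exists_three
  have hAN : A ≤ Nc (core z) := fun x hx => mem_cen.2 fun o ho => hAcomm x hx o (hOA ho)
  have hAnorm : A ≤ normalizer (R : Set L) := by
    intro g hg
    refine mem_normalizer_iff.2 fun r => ⟨fun hr => D.norm_Rc le_rfl (hAC hg) hr, fun hr => ?_⟩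
    have := D.norm_Rc le_rfl (inv_mem (hAC hg)) hr
    simpa [mul_assoc] using this
  set U := A ⊔ R with hU
  have hcardU : Nat.card U = 27 * Nat.card (core z) := by
    have h := card_sup_inf hAnorm
    have e : A ⊓ R = core z := le_antisymm
      (fun x hx => D.Rc_inf le_rfl ⟨(mem_inf.1 hx).2, hAC (mem_inf.1 hx).1⟩)
      (le_inf hOA (D.core_le_Rc le_rfl hne))
    rw [e, hAcard, hRc] at h
    exact Nat.eq_of_mul_eq_mul_right Nat.card_pos (h.trans (by ring))
  have hUN : U ≤ Nc (core z) := sup_le hAN (Rc_le _)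
  have hUP : IsPGroup 3 U := IsPGroup.of_card (n := 3 + n) (by rw [hcardU, hn, pow_add]; norm_num)
  obtain ⟨P, hP⟩ := hUP.exists_le_sylow
  have hk3 := D.three_le hfam hk
  have hproper : U.subgroupOf (P : Subgroup L) < ⊤ := by
    refine lt_top_iff_ne_top.2 fun e => ?_
    have h1 := Nat.le_of_dvd Nat.card_pos (D.sylow_three hfam hk P)
    have hPU : (P : Subgroup L) ≤ U := subgroupOf_eq_top.1 e
    have h2 := card_le_of_le hPU
    nlinarith [Nat.mul_le_mul hk3 hk3]
  haveI : Group.IsNilpotent (P : Subgroup L) := P.2.isNilpotent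
  obtain ⟨⟨g, hgP⟩, hgn, hgU⟩ := SetLike.exists_of_lt (normalizerCondition_of_isNilpotent _ hproper)
  have hgU' : g ∉ U := fun h => hgU (mem_subgroupOf.2 h)
  have hgnorm : ∀ u ∈ U, g * u * g⁻¹ ∈ U ∧ g⁻¹ * u * g ∈ U := fun u hu => by
    refine ⟨mem_subgroupOf.1 ((mem_normalizer_iff.1 hgn ⟨u, hP hu⟩).1 (mem_subgroupOf.2 hu)), ?_⟩
    exact mem_subgroupOf.1 ((mem_normalizer_iff''.1 hgn ⟨u, hP hu⟩).1 (mem_subgroupOf.2 hu))
  have hgodd : Odd (orderOf g) := by
    obtain ⟨i, hi⟩ := IsPGroup.iff_orderOf.1 P.2 ⟨g, hgP⟩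
    rw [Subgroup.orderOf_mk] at hi
    rw [hi]; exact (by decide : Odd 3).pow
  set E := (center U).map U.subtype with hE
  have hmemE : ∀ e, e ∈ E ↔ e ∈ U ∧ ∀ u ∈ U, u * e = e * u := by
    intro e
    constructor
    · rintro ⟨e', he', rfl⟩
      exact ⟨e'.2, fun u hu => congrArg Subtype.val (mem_center_iff.1 he' ⟨u, hu⟩)⟩
    · rintro ⟨heU, hec⟩
      exact ⟨⟨e, heU⟩, mem_center_iff.2 fun u => Subtype.ext (hec u u.2), rfl⟩
  have hEne : E ≠ ⊥ := by
    haveI : Nontrivial U := (Subgroup.nontrivial_iff_ne_bot _).2 fun e =>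
      hne (le_bot_iff.1 (e ▸ (hOA.trans le_sup_left)))
    haveI := hUP.center_nontrivial
    rw [hE, Ne, Subgroup.map_eq_bot_iff_of_injective _ (subtype_injective _),
      ← Ne, ← Subgroup.nontrivial_iff_ne_bot]
    infer_instance
  have hgE : ∀ x, (∀ u ∈ U, x * u * x⁻¹ ∈ U ∧ x⁻¹ * u * x ∈ U) → ∀ e ∈ E, x * e * x⁻¹ ∈ E := by
    intro x hx e he
    obtain ⟨heU, hec⟩ := (hmemE e).1 he
    refine (hmemE _).2 ⟨(hx e heU).1, fun u hu => ?_⟩
    calc u * (x * e * x⁻¹) = x * ((x⁻¹ * u * x) * e) * x⁻¹ := by group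
      _ = x * (e * (x⁻¹ * u * x)) * x⁻¹ := by rw [hec _ (hx u hu).2]
      _ = x * e * x⁻¹ * u := by group
  -- the centre is not inside the core
  obtain ⟨e, heE, hec⟩ : ∃ e ∈ E, e ∉ core z := by
    by_contra! hall
    have hgN : g ∈ Nc E := D.norm_odd hall hEne (fun e he => hgE g hgnorm e he)
      (fun e he => by
        have := hgE g⁻¹ (fun u hu => by rw [inv_inv]; exact (hgnorm u hu).symm) e he
        rwa [inv_inv] at this) hgodd
    have hle : U ⊔ zpowers g ≤ Nc E := sup_le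
      (fun u hu => mem_cen.2 fun e he => ((hmemE e).1 he).2 u hu) (zpowers_le.2 hgN)
    have hX : IsPGroup 3 ↥(U ⊔ zpowers g) := P.2.to_le (sup_le hP (zpowers_le.2 hgP))
    have h := Nat.le_of_dvd (Nat.mul_pos (Nat.mul_pos three_pos Nat.card_pos) (pow_pos Nat.card_pos 2))
      (D.three_bound hfam hk hall hEne hX hle)
    have hc := Nat.le_of_dvd (by norm_num) (D.card_Rc_v hall hEne hfam)
    have hlt : Nat.card U < Nat.card ↥(U ⊔ zpowers g) := by
      refine lt_of_le_of_ne (card_le_of_le le_sup_left) fun e => hgU' ?_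
      rw [eq_of_le_of_card_ge (le_sup_left : U ≤ U ⊔ zpowers g) e.ge]
      exact mem_sup_right (mem_zpowers g)
    nlinarith [Nat.pow_le_pow_left hc 2]
  have hUW : ∀ w ∈ W, ∀ u ∈ U, w * u * w⁻¹ ∈ U := by
    intro w hw
    have hwC : w ∈ Cz z := mem_cen1.2 (D.fsd.four.comm hw D.zW)
    have hle : U ≤ U.comap (MulAut.conj w).toMonoidHom := by
      refine sup_le ?_ (fun r hr => mem_sup_right (D.norm_Rc le_rfl hwC hr))
      intro x hx
      refine mem_sup_left ?_
      have hz' : z * x * z⁻¹ = x := by rw [← mem_cen1.1 (hAC hx), mul_inv_cancel_right]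
      rcases D.fsd.four.cases D.zW D.vW D.z1 D.v1 D.vz.symm hw with rfl | rfl | rfl | rfl
      · simpa using hx
      · show w * x * w⁻¹ ∈ A
        rw [hz']; exact hx
      · show w * x * w⁻¹ ∈ A
        rw [hAinv x hx]; exact inv_mem hx
      · show z * v * x * (z * v)⁻¹ ∈ A
        rw [show z * v * x * (z * v)⁻¹ = z * (v * x * v⁻¹) * z⁻¹ by group, hAinv x hx,
          show z * x⁻¹ * z⁻¹ = (z * x * z⁻¹)⁻¹ by group, hz']
        exact inv_mem hx
    exact fun u hu => hle hu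
  have hEodd : Odd (Nat.card E) := by
    have h : Nat.card E ∣ Nat.card U := card_dvd_of_le (map_subtype_le _)
    exact (show Odd (Nat.card U) by
      rw [hcardU]; exact (by decide : Odd 27).mul (SDBlock25.Count.card_core_odd z)).of_dvd_nat h
  have hEW : ∀ w ∈ W, ∀ e ∈ E, w * e * w⁻¹ ∈ E := fun w hw =>
    hgE w fun u hu => ⟨hUW w hw u hu, by
      have := hUW w⁻¹ (inv_mem hw) u hu
      rwa [inv_inv] at this⟩
  -- a non-trivial component in the centre
  have hcomp : E ⊓ Cz v ≠ ⊥ ∨ E ⊓ Cz (z * v) ≠ ⊥ := by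
    by_contra! hbot
    have h := Goldschmidt53.RankTwoBad.brauer_wielandt E hEodd D.zz D.vv D.zv_comm (hEW z D.zW) (hEW v D.vW)
    rw [show E ⊓ centralizer ({z} : Set L) ⊓ centralizer ({v} : Set L) = ⊥ from
      le_bot_iff.1 (hbot.1 ▸ le_inf (inf_le_left.trans inf_le_left) inf_le_right)] at h
    rw [show E ⊓ centralizer ({v} : Set L) = ⊥ from hbot.1,
      show E ⊓ centralizer ({z * v} : Set L) = ⊥ from hbot.2, card_bot, one_pow, mul_one, mul_one,
      mul_one] at h
    have hEz : E ≤ Cz z := inf_eq_left.1 (eq_of_le_of_card_ge inf_le_left h.le)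
    refine hec (D.no_cent hfam hk (hEz heE) (odd_of_mem hEodd heE) ?_ ?_) <;>
      exact fun r hr => (((hmemE e).1 heE).2 r (mem_sup_right (mem_inf.1 hr).1)).symm
  rcases hcomp with h | h
  · obtain ⟨d, hd, hd1⟩ := (bot_or_exists_ne_one _).resolve_left h
    have hdR : d ∈ R := D.odd_mem_Rc le_rfl hne (hUN ((hmemE d).1 (mem_inf.1 hd).1).1)
      (odd_of_mem hEodd (mem_inf.1 hd).1) (mem_cen1.1 (mem_inf.1 hd).2)
    rw [← eq_of_card_three (D.card_c hfam hk) (mem_inf.2 ⟨hdR, (mem_inf.1 hd).2⟩) hd1] at ha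
    obtain ⟨i, rfl⟩ := ha
    exact ((show Commute d b from
      (((hmemE d).1 (mem_inf.1 hd).1).2 b (mem_sup_right (mem_inf.1 hb).1)).symm).zpow_left i).eq
  · obtain ⟨d, hd, hd1⟩ := (bot_or_exists_ne_one _).resolve_left h
    have hdR : d ∈ R := D.third.odd_mem_Rc le_rfl hne (hUN ((hmemE d).1 (mem_inf.1 hd).1).1)
      (odd_of_mem hEodd (mem_inf.1 hd).1) (mem_cen1.1 (mem_inf.1 hd).2)
    rw [← eq_of_card_three (D.card_cu hfam hk) (mem_inf.2 ⟨hdR, (mem_inf.1 hd).2⟩) hd1] at hb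
    obtain ⟨i, rfl⟩ := hb
    exact ((show Commute a d from
      ((hmemE d).1 (mem_inf.1 hd).1).2 a (mem_sup_right (mem_inf.1 ha).1)).zpow_right i).eq

omit hk in
/-- `T` containing all three cores and centralising an element forces it to be trivial. -/
theorem Duo.eq_one_of_cores (hk : 1 < Nat.card (core z)) {x : L} (hz : ∀ o ∈ core z, o * x = x * o)
    (hv : ∀ o ∈ core v, o * x = x * o) (hu : ∀ o ∈ core (z * v), o * x = x * o) : x = 1 := by
  by_contra hx
  have htop := hfam z D.zW D.z1 (core z) le_rfl (D.core_ne_bot hk) (Cz x) fun h hh e he => by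
    have hc := D.core_conj (g := h) he
    have hzW := D.fsd.four.cj_mem hh D.zW
    rcases D.fsd.four.cases D.zW D.vW D.z1 D.v1 D.vz.symm hzW with e' | e' | e' | e' <;> rw [e'] at hc
    · exact absurd (by simpa [mul_assoc] using congrArg (fun t => h⁻¹ * t * h) e') D.z1
    · exact mem_cen1.2 (hz _ hc)
    · exact mem_cen1.2 (hv _ hc)
    · exact mem_cen1.2 (hu _ hc)
  haveI := D.fsd.four.simple
  have hxc : x ∈ center L := mem_center_iff.2 fun g =>
    mem_cen1.1 (show g ∈ Cz x by rw [htop]; exact mem_top g)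
  rcases (inferInstance : (center L).Normal).eq_bot_or_eq_top with h | h
  · rw [h, mem_bot] at hxc; exact hx hxc
  · exact D.fsd.four.nc fun a b => (mem_center_iff.1 (h ▸ mem_top b) a)

/-- The elements centralising two cores commute. -/
theorem Duo.double_comm {a b : L} (ha : a ∈ Nc (core z) ⊓ Nc (core v))
    (hb : b ∈ Nc (core z) ⊓ Nc (core v)) : a * b = b * a := by
  haveI := Fact.mk Nat.prime_two
  have hne := D.core_ne_bot hk
  have hkv : 1 < Nat.card (core v) := by rw [D.card_core_eq]; exact hk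
  have hnev := D.flip.core_ne_bot hkv
  set M := Nc (core z) ⊓ Nc (core v) with hM
  have hMW : ∀ w ∈ W, ∀ m ∈ M, w * m * w⁻¹ ∈ M := by
    intro w hw m hm
    have key : ∀ {p q : L}, Duo L W c p q → m ∈ Nc (core p) → w * m * w⁻¹ ∈ Nc (core p) := by
      intro p q Dp hmp
      have hwC : w ∈ Cz p := mem_cen1.2 (D.fsd.four.comm hw Dp.zW)
      refine mem_cen.2 fun o ho => ?_
      have h1 := Dp.conj_core (inv_mem hwC) ho
      rw [inv_inv] at h1
      calc w * m * w⁻¹ * o = w * (m * (w⁻¹ * o * w)) * w⁻¹ := by group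
        _ = w * ((w⁻¹ * o * w) * m) * w⁻¹ := by rw [mem_cen.1 hmp _ h1]
        _ = o * (w * m * w⁻¹) := by group
    exact ⟨key D (mem_inf.1 hm).1, key D.flip (mem_inf.1 hm).2⟩
  have hMnorm : ∀ w ∈ W, ∀ m : M, w * (m : L) * w⁻¹ ∈ M := fun w hw m => hMW w hw m m.2
  have hodd : Odd (Nat.card M) := by
    by_contra hev
    rw [Nat.not_odd_iff_even, even_iff_two_dvd] at hev
    -- an involution fixed by `W`
    let Inv := {m : M // (m : L) * m = 1}
    have hInv : 2 ∣ Nat.card Inv := by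
      classical
      haveI := Fintype.ofFinite M
      let f : Function.End M := fun m => m⁻¹
      have hf : f ^ 2 ^ 1 = 1 := by
        funext m
        show f (f m) = m
        exact inv_inv m
      have h := Equiv.Perm.card_fixedPoints_modEq (p := 2) hf
      rw [← Nat.card_eq_fintype_card, ← Nat.card_eq_fintype_card] at h
      have e : Nat.card f.fixedPoints = Nat.card Inv := Nat.card_congr (Equiv.subtypeEquivRight fun m => by
        show m⁻¹ = m ↔ _
        rw [inv_eq_iff_mul_eq_one]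
        exact ⟨fun h => congrArg Subtype.val h, fun h => Subtype.ext h⟩)
      rw [e] at h
      exact (Nat.ModEq.dvd_iff h dvd_rfl).1 hev
    letI : MulAction W Inv :=
      { smul := fun w m => ⟨⟨(w : L) * (m.1 : L) * (w : L)⁻¹, hMnorm w w.2 m.1⟩, by
          show (w : L) * (m.1 : L) * (w : L)⁻¹ * ((w : L) * (m.1 : L) * (w : L)⁻¹) = 1
          rw [show (w : L) * (m.1 : L) * (w : L)⁻¹ * ((w : L) * (m.1 : L) * (w : L)⁻¹) =
            (w : L) * ((m.1 : L) * m.1) * (w : L)⁻¹ by group, m.2]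
          group⟩
        one_smul := fun m => Subtype.ext (Subtype.ext (by
          show ((1 : W) : L) * (m.1 : L) * ((1 : W) : L)⁻¹ = _
          simp))
        mul_smul := fun x y m => Subtype.ext (Subtype.ext (by
          show ((x * y : W) : L) * (m.1 : L) * ((x * y : W) : L)⁻¹ =
            (x : L) * ((y : L) * (m.1 : L) * (y : L)⁻¹) * (x : L)⁻¹
          rw [Subgroup.coe_mul]; group)) }
    have hW2 : IsPGroup 2 W := IsPGroup.of_card (n := 2) (by rw [D.fsd.four.card]; norm_num)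
    have h1 : (⟨1, by simp⟩ : Inv) ∈ MulAction.fixedPoints W Inv := fun w => Subtype.ext (Subtype.ext (by
      show (w : L) * ((1 : M) : L) * (w : L)⁻¹ = _
      simp))
    obtain ⟨⟨⟨j, hjM⟩, hjj⟩, hfix, hne1⟩ :=
      hW2.exists_fixed_point_of_prime_dvd_card_of_fixed_point Inv hInv h1
    have hj1 : j ≠ 1 := fun e => hne1 (Subtype.ext (Subtype.ext e.symm))
    have hjW : j ∈ W := D.fsd.four.cent.le (mem_cen.2 fun w hw => by
      have h := congrArg (fun m : Inv => ((m.1 : M) : L)) (hfix ⟨w, hw⟩)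
      change w * j * w⁻¹ = j at h
      exact (mul_inv_eq_iff_eq_mul.1 h).symm)
    have hno : ∀ {p q : L}, Duo L W c p q → core p ≠ ⊥ → q ∉ Nc (core p) := fun {p q} Dp hp hq => by
      obtain ⟨o, ho, ho1⟩ := (bot_or_exists_ne_one _).resolve_left hp
      refine ho1 (Dp.core_eq_one ho ?_)
      rw [← Dp.inverts ho, mem_cen.1 hq o ho, mul_inv_cancel_right]
    rcases D.fsd.four.cases D.zW D.vW D.z1 D.v1 D.vz.symm hjW with e | e | e | e
    · exact hj1 e
    · exact hno D.flip hnev (e ▸ (mem_inf.1 hjM).2)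
    · exact hno D hne (e ▸ (mem_inf.1 hjM).1)
    · exact hno D.third hne (e ▸ (mem_inf.1 hjM).1)
  have hbot : ∀ d ∈ M, d * (z * v) = z * v * d → d = 1 := by
    intro d hd hdu
    by_contra hd1
    have hdo := odd_of_mem hodd hd
    have hdR := D.third.odd_mem_Rc le_rfl hne (mem_inf.1 hd).1 hdo hdu
    refine hd1 (D.eq_one_of_cores hfam hk (fun o ho => (mem_cen.1 (mem_inf.1 hd).1 o ho).symm)
      (fun o ho => (mem_cen.1 (mem_inf.1 hd).2 o ho).symm)
      (fun o ho => (D.third.flip.odd_fix (mem_cen1.2 hdu) hdo ho).symm))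
  have hinv := LargeExtra.Basic.inverts_of_fixedPointFree (t := z * v) (D.fsd.four.sq _ D.third.vW) M
    (fun m hm => hMW _ D.third.vW m hm)
    (fun m hm hfix => hbot m hm (mul_inv_eq_iff_eq_mul.1 hfix).symm)
  refine inv_injective ?_
  rw [← hinv _ (mul_mem ha hb), mul_inv_rev b a, ← hinv a ha, ← hinv b hb]
  group

omit hk in
/-- **The core of the centraliser of an involution is trivial.** -/
theorem Duo.core_trivial : Nat.card (core z) = 1 := by
  by_contra hk1
  have hk : 1 < Nat.card (core z) := by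
    have : 0 < Nat.card (core z) := Nat.card_pos
    omega
  have hkv : 1 < Nat.card (core v) := by rw [D.card_core_eq]; exact hk
  have hne := D.core_ne_bot hk
  have hnev := D.flip.core_ne_bot hkv
  obtain ⟨y, hy, hy1⟩ := (bot_or_exists_ne_one (Rc (core z) ⊓ Cz v)).resolve_left (fun e => by
    have := D.card_c hfam hk; rw [e, card_bot] at this; omega)
  obtain ⟨y', hy', hy'1⟩ := (bot_or_exists_ne_one (Rc (core z) ⊓ Cz (z * v))).resolve_left (fun e => by
    have := D.card_cu hfam hk; rw [e, card_bot] at this; omega)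
  obtain ⟨y'', hy'', hy''1⟩ := (bot_or_exists_ne_one (Rc (core v) ⊓ Cz z)).resolve_left (fun e => by
    have := D.flip.card_c hfam hkv; rw [e, card_bot] at this; omega)
  have hyo := odd_of_mem (card_Rc_odd _) (mem_inf.1 hy).1
  have hy'o := odd_of_mem (card_Rc_odd _) (mem_inf.1 hy').1
  have hy''o := odd_of_mem (card_Rc_odd _) (mem_inf.1 hy'').1
  have hyM : y ∈ Nc (core z) ⊓ Nc (core v) := ⟨Rc_le _ (mem_inf.1 hy).1,
    mem_cen.2 fun o ho => D.flip.odd_fix (mem_inf.1 hy).2 hyo ho⟩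
  have hy''M : y'' ∈ Nc (core z) ⊓ Nc (core v) :=
    ⟨mem_cen.2 fun o ho => D.odd_fix (mem_inf.1 hy'').2 hy''o ho, Rc_le _ (mem_inf.1 hy'').1⟩
  have hyy'' := D.double_comm hfam hk hy''M hyM
  have hyc : y ∉ core v := fun h => hy1 (by
    rw [← mem_bot, ← D.Rc_inf_core le_rfl hne hfam]; exact ⟨(mem_inf.1 hy).1, h⟩)
  -- the group generated by two cores
  set K := core z ⊔ core v with hK
  have hKy : K ≤ Cz y := sup_le (fun o ho => mem_cen1.2 (mem_cen.1 (mem_inf.1 hyM).1 o ho).symm)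
    (fun o ho => mem_cen1.2 (mem_cen.1 (mem_inf.1 hyM).2 o ho).symm)
  have hKy'' : K ≤ Cz y'' := sup_le (fun o ho => mem_cen1.2 (mem_cen.1 (mem_inf.1 hy''M).1 o ho).symm)
    (fun o ho => mem_cen1.2 (mem_cen.1 (mem_inf.1 hy''M).2 o ho).symm)
  -- the centraliser of `y`
  haveI := Fact.mk Nat.prime_two
  set Y := Cz y
  have hvY : v ∈ Y := mem_cen1.2 (mem_cen1.1 (mem_inf.1 hy).2).symm
  set V : ↥Y := ⟨v, hvY⟩ with hV
  have hV2 : orderOf V = 2 := by
    rw [hV, Subgroup.orderOf_mk]; exact D.fsd.four.orderOf_eq D.vW D.v1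
  obtain ⟨S₀, hS₀⟩ := (IsPGroup.of_card (p := 2) (n := 1) (by rw [Nat.card_zpowers, hV2, pow_one]) :
    IsPGroup 2 (zpowers V)).exists_le_sylow
  have hVS : V ∈ (S₀ : Subgroup ↥Y) := hS₀ (mem_zpowers V)
  have hsub : ∀ a ∈ (S₀ : Subgroup ↥Y), a * V = V * a → a = 1 ∨ a = V := by
    intro a ha hc
    obtain ⟨i, hi⟩ := S₀.2 ⟨a, ha⟩
    rcases D.flip.two_comm (g := (a : L)) (x := y) (mem_cen1.2 (congrArg Subtype.val hc))
      ⟨i, by simpa using congrArg Subtype.val (congrArg Subtype.val hi)⟩ (mem_inf.1 hy).2 hyo hyc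
      (mem_cen1.1 a.2) with e | e
    · exact Or.inl (Subtype.ext e)
    · exact Or.inr (Subtype.ext e)
  haveI : Nontrivial (S₀ : Subgroup ↥Y) := ⟨⟨⟨V, hVS⟩, 1, fun h => by
    rw [show V = 1 from congrArg Subtype.val h, orderOf_one] at hV2; omega⟩⟩
  haveI := S₀.2.center_nontrivial
  obtain ⟨⟨⟨j, hjS⟩, hjc⟩, hj1⟩ := exists_ne (1 : center (S₀ : Subgroup ↥Y))
  have hjV : j = V := (hsub j hjS (congrArg Subtype.val (mem_center_iff.1 hjc ⟨V, hVS⟩)).symm).resolve_left
    fun e => hj1 (Subtype.ext (Subtype.ext e))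
  subst hjV
  have hS2 : Nat.card (S₀ : Subgroup ↥Y) = 2 := by
    have hset : ((S₀ : Subgroup ↥Y) : Set ↥Y) = {1, V} := by
      ext a
      constructor
      · intro ha
        simpa using hsub a ha (congrArg Subtype.val (mem_center_iff.1 hjc ⟨a, ha⟩))
      · rintro (e | e) <;> rw [e]
        · exact one_mem _
        · exact hVS
    rw [← SetLike.coe_sort_coe, Nat.card_coe_set_eq, hset, Set.ncard_pair]
    intro e; rw [← e, orderOf_one] at hV2; omega
  obtain ⟨K₀, -, hKmem⟩ := exists_odd_half S₀ hS2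
  set A₀ := K₀.map Y.subtype with hA₀
  have hmem : ∀ a, a ∈ A₀ ↔ a ∈ Y ∧ Odd (orderOf a) := by
    intro a
    constructor
    · rintro ⟨b, hb, rfl⟩
      exact ⟨b.2, by rw [coe_subtype, Subgroup.orderOf_coe]; exact (hKmem b).1 hb⟩
    · rintro ⟨haY, hao⟩
      exact ⟨⟨a, haY⟩, (hKmem _).2 (by rw [Subgroup.orderOf_mk]; exact hao), rfl⟩
  have hA₀odd : Odd (Nat.card A₀) := by
    rw [Nat.odd_iff, ← Nat.two_dvd_ne_zero]
    intro h
    obtain ⟨⟨a, ha⟩, ha2⟩ := exists_prime_orderOf_dvd_card' (G := A₀) 2 h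
    rw [Subgroup.orderOf_mk] at ha2
    exact absurd (ha2 ▸ ((hmem a).1 ha).2) (by decide)
  have hKA : K ≤ A₀ := sup_le
    (fun o ho => (hmem o).2 ⟨hKy (mem_sup_left ho), SDBlock25.Count.core_odd ho⟩)
    (fun o ho => (hmem o).2 ⟨hKy (mem_sup_right ho), SDBlock25.Count.core_odd ho⟩)
  have hFbot : A₀ ⊓ core (z * v) = ⊥ := by
    by_contra hF
    have hu := D.third
    have htop := hfam _ hu.vW hu.v1 (A₀ ⊓ core (z * v)) inf_le_right hF (Cz y) fun h hh f hf => by
      have hc := hu.flip.core_conj (g := h) (mem_inf.1 hf).2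
      have huW := D.fsd.four.cj_mem hh hu.vW
      rcases D.fsd.four.cases D.zW D.vW D.z1 D.v1 D.vz.symm huW with e' | e' | e' | e'
      · exact absurd (by simpa [mul_assoc] using congrArg (fun t => h⁻¹ * t * h) e') hu.v1
      · rw [e'] at hc; exact hKy (mem_sup_left hc)
      · rw [e'] at hc; exact hKy (mem_sup_right hc)
      · exact ((hmem _).1 (mem_inf.1 (hu.flip.normalizes (E := A₀ ⊓ core (z * v)) inf_le_right
          (mem_cen1.2 (mul_inv_eq_iff_eq_mul.1 e')) hf)).1).1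
    haveI := D.fsd.four.simple
    have hyc' : y ∈ center L := mem_center_iff.2 fun g =>
      mem_cen1.1 (show g ∈ Cz y by rw [htop]; exact mem_top g)
    rcases (inferInstance : (center L).Normal).eq_bot_or_eq_top with h | h
    · rw [h, mem_bot] at hyc'; exact hy1 hyc'
    · exact D.fsd.four.nc fun a b => (mem_center_iff.1 (h ▸ mem_top b) a)
  have hy'A : y' ∈ A₀ ⊓ Cz (z * v) :=
    ⟨(hmem _).2 ⟨mem_cen1.2 (D.comm_parts hfam hk hy hy').symm, hy'o⟩, (mem_inf.1 hy').2⟩
  have h3 : Nat.card ↥(A₀ ⊓ Cz (z * v)) = 3 := by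
    have h := D.third.flip.odd_card (A := A₀ ⊓ Cz (z * v)) inf_le_right
      (hA₀odd.of_dvd_nat (card_dvd_of_le inf_le_left))
    rw [show A₀ ⊓ Cz (z * v) ⊓ core (z * v) = ⊥ from le_bot_iff.1 (hFbot ▸
      le_inf (inf_le_left.trans inf_le_left) inf_le_right), card_bot, mul_one] at h
    refine ((Nat.dvd_prime Nat.prime_three).1 h).resolve_left fun e => hy'1 ?_
    rw [← mem_bot, ← Subgroup.card_eq_one.1 e]
    exact hy'A
  have hy'K : y' ∈ K := by
    by_contra hy'K
    -- then `zv` inverts `K`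
    have hKW : ∀ a ∈ K, z * v * a * (z * v)⁻¹ ∈ K := by
      have hle : K ≤ K.comap (MulAut.conj (z * v)).toMonoidHom := sup_le
        (fun o ho => mem_sup_left (D.conj_core D.third.v_mem ho))
        (fun o ho => mem_sup_right (D.flip.conj_core (mem_cen1.2 (D.fsd.four.comm D.third.vW D.vW)) ho))
      exact fun a ha => hle ha
    have hfree : ∀ a ∈ K, z * v * a * (z * v)⁻¹ = a → a = 1 := by
      intro a ha hfix
      by_contra ha1
      refine hy'K ?_
      have := eq_of_card_three h3 (⟨hKA ha, mem_cen1.2 (mul_inv_eq_iff_eq_mul.1 hfix).symm⟩ :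
        a ∈ A₀ ⊓ Cz (z * v)) ha1
      have h' : y' ∈ zpowers a := this ▸ hy'A
      exact zpowers_le.2 ha h'
    have hinv := LargeExtra.Basic.inverts_of_fixedPointFree (t := z * v) (D.fsd.four.sq _ D.third.vW) K
      hKW hfree
    have hcomm : ∀ a ∈ K, ∀ b ∈ K, a * b = b * a := fun a ha b hb => inv_injective (by
      rw [← hinv _ (mul_mem ha hb), mul_inv_rev b a, ← hinv a ha, ← hinv b hb]; group)
    obtain ⟨s, hsC, -, hsv, -⟩ := D.exists_swap
    obtain ⟨o, ho, ho1⟩ := (bot_or_exists_ne_one _).resolve_left hne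
    refine ho1 (D.eq_one_of_cores hfam hk (fun a ha => D.comm_core ha ho)
      (fun a ha => hcomm a (mem_sup_right ha) o (mem_sup_left ho)) fun a ha => ?_)
    have h1 : s⁻¹ * a * s ∈ core v := by
      have hc := D.third.flip.core_conj (g := s⁻¹) ha
      rw [inv_inv] at hc
      rwa [show s⁻¹ * (z * v) * s = v by rw [← hsv]; group] at hc
    have h2 : s⁻¹ * o * s ∈ core z := by
      have := D.conj_core (inv_mem hsC) ho; rwa [inv_inv] at this
    have h := hcomm _ (mem_sup_right h1) _ (mem_sup_left h2)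
    calc a * o = s * (s⁻¹ * a * s * (s⁻¹ * o * s)) * s⁻¹ := by group
      _ = s * (s⁻¹ * o * s * (s⁻¹ * a * s)) * s⁻¹ := by rw [h]
      _ = o * a := by group
  -- `y''` commutes with both components
  have hcore : y'' ∈ core z := by
    refine D.no_cent hfam hk (mem_inf.1 hy'').2 hy''o ?_ ?_
    · intro a ha
      rw [← eq_of_card_three (D.card_c hfam hk) hy hy1] at ha
      obtain ⟨i, rfl⟩ := ha
      exact ((show Commute y'' y from hyy'').zpow_right i).eq
    · intro a ha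
      rw [← eq_of_card_three (D.card_cu hfam hk) hy' hy'1] at ha
      obtain ⟨i, rfl⟩ := ha
      exact ((show Commute y'' y' from (mem_cen1.1 (hKy'' hy'K)).symm).zpow_right i).eq
  refine hy''1 ?_
  rw [← mem_bot, ← D.flip.Rc_inf_core le_rfl hnev hfam]
  exact ⟨(mem_inf.1 hy'').1, hcore⟩

end Cfsg.Agent.Lib.Suborbit46
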