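import Cfsg.Agent.Lib.Suborbit46.Setup

/-!
# The subgroup `V` generated by the conjugates of `Ω₁(Z(P))`
-/

set_option autoImplicit false
set_option linter.unusedSectionVars false

namespace Cfsg.Agent.Lib.Suborbit46

open Subgroup
open scoped commutatorElement

universe u

variable {G : Type u} [Group G]

/-- The subgroup generated by the squares. -/
def sq (A : Subgroup G) : Subgroup G := closure {y | ∃ a ∈ A, a * a = y}

theorem sq_le {A B : Subgroup G} (h : ∀ a ∈ A, a * a ∈ B) : sq A ≤ B :=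
  (closure_le B).2 fun _ ⟨a, ha, e⟩ => e ▸ h a ha

theorem sq_mem {A : Subgroup G} {a : G} (ha : a ∈ A) : a * a ∈ sq A :=
  subset_closure ⟨a, ha, rfl⟩

theorem cj_sq (g : G) (A : Subgroup G) : cj g (sq A) = sq (cj g A) := by
  rw [sq, sq, cj, MonoidHom.map_closure]
  congr 1
  ext y
  simp only [Set.mem_image, Set.mem_setOf_eq, cj, Subgroup.mem_map]
  constructor
  · rintro ⟨x, ⟨a, ha, rfl⟩, rfl⟩
    exact ⟨_, ⟨a, ha, rfl⟩, (map_mul (MulAut.conj g).toMonoidHom a a).symm⟩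
  · rintro ⟨x, ⟨a, ha, rfl⟩, rfl⟩
    exact ⟨a * a, ⟨a, ha, rfl⟩, map_mul (MulAut.conj g).toMonoidHom a a⟩

theorem sq_eq_bot {A : Subgroup G} (h : sq A = ⊥) {a : G} (ha : a ∈ A) : a * a = 1 := by
  simpa [h, mem_bot] using sq_mem ha

theorem comm_of_sq_one {A : Subgroup G} (h : ∀ a ∈ A, a * a = 1) {a b : G} (ha : a ∈ A)
    (hb : b ∈ A) : a * b = b * a := by
  calc a * b = (a * b)⁻¹ := (inv_eq_of_mul_eq_one_right (h _ (mul_mem ha hb))).symm
    _ = b⁻¹ * a⁻¹ := mul_inv_rev a b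
    _ = b * a := by rw [inv_eq_of_mul_eq_one_right (h a ha), inv_eq_of_mul_eq_one_right (h b hb)]

/-- Elements of order dividing two in the centre of `P`. -/
def omegaCenter (P : Subgroup G) : Subgroup G where
  carrier := {v | v ∈ P ∧ (∀ p ∈ P, p * v = v * p) ∧ v * v = 1}
  one_mem' := ⟨one_mem P, fun p _ => by simp, mul_one 1⟩
  mul_mem' := by
    rintro a b ⟨ha, ha', ha2⟩ ⟨hb, hb', hb2⟩
    refine ⟨mul_mem ha hb, fun p hp => ?_, ?_⟩
    · rw [← mul_assoc, ha' p hp, mul_assoc, hb' p hp, mul_assoc]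
    · rw [mul_assoc, ← mul_assoc b, hb' a ha |>.symm, mul_assoc a b, hb2, mul_one, ha2]
  inv_mem' := by
    rintro a ⟨ha, ha', ha2⟩
    rw [inv_eq_of_mul_eq_one_right ha2]
    exact ⟨ha, ha', ha2⟩

theorem mem_omegaCenter {P : Subgroup G} {v : G} :
    v ∈ omegaCenter P ↔ v ∈ P ∧ (∀ p ∈ P, p * v = v * p) ∧ v * v = 1 := Iff.rfl

theorem cj_omegaCenter_le {P : Subgroup G} {g : G} (hg : cj g P = P) :
    cj g (omegaCenter P) ≤ omegaCenter P := fun v hv => by
  obtain ⟨h1, h2, h3⟩ := mem_omegaCenter.1 (mem_cj.1 hv)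
  refine mem_omegaCenter.2 ⟨?_, fun p hp => ?_, ?_⟩
  · rw [← hg]; exact mem_cj.2 h1
  · rw [← hg] at hp
    have := congrArg (fun z => g * z * g⁻¹) (h2 _ (mem_cj.1 hp))
    simpa [mul_assoc] using this
  · simpa [mul_assoc] using congrArg (fun z => g * z * g⁻¹) h3

theorem omegaCenter_ne_bot [Finite G] {P : Subgroup G} (hP : IsPGroup 2 P) (hne : P ≠ ⊥) :
    omegaCenter P ≠ ⊥ := by
  haveI : Fact (Nat.Prime 2) := ⟨Nat.prime_two⟩
  haveI : Nontrivial P := (Subgroup.nontrivial_iff_ne_bot P).2 hne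
  haveI : Nontrivial (center P) := hP.center_nontrivial
  obtain ⟨n, hn0, hn⟩ := (hP.to_subgroup (center P)).nontrivial_iff_card.1 ‹_›
  obtain ⟨z, hz⟩ := exists_prime_orderOf_dvd_card' (G := center P) 2 (hn ▸ dvd_pow_self 2 hn0.ne')
  intro hbot
  rw [← Subgroup.orderOf_coe, ← Subgroup.orderOf_coe] at hz
  have hm : ((z : P) : G) ∈ omegaCenter P := by
    refine mem_omegaCenter.2 ⟨(z : P).2, fun p hp => ?_, ?_⟩
    · exact congrArg Subtype.val ((mem_center_iff.1 z.2) ⟨p, hp⟩)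
    · rw [← pow_two, ← hz, pow_orderOf_eq_one]
  rw [hbot, mem_bot] at hm
  rw [hm, orderOf_one] at hz
  omega

variable [Finite G] {H P : Subgroup G} (S : Setup G H P)

include S

/-- If an element of `H` outside `P` centralises the core, then `P` is elementary abelian and the
core is a subgroup of order at most two, central in `H`. -/
theorem Setup.central_case (hP : P ≠ ⊥) {c : G} (hc : c ∈ H) (hcP : c ∉ P)
    (hcK : ∀ k ∈ coreIn H P, c * k = k * c) :
    (∀ p ∈ P, p * p = 1) ∧ Nat.card (coreIn H P) ≤ 2 ∧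
      ∀ h ∈ H, ∀ k ∈ coreIn H P, h * k = k * h := by
  set K := coreIn H P with hK
  have hnorm : ∀ A : Subgroup G, A ≤ K → P ≤ normalizer (A : Set G) → H ≤ normalizer (A : Set G) :=
    fun A hA hPA => S.le_normalizer hc hcP hPA (centralizer_le_normalizer _
      (mem_centralizer_iff.2 fun k hk => (hcK k (hA hk)).symm))
  obtain ⟨g, hg, hgH⟩ := S.exists_norm
  have hgP := cj_eq_self.2 hg
  have hsqK : sq P ≤ K := sq_le fun a ha => by
    by_cases h : a ∈ K
    · exact mul_mem h h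
    · exact S.mul_mem_core hP ha ha h h
  have hsq : sq P = ⊥ := by
    refine S.eq_bot_of_norm (hsqK.trans coreIn_le_left) (hnorm _ hsqK ?_) hgH (by rw [cj_sq, hgP])
    exact fun p hp => cj_eq_self.1 (by rw [cj_sq, cj_eq_self.2 (Subgroup.le_normalizer hp)])
  have hel : ∀ p ∈ P, p * p = 1 := fun p hp => sq_eq_bot hsq hp
  have hcent : ∀ h ∈ H, ∀ k ∈ K, h * k = k * h := by
    intro h hh k hk
    have hle : P ⊔ zpowers c ≤ centralizer ({k} : Set G) := sup_le
      (fun p hp => mem_centralizer_singleton_iff.2 (comm_of_sq_one hel hp (coreIn_le hk)))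
      (zpowers_le.2 (mem_centralizer_singleton_iff.2 (hcK k hk)))
    rw [S.sup_eq hc hcP] at hle
    exact mem_centralizer_singleton_iff.1 (hle hh)
  refine ⟨hel, ?_, hcent⟩
  have hinf : K ⊓ cj g K = ⊥ := by
    refine eq_bot_iff.2 fun k hk => ?_
    by_contra hne
    have hk' := mem_cj.1 hk.2
    have hC1 := S.centralizer_eq (coreIn_le_left hk.1) hne fun h hh => hcent h hh k hk.1
    have hne' : g⁻¹ * k * g ≠ 1 := fun e => hne (by
      have := congrArg (fun z => g * z * g⁻¹) e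
      simpa [mul_assoc] using this)
    have hC2 := S.centralizer_eq (coreIn_le_left hk') hne' fun h hh => hcent h hh _ hk'
    refine hgH (S.normalizer_eq ▸ cj_eq_self.1 ?_)
    ext x
    rw [mem_cj]
    conv_rhs => rw [← hC1, mem_centralizer_singleton_iff]
    rw [← hC2, mem_centralizer_singleton_iff]
    constructor <;> intro e
    · have := congrArg (fun z => g * z * g⁻¹) e
      simpa [mul_assoc] using this
    · calc g⁻¹ * x * g * (g⁻¹ * k * g) = g⁻¹ * (x * k) * g := by group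
        _ = g⁻¹ * (k * x) * g := by rw [e]
        _ = _ := by group
  have hsub : Set.InjOn (fun q : G × G => q.1 * q.2) ((K : Set G) ×ˢ (cj g K : Set G)) := by
    rintro ⟨a, b⟩ ⟨ha, hb⟩ ⟨a', b'⟩ ⟨ha', hb'⟩ e
    simp only at e
    have h1 : a'⁻¹ * a = b' * b⁻¹ := by rw [inv_mul_eq_iff_eq_mul, ← mul_assoc, ← e]; simp
    have hm1 : a'⁻¹ * a ∈ K := mul_mem (inv_mem ha') ha
    have hm2 : a'⁻¹ * a ∈ cj g K := by rw [h1]; exact mul_mem hb' (inv_mem hb)
    have hm : a'⁻¹ * a ∈ K ⊓ cj g K := ⟨hm1, hm2⟩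
    rw [hinf, mem_bot, inv_mul_eq_one] at hm
    subst hm
    simpa using e
  have hle := Set.ncard_le_ncard_of_injOn (t := (P : Set G)) _
    (fun q hq => mul_mem (coreIn_le hq.1)
      (by have := cj_mono g (coreIn_le (H := H) (P := P)) hq.2; rwa [hgP] at this)) hsub
  rw [Set.ncard_prod, ← Nat.card_coe_set_eq, ← Nat.card_coe_set_eq, ← Nat.card_coe_set_eq] at hle
  simp only [SetLike.coe_sort_coe, card_cj] at hle
  have := S.card_core hP
  nlinarith [Nat.card_pos (α := K)]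

end Cfsg.Agent.Lib.Suborbit46
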