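import Cfsg.Agent.Lib.Suborbit46.Engine
import Cfsg.Agent.Lib.RecogThree.M11.Index
import Cfsg.Agent.Lib.RecogThree.M11.Local

/-!
# In a simple group of order `7920` the normaliser of a four-group is not maximal
-/

set_option autoImplicit false
set_option linter.unusedSectionVars false
set_option linter.style.haveILetI false

namespace Cfsg.Agent.Lib.Suborbit46

open Subgroup MulAction
open scoped Pointwise

universe u

variable {L : Type u} [Group L] [Finite L]

/-- A group of order `660` in a simple group of order `7920` has non-cyclic Sylow `2`-subgroups. -/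
theorem exists_four_sub [IsSimpleGroup L] (h : Nat.card L = 7920) {M : Subgroup L}
    (hM : Nat.card M = 660) : ∃ U : Subgroup L, U ≤ M ∧ IsKleinFour U := by
  haveI := Fact.mk Nat.prime_two
  haveI : Fact (Nat.Prime 11) := ⟨by norm_num⟩
  obtain ⟨T⟩ : Nonempty (Sylow 2 M) := inferInstance
  have hT : Nat.card (T : Subgroup M) = 4 := by
    rw [T.card_eq_multiplicity, hM]
    rw [show (660 : ℕ) = 2 ^ 2 * 165 by norm_num, Nat.factorization_mul (by norm_num) (by norm_num),
      Finsupp.add_apply, Nat.prime_two.factorization_pow, Finsupp.single_eq_same,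
      Nat.factorization_eq_zero_of_not_dvd (by norm_num)]
    norm_num
  by_cases hcyc : IsCyclic (T : Subgroup M)
  · exfalso
    have hmin : (Nat.card M).minFac = 2 := Nat.minFac_eq_two_iff _ |>.2 (by rw [hM]; norm_num)
    have hc := IsCyclic.isComplement' hmin hcyc
    set K := (MonoidHom.transferSylow T (hcyc.normalizer_le_centralizer hmin)).ker
    have hK : Nat.card K = 165 := by
      have := hc.card_mul
      rw [hT, hM] at this
      omega
    obtain ⟨Q⟩ : Nonempty (Sylow 11 K) := inferInstance
    have hQ : Nat.card (Q : Subgroup K) = 11 := by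
      rw [Q.card_eq_multiplicity, hK, show (165 : ℕ) = 11 ^ 1 * 15 by norm_num,
        Nat.factorization_mul (by norm_num) (by norm_num), Finsupp.add_apply,
        (show Nat.Prime 11 by norm_num).factorization_pow, Finsupp.single_eq_same,
        Nat.factorization_eq_zero_of_not_dvd (by norm_num), pow_one]
    have hone : Nat.card (Sylow 11 K) = 1 := by
      have h1 := card_sylow_modEq_one 11 K
      have h2 : Nat.card (Sylow 11 K) ∣ 15 := by
        have h' := Q.card_dvd_index
        have := (Q : Subgroup K).card_mul_index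
        rw [hQ, hK] at this
        rwa [show (Q : Subgroup K).index = 15 by omega] at h'
      have h3 := Nat.le_of_dvd (by norm_num) h2
      unfold Nat.ModEq at h1
      interval_cases hn : Nat.card (Sylow 11 K) <;> omega
    haveI : Subsingleton (Sylow 11 K) := (Nat.card_eq_one_iff_unique.1 hone).1
    haveI hQc : (Q : Subgroup K).Characteristic := Q.characteristic_of_subsingleton
    set P := ((Q : Subgroup K).map K.subtype).map M.subtype with hP
    have hPc : Nat.card P = 11 := by
      rw [hP, card_map_of_injective (subtype_injective _), card_map_of_injective (subtype_injective _), hQ]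
    have hL : IsPGroup 11 P := IsPGroup.of_card (n := 1) (by rw [hPc, pow_one])
    obtain ⟨P', hP'⟩ := hL.exists_le_sylow
    have hPe : P = P' := eq_of_le_of_card_ge hP' (by rw [hPc, RecogThree.M11.Local.card_p11 h P'])
    have hMN : M ≤ normalizer ((P' : Subgroup L) : Set L) := by
      haveI : ((Q : Subgroup K).map K.subtype).Normal := inferInstance
      intro m hm
      rw [← hPe]
      refine mem_normalizer_fintype fun x hx => ?_
      obtain ⟨a, ha, rfl⟩ := hx
      exact ⟨⟨m, hm⟩ * a * ⟨m, hm⟩⁻¹, Normal.conj_mem inferInstance a ha _, rfl⟩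
    have hle := card_le_of_le hMN
    rw [(RecogThree.M11.Local.p11_data h P').2, hM] at hle
    omega
  · refine ⟨(T : Subgroup M).map M.subtype, map_subtype_le _, ?_⟩
    haveI : IsKleinFour (T : Subgroup M) := ⟨hT, by
      haveI : Nontrivial (T : Subgroup M) := Finite.one_lt_card_iff_nontrivial.1 (by rw [hT]; norm_num)
      have hd : Monoid.exponent (T : Subgroup M) ∣ 2 := Monoid.exponent_dvd_of_forall_pow_eq_one fun a => by
        have h4 : orderOf a ∣ 4 := hT ▸ _root_.orderOf_dvd_natCard a
        have hne : orderOf a ≠ 4 := fun e => hcyc (isCyclic_of_orderOf_eq_card a (e.trans hT.symm))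
        have := Nat.le_of_dvd (by norm_num) h4
        refine orderOf_dvd_iff_pow_eq_one.1 ?_
        interval_cases hn : orderOf a <;> omega
      exact ((Nat.dvd_prime Nat.prime_two).1 hd).resolve_left fun e =>
        not_subsingleton _ (Monoid.exp_eq_one_iff.1 e)⟩
    exact ⟨by rw [card_map_of_injective (subtype_injective _), hT], by
      rw [Monoid.exponent_eq_of_mulEquiv ((T : Subgroup M).equivMapOfInjective M.subtype (subtype_injective _)).symm]
      exact IsKleinFour.exponent_two⟩

variable {W : Subgroup L} {c : L}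

theorem FSD.all_fours (P : FSD L W c) {U : Subgroup L} (hU : IsKleinFour U) :
    ∃ g : L, ∀ w ∈ W, g * w * g⁻¹ ∈ U := by
  haveI := Fact.mk Nat.prime_two
  haveI := hU
  obtain ⟨S, hWS, -⟩ := P.four.exists_sylow
  obtain ⟨S₁, hS₁⟩ := (IsPGroup.of_card (p := 2) (n := 2) (by rw [IsKleinFour.card_four]; norm_num) :
    IsPGroup 2 U).exists_le_sylow
  obtain ⟨k, hk⟩ := exists_smul_eq L S₁ S
  have hU' : ∀ u ∈ U, k * u * k⁻¹ ∈ (S : Subgroup L) := fun u hu => by
    have h := smul_mem_pointwise_smul u (MulAut.conj k) (S₁ : Subgroup L) (hS₁ hu)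
    rw [← Sylow.coe_subgroup_smul] at h
    rw [show (MulAut.conj k) • u = k * u * k⁻¹ from rfl] at h
    exact hk ▸ h
  set U' := (U.map (MulAut.conj k).toMonoidHom).subgroupOf (S : Subgroup L)
  have hle : U.map (MulAut.conj k).toMonoidHom ≤ (S : Subgroup L) := by
    rintro _ ⟨u, hu, rfl⟩; exact hU' u hu
  haveI h1 : IsKleinFour U' := by
    let e : U ≃* U' := (U.equivMapOfInjective _ (MulAut.conj k).injective).trans
      (subgroupOfEquivOfLe hle).symm
    exact ⟨by rw [← Nat.card_congr e.toEquiv, IsKleinFour.card_four],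
      by rw [← Monoid.exponent_eq_of_mulEquiv e]; exact IsKleinFour.exponent_two⟩
  have hWK : IsKleinFour W := ⟨P.four.card, by
    haveI : Nontrivial W := Finite.one_lt_card_iff_nontrivial.1 (by rw [P.four.card]; norm_num)
    have hd : Monoid.exponent W ∣ 2 := Monoid.exponent_dvd_iff_forall_pow_eq_one.2 fun p =>
      Subtype.ext (by simpa [pow_two] using P.four.sq _ p.2)
    exact ((Nat.dvd_prime Nat.prime_two).1 hd).resolve_left fun e =>
      not_subsingleton W (Monoid.exp_eq_one_iff.1 e)⟩
  haveI h2 : IsKleinFour (W.subgroupOf (S : Subgroup L)) := by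
    let e : W ≃* W.subgroupOf (S : Subgroup L) := (subgroupOfEquivOfLe hWS).symm
    exact ⟨by rw [← Nat.card_congr e.toEquiv, P.four.card],
      by rw [← Monoid.exponent_eq_of_mulEquiv e]; exact hWK.exponent_two⟩
  obtain ⟨s, hs⟩ := (Cfsg.Agent.S1190.result (P.sd S hWS)).1 _ _ h2 h1
  refine ⟨k⁻¹ * s, fun w hw => ?_⟩
  have hm : s * ⟨w, hWS hw⟩ * s⁻¹ ∈ U' := hs ▸ mem_map_of_mem _ (mem_subgroupOf.2 hw)
  obtain ⟨u, hu, hue⟩ := mem_subgroupOf.1 hm
  have : k⁻¹ * (s : L) * w * (k⁻¹ * (s : L))⁻¹ = u := by
    simp only [MulEquiv.coe_toMonoidHom, MulAut.conj_apply, Subgroup.coe_mul, Subgroup.coe_inv] at hue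
    rw [show k⁻¹ * (s : L) * w * (k⁻¹ * (s : L))⁻¹ = k⁻¹ * ((s : L) * w * (s : L)⁻¹) * k by group, ← hue]
    group
  rwa [this]

theorem FSD.m11_excl (P : FSD L W c) (h : Nat.card L = 7920)
    (h48 : ∀ z ∈ W, z ≠ 1 → Nat.card (Cz z) = 48)
    (hmax : IsCoatom (normalizer (W : Set L))) : False := by
  haveI := P.four.simple
  haveI := Fact.mk Nat.prime_two
  haveI : Fact (Nat.Prime 11) := ⟨by norm_num⟩
  obtain ⟨Q⟩ : Nonempty (Sylow 11 L) := inferInstance
  obtain ⟨x, y, hx, hy, hyx, -⟩ := RecogThree.M11.Local.exists_xy h Q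
  obtain ⟨M₀, -, -, hidx₀⟩ := RecogThree.M11.Index.exists_index_twelve h hx hy hyx
  have hM₀c : Nat.card M₀ = 660 := by
    have := M₀.card_mul_index
    rw [hidx₀, h] at this
    omega
  obtain ⟨U, hUM, hU⟩ := exists_four_sub h hM₀c
  obtain ⟨g, hg⟩ := P.all_fours hU
  set M := M₀.comap (MulAut.conj g).toMonoidHom with hMdef
  have hWM : W ≤ M := fun w hw => hUM (hg w hw)
  have hidx : M.index = 12 := by
    rw [hMdef, index_comap_of_surjective _ (MulAut.conj g).surjective, hidx₀]
  have hMc : Nat.card M = 660 := by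
    have := M.card_mul_index
    rw [hidx, h] at this
    omega
  haveI : Finite (L ⧸ M) := inferInstance
  have hX : Nat.card (L ⧸ M) = 12 := by rw [← index_eq_card, hidx]
  set o : L ⧸ M := QuotientGroup.mk (1 : L) with ho
  have hfix : ∀ a ∈ M, a • o = o := fun a ha => by
    rw [ho, MulAction.Quotient.smul_mk, smul_eq_mul, mul_one, QuotientGroup.eq, mul_one]
    exact inv_mem ha
  have hfaith : ∀ a : L, (∀ q : L ⧸ M, a • q = q) → a = 1 := by
    intro a ha
    have hker : a ∈ (MulAction.toPermHom L (L ⧸ M)).ker := MonoidHom.mem_ker.2 (Equiv.ext ha)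
    rcases (MonoidHom.normal_ker (MulAction.toPermHom L (L ⧸ M))).eq_bot_or_eq_top with e | e
    · rwa [e, mem_bot] at hker
    · exfalso
      have hle : (⊤ : Subgroup L) ≤ M := by
        intro b _
        have h' := DFunLike.congr_fun (MonoidHom.mem_ker.1 (e ▸ mem_top b : b ∈
          (MulAction.toPermHom L (L ⧸ M)).ker)) o
        rw [MulAction.toPermHom_apply, MulAction.toPerm_apply, Equiv.Perm.one_apply, ho,
          MulAction.Quotient.smul_mk, smul_eq_mul, mul_one, QuotientGroup.eq, mul_one] at h'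
        simpa using h'
      rw [top_le_iff.1 hle, index_top] at hidx
      omega
  set Φ : Set (L ⧸ M) := {q | ∀ w ∈ W, w • q = q} with hΦ
  have hoΦ : o ∈ Φ := fun w hw => hfix w (hWM hw)
  -- involutions of `W` move at least eight points
  have hmove : ∀ z ∈ W, z ≠ 1 → 8 ≤ {q : L ⧸ M | z • q ≠ q}.ncard := by
    intro z hz hz1
    obtain ⟨v, hv, hv1, hvz⟩ := P.four.exists_other hz
    obtain ⟨S, hS⟩ := (⟨P, hz, hz1, hv, hv1, hvz⟩ : Duo L W c z v).exists_ctx
    obtain ⟨-, -, -, -, -, hS16⟩ := hS.exists_bar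
    obtain ⟨m, σ, t, hsd⟩ := exists_coords hS.sd
    have hm : m = 4 := by
      have := hsd.ext.card
      omega
    subst hm
    have hσz : σ ^ 4 = z := by
      refine (hS.center_cases (pow_mem hsd.ext.mem 4) fun s hs' => (hsd.ext.z_comm hs')).resolve_left ?_
      intro e
      have := hsd.ext.orderOf_z
      rw [e, orderOf_one] at this
      omega
    obtain ⟨q, hq⟩ : ∃ q : L ⧸ M, z • q ≠ q := by
      by_contra! hall
      exact hz1 (hfaith z hall)
    have hσ8 : orderOf σ = 8 := by rw [hsd.ext.order]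
    have hinj : ∀ i j : Fin 8, σ ^ (i : ℕ) • q = σ ^ (j : ℕ) • q → i ≤ j → i = j := by
      intro i j he hij
      by_contra hne
      have hd : 0 < (j : ℕ) - i := by
        have : (i : ℕ) ≠ j := fun e => hne (Fin.ext e)
        have : (i : ℕ) ≤ j := hij
        omega
      set d := (j : ℕ) - i with hdd
      have hdq : σ ^ d • q = q := by
        refine MulAction.injective (σ ^ (i : ℕ)) ?_
        show σ ^ (i : ℕ) • σ ^ d • q = σ ^ (i : ℕ) • q
        rw [← mul_smul, ← pow_add, show (i : ℕ) + d = j by omega, ← he]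
      have hd8 : d < 8 := by have := j.2; omega
      have hstab : σ ^ d ∈ stabilizer L q := hdq
      have hz4 : σ ^ 4 ∈ stabilizer L q := by
        have hh : ∃ e : ℕ, (d * e) % 8 = 4 := by
          interval_cases d
          · exact ⟨4, rfl⟩
          · exact ⟨2, rfl⟩
          · exact ⟨4, rfl⟩
          · exact ⟨1, rfl⟩
          · exact ⟨4, rfl⟩
          · exact ⟨2, rfl⟩
          · exact ⟨4, rfl⟩
        obtain ⟨e, he'⟩ := hh
        have := pow_mem hstab e
        rwa [← pow_mul, ← pow_mod_orderOf, hσ8, he'] at this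
      exact hq (hσz ▸ hz4)
    have hinj' : Function.Injective fun i : Fin 8 => σ ^ (i : ℕ) • q := fun i j he => by
      rcases le_total i j with hl | hl
      · exact hinj i j he hl
      · exact (hinj j i he.symm hl).symm
    have hsub : Set.range (fun i : Fin 8 => σ ^ (i : ℕ) • q) ⊆ {q : L ⧸ M | z • q ≠ q} := by
      rintro _ ⟨i, rfl⟩ e
      refine hq (MulAction.injective (σ ^ (i : ℕ)) ?_)
      show σ ^ (i : ℕ) • z • q = σ ^ (i : ℕ) • q
      rw [← mul_smul, ← hσz, ← pow_add, add_comm, pow_add, hσz, mul_smul]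
      exact e
    have := Set.ncard_le_ncard hsub (Set.toFinite _)
    rw [Set.ncard_range_of_injective hinj', Nat.card_fin] at this
    exact this
  haveI : Nontrivial W := Finite.one_lt_card_iff_nontrivial.1 (by rw [P.four.card]; norm_num)
  obtain ⟨⟨z, hz⟩, hzne⟩ := exists_ne (1 : W)
  have hz1 : z ≠ 1 := fun e => hzne (Subtype.ext e)
  set F := {q : L ⧸ M | z • q = q}
  have hF4 : F.ncard ≤ 4 := by
    have := Set.ncard_add_ncard_compl F
    rw [hX] at this
    have h8 : 8 ≤ Fᶜ.ncard := hmove z hz hz1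
    omega
  have hΦF : Φ ⊆ F := fun q hq => hq z hz
  have hΦ4 : Φ.ncard ≤ 4 := (Set.ncard_le_ncard hΦF (Set.toFinite _)).trans hF4
  have heven : 2 ∣ Φ.ncard := by
    have hW2 : IsPGroup 2 W := IsPGroup.of_card (n := 2) (by rw [P.four.card]; norm_num)
    have h' := hW2.card_modEq_card_fixedPoints (L ⧸ M)
    have e : fixedPoints W (L ⧸ M) = Φ := by
      ext q
      exact ⟨fun hq w hw => hq ⟨w, hw⟩, fun hq w => hq w w.2⟩
    rw [hX, e, Nat.card_coe_set_eq] at h'
    exact (Nat.ModEq.dvd_iff h' dvd_rfl).1 (by norm_num)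
  have hpos : 0 < Φ.ncard := (Set.ncard_pos (Set.toFinite _)).2 ⟨o, hoΦ⟩
  set St := stabilizer L Φ with hStdef
  have hNle : normalizer (W : Set L) ≤ St := by
    intro n hn
    rw [hStdef, MulAction.mem_stabilizer_set_iff_subset_smul_set (Set.toFinite _)]
    intro q hq
    refine ⟨n⁻¹ • q, fun w hw => ?_, smul_inv_smul _ _⟩
    calc w • n⁻¹ • q = (n⁻¹ * (n * w * n⁻¹)) • q := by rw [← mul_smul]; group
      _ = n⁻¹ • q := by rw [mul_smul, hq _ (P.four.cj_mem hn hw)]
  have hStN : St = normalizer (W : Set L) := by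
    rcases (eq_or_lt_of_le hNle) with e | e
    · exact e.symm
    · exfalso
      have htop := hmax.2 _ e
      have hall : ∀ q : L ⧸ M, q ∈ Φ := fun q => by
        induction q using QuotientGroup.induction_on with | _ a => ?_
        have ha : a ∈ St := htop ▸ mem_top a
        have := (MulAction.mem_stabilizer_iff.1 ha)
        have hm : a • o ∈ a • Φ := Set.smul_mem_smul_set hoΦ
        rw [this] at hm
        rwa [ho, MulAction.Quotient.smul_mk, smul_eq_mul, mul_one] at hm
      have : Φ = Set.univ := Set.eq_univ_of_forall hall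
      rw [this, Set.ncard_univ, hX] at hΦ4
      omega
  have h24 : Nat.card St = 24 := by rw [hStN]; exact P.four.normCard
  obtain ⟨f, hf⟩ := heven
  obtain hf2 | hf4 : Φ.ncard = 2 ∨ Φ.ncard = 4 := by omega
  · obtain ⟨p, q, hpq, hΦe⟩ := Set.ncard_eq_two.1 hf2
    obtain ⟨q', hq'Φ, hq'o⟩ : ∃ q' ∈ Φ, q' ≠ o := by
      by_cases e : p = o
      · exact ⟨q, by simp [hΦe], fun e' => hpq (e.trans e'.symm)⟩
      · exact ⟨p, by simp [hΦe], e⟩
    have hΦo : Φ = {o, q'} := by
      refine (Set.eq_of_subset_of_ncard_le ?_ ?_ (Set.toFinite _)).symm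
      · intro a ha
        rcases ha with e | e
        · exact e ▸ hoΦ
        · exact (Set.mem_singleton_iff.1 e) ▸ hq'Φ
      · rw [hf2, Set.ncard_pair hq'o.symm]
    set K := M ⊓ stabilizer L q' with hK
    have hKle : K ≤ St := by
      intro a ha
      rw [hStdef, MulAction.mem_stabilizer_iff, hΦo, Set.smul_set_insert, Set.smul_set_singleton,
        hfix a (mem_inf.1 ha).1, MulAction.mem_stabilizer_iff.1 (mem_inf.1 ha).2]
    have hKc : 60 ≤ Nat.card K := by
      have h1 := card_mul_index ((stabilizer L q').subgroupOf M)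
      rw [hMc, ← inf_subgroupOf_left, Nat.card_congr (subgroupOfEquivOfLe inf_le_left).toEquiv,
        inf_subgroupOf_left, ← hK] at h1
      have h2 : ((stabilizer L q').subgroupOf M).index ≤ 11 := by
        have e : (stabilizer L q').subgroupOf M = stabilizer M q' := by ext a; rfl
        rw [e, index_stabilizer]
        have hsub : orbit M q' ⊆ ({o} : Set (L ⧸ M))ᶜ := by
          rintro _ ⟨a, rfl⟩ e'
          refine hq'o (MulAction.injective (a : L) ?_)
          show (a : L) • q' = (a : L) • o
          rw [hfix a a.2]; exact e'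
        have := Set.ncard_le_ncard hsub (Set.toFinite _)
        have h' := Set.ncard_add_ncard_compl ({o} : Set (L ⧸ M))
        rw [hX, Set.ncard_singleton] at h'
        omega
      nlinarith
    have := card_le_of_le hKle
    omega
  · have hFΦ : F = Φ := (Set.eq_of_subset_of_ncard_le hΦF (by omega) (Set.toFinite _)).symm
    have hCle : Cz z ≤ St := by
      intro a ha
      rw [hStdef, ← hFΦ, MulAction.mem_stabilizer_set_iff_subset_smul_set (Set.toFinite _)]
      intro q hq
      refine ⟨a⁻¹ • q, ?_, smul_inv_smul _ _⟩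
      show z • a⁻¹ • q = a⁻¹ • q
      have hc : z * a⁻¹ = a⁻¹ * z := (Commute.inv_left (mem_centralizer_singleton_iff.1 ha)).eq.symm
      rw [← mul_smul, hc, mul_smul, (show z • q = q from hq)]
    have := card_le_of_le hCle
    rw [h48 z hz hz1] at this
    omega

end Cfsg.Agent.Lib.Suborbit46
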