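import Cfsg.Agent.Lib.Suborbit46.BOne

/-!
# The structure of the point stabiliser
-/

set_option autoImplicit false
set_option linter.unusedSectionVars false

namespace Cfsg.Agent.Lib.Suborbit46

open Subgroup
open scoped commutatorElement

universe u

variable {G : Type u} [Group G] [Finite G] {H P : Subgroup G}

/-- In the constrained case the core is `V`. -/
theorem Con.core_eq_V (C : Con G H P) : coreIn H P = V H P := by
  obtain ⟨g₁, hg₁, hg₁H⟩ := C.setup.exists_norm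
  obtain ⟨g, hg, hgH, hnle⟩ := C.exists_conj_not_le ⟨hg₁, hg₁H⟩
  set K := coreIn H P with hK
  have hgP : cj g P = P := cj_eq_self.2 hg
  obtain ⟨t, htV, htK⟩ := SetLike.not_le_iff_exists.1 hnle
  have htP : t ∈ P := by
    rw [← hgP]; exact cj_mono g (C.V_le.trans coreIn_le) htV
  -- `V' ∩ K ≤ Z` where `V' = V^g`
  have hVK : ∀ y ∈ cj g (V H P), y ∈ K → y ∈ omegaCenter P := by
    intro y hy hyK
    by_contra hyZ
    have hy' := mem_cj.1 hy
    by_cases h : g⁻¹ * y * g ∈ omegaCenter P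
    · exact hyZ (cj_omegaCenter_le hgP (mem_cj.2 h))
    have ht' : g⁻¹ * t * g ∉ omegaCenter P := fun h' => htK (C.Z_le (cj_omegaCenter_le hgP (mem_cj.2 h')))
    have := C.mul_mem_Z hy' (mem_cj.1 htV) h ht'
    have h2 : y * t ∈ omegaCenter P :=
      cj_omegaCenter_le hgP (mem_cj.2 (by simpa [mul_assoc] using this))
    exact htK (by simpa using mul_mem (inv_mem hyK) (C.Z_le h2))
  -- `[K, t] ≤ Z`
  have hVP : ∀ p ∈ P, ∀ y ∈ cj g (V H P), p * y * p⁻¹ ∈ cj g (V H P) := by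
    intro p hp y hy
    have hp' : g⁻¹ * p * g ∈ P := by rw [← mem_cj, hgP]; exact hp
    have := conj_V (H := H) (mem_cj.1 hy) (C.setup.le hp')
    exact mem_cj.2 (by simpa [mul_assoc] using this)
  have hcomm : ∀ k ∈ K, ⁅k, t⁆ ∈ omegaCenter P := fun k hk => by
    refine hVK _ ?_ ?_
    · rw [commutatorElement_def]
      exact mul_mem (hVP k (coreIn_le hk) t htV) (inv_mem htV)
    · have h1 := coreIn_conj (inv_mem hk) (C.setup.le htP)
      have e : ⁅k, t⁆ = k * (t * k⁻¹ * t⁻¹) := by rw [commutatorElement_def]; group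
      rw [e]
      exact mul_mem hk h1
  -- `K = V · C_K(t)`
  set F := K ⊓ centralizer ({t} : Set G) with hF
  have htt : t * t = 1 := by
    have := congrArg (fun y => g * y * g⁻¹) (C.sq_V (mem_cj.1 htV))
    simpa [mul_assoc] using this
  have hdec : ∀ k ∈ K, ∃ v ∈ V H P, v⁻¹ * k ∈ F := by
    intro k hk
    by_cases h : ⁅k, t⁆ = 1
    · exact ⟨1, one_mem _, by
        rw [inv_one, one_mul]
        exact Subgroup.mem_inf.2 ⟨hk,
          mem_centralizer_singleton_iff.2 (commutatorElement_eq_one_iff_mul_comm.1 h)⟩⟩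
    obtain ⟨v, hv, hvZ⟩ := C.exists_notMem_Z
    have hvt : ⁅v, t⁆ ≠ 1 := fun e =>
      hvZ (C.fixed hv htP htK (commutatorElement_eq_one_iff_mul_comm.1 e).symm)
    -- both commutators lie in `[P', V']`
    have hkP' : g⁻¹ * k * g ∈ P := by rw [← mem_cj, hgP]; exact coreIn_le hk
    have hvP' : g⁻¹ * v * g ∈ P := by rw [← mem_cj, hgP]; exact coreIn_le (C.V_le hv)
    have key : ∀ a : G, ⁅a, t⁆ = g * ⁅g⁻¹ * a * g, g⁻¹ * t * g⁆ * g⁻¹ := fun a => by
      simp [commutatorElement_def, mul_assoc]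
    have ne1 : ∀ a : G, ⁅a, t⁆ ≠ 1 → g⁻¹ * a * g ∈ P →
        g⁻¹ * t * g ∉ omegaCenter P ∧ g⁻¹ * a * g ∉ K := by
      intro a ha haP
      constructor <;> intro h' <;> refine ha ?_ <;> rw [key]
      · rw [C.comm_eq_one (mem_cj.1 htV) haP (Or.inl h')]; simp
      · rw [C.comm_eq_one (mem_cj.1 htV) haP (Or.inr h')]; simp
    obtain ⟨a1, a2⟩ := ne1 k h hkP'
    obtain ⟨b1, b2⟩ := ne1 v hvt hvP'
    have heq : ⁅k, t⁆ = ⁅v, t⁆ := by
      rw [key k, key v, C.comm_eq (mem_cj.1 htV) (mem_cj.1 htV) a1 b1 hkP' hvP' a2 b2]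
    refine ⟨v, hv, Subgroup.mem_inf.2 ⟨mul_mem (inv_mem (C.V_le hv)) hk, ?_⟩⟩
    rw [mem_centralizer_singleton_iff]
    rw [commutatorElement_def, commutatorElement_def, mul_left_inj] at heq
    calc v⁻¹ * k * t = v⁻¹ * (k * t * k⁻¹) * k := by group
      _ = v⁻¹ * (v * t * v⁻¹) * k := by rw [heq]
      _ = t * (v⁻¹ * k) := by group
  -- `F' = F^h` and `R = F ∩ F^h`
  obtain ⟨h, hh, hhP⟩ := C.setup.exists_notMem
  have hconjK : ∀ x ∈ H, ∀ k ∈ K, x * k * x⁻¹ ∈ K := fun x hx k hk => coreIn_conj hk hx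
  set R := F ⊓ cj h F with hR
  have hRK : R ≤ K := inf_le_left.trans inf_le_left
  have hRV : ∀ k ∈ K, ∃ v ∈ V H P, v⁻¹ * k ∈ R := by
    intro k hk
    obtain ⟨v₁, hv₁, hk₁⟩ := hdec k hk
    set k₁ := v₁⁻¹ * k with hk₁'
    have hk₁K : k₁ ∈ K := (Subgroup.mem_inf.1 hk₁).1
    have hk₁t : Commute k₁ t := mem_centralizer_singleton_iff.1 (Subgroup.mem_inf.1 hk₁).2
    have hk₂ : h⁻¹ * k₁ * h ∈ K := by simpa using hconjK h⁻¹ (inv_mem hh) k₁ hk₁K
    obtain ⟨v₂, hv₂, hk₂'⟩ := hdec _ hk₂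
    -- correct by an element of `Z`
    have hv₂' : h * v₂ * h⁻¹ ∈ V H P := conj_V hv₂ hh
    by_cases hz : h * v₂ * h⁻¹ ∈ omegaCenter P
    · refine ⟨v₁ * (h * v₂ * h⁻¹), mul_mem hv₁ hv₂', Subgroup.mem_inf.2 ⟨?_, ?_⟩⟩
      · have hzt : Commute (h * v₂ * h⁻¹) t := (hz.2.1 t htP).symm
        refine Subgroup.mem_inf.2 ⟨mul_mem (inv_mem (mul_mem (C.V_le hv₁) (C.V_le hv₂'))) hk, ?_⟩
        rw [mem_centralizer_singleton_iff,
          show (v₁ * (h * v₂ * h⁻¹))⁻¹ * k = (h * v₂ * h⁻¹)⁻¹ * k₁ by rw [hk₁']; group]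
        exact (hzt.inv_left.mul_left hk₁t).eq
      · rw [mem_cj, show h⁻¹ * ((v₁ * (h * v₂ * h⁻¹))⁻¹ * k) * h = v₂⁻¹ * (h⁻¹ * k₁ * h) by
          rw [hk₁']; group]
        exact hk₂'
    · -- an element of `Z` moved by `h t h⁻¹`
      obtain ⟨z, hzZ, hz0⟩ := SetLike.not_le_iff_exists.1 C.Z_not_le_Z0
      have hzh : h⁻¹ * z * h ∉ omegaCenter P := fun hm => hz0 (by
        rw [← C.eq_Z0 hh hhP]; exact Subgroup.mem_inf.2 ⟨hzZ, mem_cj.2 hm⟩)
      have hzV : h⁻¹ * z * h ∈ V H P := by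
        have := conj_V (Z_le_V (H := H) hzZ) (inv_mem hh)
        rwa [inv_inv] at this
      have hv₂Z : v₂ ∉ omegaCenter P ∨ v₂ ∈ omegaCenter P := (em _).symm
      rcases hv₂Z with hn | hm
      · refine ⟨v₁ * z, mul_mem hv₁ (Z_le_V hzZ), Subgroup.mem_inf.2 ⟨?_, ?_⟩⟩
        · have hzt : Commute z t := (hzZ.2.1 t htP).symm
          refine Subgroup.mem_inf.2 ⟨mul_mem (inv_mem (mul_mem (C.V_le hv₁) (C.Z_le hzZ))) hk, ?_⟩
          rw [mem_centralizer_singleton_iff, show (v₁ * z)⁻¹ * k = z⁻¹ * k₁ by rw [hk₁']; group]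
          exact (hzt.inv_left.mul_left hk₁t).eq
        · have hu : (h⁻¹ * z * h)⁻¹ * v₂ ∈ omegaCenter P :=
            C.mul_mem_Z (inv_mem hzV) hv₂ (fun e => hzh (by simpa using inv_mem e)) hn
          have huF : (h⁻¹ * z * h)⁻¹ * v₂ ∈ F := Subgroup.mem_inf.2 ⟨C.Z_le hu,
            mem_centralizer_singleton_iff.2 (hu.2.1 t htP).symm⟩
          rw [mem_cj, show h⁻¹ * ((v₁ * z)⁻¹ * k) * h =
            ((h⁻¹ * z * h)⁻¹ * v₂) * (v₂⁻¹ * (h⁻¹ * k₁ * h)) by rw [hk₁']; group]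
          exact mul_mem huF hk₂'
      · refine ⟨v₁, hv₁, Subgroup.mem_inf.2 ⟨hk₁, mem_cj.2 ?_⟩⟩
        have huF : v₂ ∈ F := Subgroup.mem_inf.2 ⟨C.Z_le hm,
          mem_centralizer_singleton_iff.2 (hm.2.1 t htP).symm⟩
        rw [show h⁻¹ * k₁ * h = v₂ * (v₂⁻¹ * (h⁻¹ * k₁ * h)) by group]
        exact mul_mem huF hk₂'
  have hRt : ∀ r ∈ R, t * r = r * t := fun r hr =>
    (mem_centralizer_singleton_iff.1 (Subgroup.mem_inf.1 (Subgroup.mem_inf.1 hr).1).2).symm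
  -- squares
  have hKsq : sq K ≤ sq R := sq_le fun k hk => by
    obtain ⟨v, hv, hr⟩ := hRV k hk
    have e : k * k = (v⁻¹ * k) * (v⁻¹ * k) := by
      have hkv : k * v = v * k := C.comm_core hv hk
      have hk1 : k * v⁻¹ = v⁻¹ * k := by rw [inv_eq_of_mul_eq_one_right (C.sq_V hv), hkv]
      calc k * k = (v⁻¹ * v⁻¹) * (k * k) := by
            rw [inv_eq_of_mul_eq_one_right (C.sq_V hv), C.sq_V hv, one_mul]
        _ = v⁻¹ * (v⁻¹ * k) * k := by group
        _ = v⁻¹ * (k * v⁻¹) * k := by rw [hk1]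
        _ = _ := by group
    rw [e]; exact sq_mem hr
  have hsqle : sq K ≤ sq (cj g K) := by
    refine hKsq.trans (sq_le fun r hr => sq_mem ?_)
    -- `R` centralises `V^g`, so lies in `K^g`
    rw [mem_cj]
    refine C.cent_V (C.setup.le (by rw [← mem_cj, hgP]; exact coreIn_le (hRK hr))) fun v hv => ?_
    have hy : g * v * g⁻¹ ∈ cj g (V H P) := conj_mem_cj hv
    have hc : r * (g * v * g⁻¹) = (g * v * g⁻¹) * r := by
      by_cases hyK : g * v * g⁻¹ ∈ K
      · exact (hVK _ hy hyK).2.1 r (coreIn_le (hRK hr))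
      have h1 : g * v * g⁻¹ * t ∈ K := C.setup.mul_mem_core C.ne_bot
        (hgP ▸ cj_mono g (C.V_le.trans coreIn_le) hy) htP hyK htK
      have h2 : Commute r (g * v * g⁻¹ * t) := (hVK _ (mul_mem hy htV) h1).2.1 r (coreIn_le (hRK hr))
      have h3 : Commute r t := (hRt r hr).symm
      have := h2.mul_right h3
      rwa [mul_assoc, htt, mul_one] at this
    have := congrArg (fun y => g⁻¹ * y * g) hc
    simpa [mul_assoc] using this
  have hsq : sq K = ⊥ := by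
    refine C.setup.eq_bot_of_norm ((sq_le fun a ha => mul_mem ha ha).trans coreIn_le_left) ?_ hgH ?_
    · exact fun x hx => cj_eq_self.1 (by
        rw [cj_sq, cj_eq_self.2 (le_normalizer_coreIn hx)])
    · rw [cj_sq]
      refine (Subgroup.eq_of_le_of_card_ge hsqle ?_).symm
      rw [← cj_sq, card_cj]
  -- `R` is central in `P`
  refine le_antisymm (fun k hk => ?_) C.V_le
  obtain ⟨v, hv, hr⟩ := hRV k hk
  have hrK : v⁻¹ * k ∈ K := hRK hr
  have hrZ : v⁻¹ * k ∈ omegaCenter P := by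
    refine ⟨coreIn_le hrK, fun p hp => ?_, sq_eq_bot hsq hrK⟩
    have := C.setup.le_of_core_le C.ne_bot (A := centralizer ({v⁻¹ * k} : Set G)) htP htK
      (fun k' hk' => mem_centralizer_singleton_iff.2
        (comm_of_sq_one (fun a ha => sq_eq_bot hsq ha) hk' hrK))
      (mem_centralizer_singleton_iff.2 (hRt _ hr)) hp
    exact mem_centralizer_singleton_iff.1 this
  simpa using mul_mem hv (Z_le_V (H := H) hrZ)

/-- An involution in `P` outside the core. -/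
theorem Con.exists_involution (C : Con G H P) :
    ∃ t ∈ P, t ∉ coreIn H P ∧ t * t = 1 := by
  obtain ⟨g₁, hg₁, hg₁H⟩ := C.setup.exists_norm
  obtain ⟨g, hg, -, hnle⟩ := C.exists_conj_not_le ⟨hg₁, hg₁H⟩
  obtain ⟨t, htV, htK⟩ := SetLike.not_le_iff_exists.1 hnle
  refine ⟨t, ?_, htK, ?_⟩
  · rw [← cj_eq_self.2 hg]; exact cj_mono g (C.V_le.trans coreIn_le) htV
  · have := congrArg (fun y => g * y * g⁻¹) (C.sq_V (mem_cj.1 htV))
    simpa [mul_assoc] using this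

/-- The orders in the constrained case. -/
theorem Con.card_cases (C : Con G H P) :
    (Nat.card (Z0 H P) = 1 ∧ Nat.card (V H P) = 4 ∧ Nat.card P = 8 ∧ Nat.card H = 24) ∨
      (Nat.card (Z0 H P) = 2 ∧ Nat.card (V H P) = 8 ∧ Nat.card P = 16 ∧ Nat.card H = 48) := by
  have h1 := C.card_V
  have h2 := C.card_Z
  have h3 := C.card_Z0_le
  have h4 := C.setup.card_core C.ne_bot
  have h5 := C.setup.card_eq
  rw [C.core_eq_V] at h4
  have h6 : 0 < Nat.card (Z0 H P) := Nat.card_pos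
  omega

end Cfsg.Agent.Lib.Suborbit46
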