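import Cfsg.Agent.Lib.Suborbit46.Six
import Cfsg.Agent.Lib.Suborbit46.Shape
import Cfsg.Agent.Lib.Suborbit46.AutIso
import Cfsg.Agent.Lib.BC77.CyclicCentPair.Main
import Cfsg.Agent.S0483
import Cfsg.Agent.Lib.Fusion.Thompson
import Cfsg.Agent.Lib.PGroups.MaximalClass
import Cfsg.Agent.Lib.PSLFacts.Involutions
import Cfsg.Agent.Lib.DicksonId.MaxCommon
import Cfsg.Agent.Lib.Linear.FamilyHom
import Cfsg.Agent.Lib.LargeExtra.Basic

/-!
# Suborbits of length three: point stabilisers of order twelve
-/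

set_option autoImplicit false
set_option linter.unusedSectionVars false
set_option linter.style.haveILetI false

namespace Cfsg.Agent.Lib.Suborbit46

open Subgroup

universe u

section PSL

open Cfsg.Agent.Lib Cfsg.Agent.Lib.PSLTwo.Sylow Cfsg.Agent.Lib.SL2Tori
  Cfsg.Agent.Lib.SL2Tori.Products

variable {F : Type*} [Field F] [Fintype F]

/-- Centralisers of involutions of `PSL(2,q)`, `q` odd. -/
theorem psl_centralizer (hodd : Fintype.card F % 2 = 1)
    {y : Matrix.ProjectiveSpecialLinearGroup (Fin 2) F} (hy : orderOf y = 2) :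
    (Fintype.card F % 4 = 1 → Nat.card ↥(centralizer ({y} : Set _)) + 1 = Fintype.card F) ∧
    (Fintype.card F % 4 = 3 → Nat.card ↥(centralizer ({y} : Set _)) = Fintype.card F + 1) := by
  have h2 : (2 : F) ≠ 0 := Cfsg.Agent.Lib.Linear.two_ne_zero_of_odd_card (Nat.odd_iff.2 hodd)
  have h1 : 1 ≤ Fintype.card F := Fintype.card_pos
  obtain ⟨g, rfl, hg⟩ := PSLFacts.Invol.trace_zero_of_involution hy
  have hgcd : Nat.gcd 2 (Fintype.card F - 1) = 2 := Nat.gcd_eq_left (by omega)
  have hpre : Nat.card (PSLTwo.ClassSize.pre g) =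
      2 * Nat.card ↥(centralizer ({proj g} : Set (Matrix.ProjectiveSpecialLinearGroup (Fin 2) F))) := by
    have h := DicksonId.card_pre
      (centralizer ({proj g} : Set (Matrix.ProjectiveSpecialLinearGroup (Fin 2) F)))
    rw [hgcd] at h
    refine (Nat.card_congr (Equiv.setCongr ?_)).trans h
    ext k
    show k ∈ PSLTwo.ClassSize.pre g ↔ proj k ∈ centralizer ({proj g} : Set _)
    rw [PSLTwo.ClassSize.mem_pre, mem_centralizer_singleton_iff, ← map_mul, ← map_mul,
      @eq_comm _ (proj (k * g)), proj_eq_iff]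
  obtain ⟨hv1, hv3⟩ := PSLFacts.Invol.card_pre h2 hg
  constructor
  · intro h
    have := hv1 h
    omega
  · intro h
    have := hv3 h
    omega

end PSL

variable {G : Type u} [Group G] [Finite G] {H P : Subgroup G} (S : Setup G H P)

include S

/-- The point stabiliser of order twelve. -/
structure TwelveData (G : Type u) [Group G] (H P : Subgroup G) (z c : G) : Prop where
  card : Nat.card H = 12
  zP : z ∈ P
  ne : z ≠ 1
  sq : ∀ p ∈ P, p * p = 1
  cent : centralizer ({z} : Set G) = H
  cH : c ∈ H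
  cP : c ∉ P
  ord : orderOf c = 3
  norm : normalizer (zpowers c : Set G) = H
  centX : ∀ g ∈ centralizer (zpowers c : Set G), g ∈ zpowers c ∨ z * g ∈ zpowers c

theorem Setup.twelve_data (h4 : Nat.card P = 4) : ∃ z c, TwelveData G H P z c := by
  haveI : Fact (Nat.Prime 2) := ⟨Nat.prime_two⟩
  haveI : Fact (Nat.Prime 3) := ⟨Nat.prime_three⟩
  have hP := S.ne_bot
  have hH : Nat.card H = 12 := by rw [S.card_eq, h4]
  obtain ⟨c₀, hc₀, hc₀P, hc₀K⟩ := (S.con_or_central hP).resolve_left fun C => by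
    rcases C.card_cases with h | h <;> omega
  obtain ⟨hsq, -, hcentral⟩ := S.central_case hP hc₀ hc₀P hc₀K
  have hK : Nat.card (coreIn H P) = 2 := by have := S.card_core hP; omega
  obtain ⟨⟨z, hzK⟩, hz⟩ := exists_prime_orderOf_dvd_card' (G := coreIn H P) 2 (by rw [hK])
  rw [← Subgroup.orderOf_coe] at hz
  simp only at hz
  have hzne : z ≠ 1 := fun e => by rw [e, orderOf_one] at hz; omega
  have hzH := coreIn_le_left hzK
  have hzc : ∀ h ∈ H, h * z = z * h := fun h hh => hcentral h hh z hzK
  obtain ⟨⟨c, hcH⟩, hc⟩ := exists_prime_orderOf_dvd_card' (G := H) 3 (by rw [hH]; norm_num)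
  rw [← Subgroup.orderOf_coe] at hc
  simp only at hc
  have hcP : c ∉ P := fun h => by
    have := Subgroup.card_dvd_of_le (zpowers_le.2 h)
    rw [Nat.card_zpowers, hc, h4] at this
    norm_num at this
  have hcomm : Commute z c := (hzc c hcH).symm
  set L := zpowers (z * c) with hL
  have hL6 : Nat.card L = 6 := by
    rw [hL, Nat.card_zpowers, hcomm.orderOf_mul_eq_mul_orderOf_of_coprime (by rw [hz, hc]; norm_num),
      hz, hc]
  have hLH : L ≤ H := zpowers_le.2 (mul_mem hzH hcH)
  have hidx : (L.subgroupOf H).index = 2 := by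
    have := (L.subgroupOf H).card_mul_index
    rw [Nat.card_congr (subgroupOfEquivOfLe hLH).toEquiv, hL6, hH] at this
    omega
  -- elements of `L`
  have hmemL : ∀ g ∈ L, g ∈ zpowers c ∨ z * g ∈ zpowers c := by
    intro g hg
    obtain ⟨i, rfl⟩ := hg
    simp only [hcomm.mul_zpow]
    rcases Int.even_or_odd i with ⟨k, rfl⟩ | ⟨k, rfl⟩
    · left
      rw [show k + k = 2 * k by ring, _root_.zpow_mul,
        show z ^ (2 : ℤ) = 1 by rw [zpow_two, hsq z (coreIn_le hzK)], _root_.one_zpow, one_mul]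
      exact zpow_mem (mem_zpowers c) _
    · right
      rw [_root_.zpow_add_one z, _root_.zpow_mul,
        show z ^ (2 : ℤ) = 1 by rw [zpow_two, hsq z (coreIn_le hzK)], _root_.one_zpow, one_mul,
        ← mul_assoc, hsq z (coreIn_le hzK), one_mul]
      exact zpow_mem (mem_zpowers c) _
  have hXL : ∀ g ∈ L, g * g ∈ zpowers c := by
    intro g hg
    obtain ⟨i, rfl⟩ := hg
    show (z * c) ^ i * (z * c) ^ i ∈ zpowers c
    rw [← (Commute.refl (z * c)).mul_zpow,
      show z * c * (z * c) = c * c by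
        calc z * c * (z * c) = z * (c * z) * c := by group
          _ = (z * z) * (c * c) := by rw [← hcomm.eq]; group
          _ = c * c := by rw [hsq z (coreIn_le hzK), one_mul]]
    exact zpow_mem (mul_mem (mem_zpowers c) (mem_zpowers c)) _
  have hHX : H ≤ normalizer (zpowers c : Set G) := by
    refine le_normalizer_of_conj_mem fun h hh a ha => ?_
    obtain ⟨i, rfl⟩ := ha
    rw [← conj_zpow]
    refine zpow_mem ?_ i
    have hcL : c ∈ L := by
      have h3 : c ^ 4 = c := by rw [pow_succ, show c ^ 3 = 1 from hc ▸ pow_orderOf_eq_one c, one_mul]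
      have h4' : (z * c) ^ 4 = c := by
        rw [hcomm.mul_pow, h3, show z ^ 4 = (z * z) * (z * z) by simp [pow_succ, mul_assoc],
          hsq z (coreIn_le hzK), one_mul, one_mul]
      rw [← h4']
      exact pow_mem (mem_zpowers _) 4
    have hn : (L.subgroupOf H).Normal := normal_of_index_eq_two hidx
    have hd : h * c * h⁻¹ ∈ L := (normal_subgroupOf_iff hLH).1 hn c h hcL hh
    have h3 : (h * c * h⁻¹) ^ 3 = 1 := by rw [conj_pow, show c ^ 3 = 1 from hc ▸ pow_orderOf_eq_one c]; simp
    have hd2 := hXL _ hd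
    have he : h * c * h⁻¹ = (h * c * h⁻¹ * (h * c * h⁻¹)) * (h * c * h⁻¹ * (h * c * h⁻¹)) := by
      generalize h * c * h⁻¹ = d at h3 ⊢
      calc d = d * d ^ 3 := by rw [h3, mul_one]
        _ = _ := by simp [pow_succ, mul_assoc]
    rw [he]
    exact mul_mem hd2 hd2
  have hXne : zpowers c ≠ ⊥ := fun e => by rw [zpowers_eq_bot] at e; rw [e, orderOf_one] at hc; omega
  have hNX : normalizer (zpowers c : Set G) = H :=
    le_antisymm (S.norm_le (zpowers_le.2 hcH) hXne hHX) hHX
  refine ⟨z, c, hH, coreIn_le hzK, hzne, hsq, S.centralizer_eq hzH hzne hzc, hcH, hcP, hc, hNX,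
    fun g hg => ?_⟩
  have hgH : g ∈ H := hNX ▸ centralizer_le_normalizer _ hg
  refine hmemL g (by_contra fun hgL => ?_)
  refine S.not_le_normalizer hP (S.le_normalizer hcH hcP Subgroup.le_normalizer ?_)
  refine centralizer_le_normalizer _ (mem_centralizer_iff.2 fun p hp => ?_)
  have hLc : ∀ l ∈ L, l * c = c * l := by
    rintro l ⟨i, rfl⟩
    exact ((hcomm.mul_left (Commute.refl c)).zpow_left i).eq
  by_cases hpL : p ∈ L
  · exact hLc p hpL
  have hm : (⟨p, S.le hp⟩ : H) * ⟨g, hgH⟩ ∈ L.subgroupOf H :=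
    (mul_mem_iff_of_index_two hidx).2 (by simp [mem_subgroupOf, hpL, hgL])
  rw [mem_subgroupOf] at hm
  have hgc : Commute g c := (mem_centralizer_iff.1 hg c (mem_zpowers c)).symm
  have hpc : Commute (p * g) c := hLc _ hm
  have := hpc.mul_left hgc.inv_left
  rwa [mul_assoc, mul_inv_cancel, mul_one] at this

omit S in
theorem TwelveData.orderOf_z {z c : G} (D : TwelveData G H P z c) : orderOf z = 2 :=
  haveI : Fact (Nat.Prime 2) := ⟨Nat.prime_two⟩
  orderOf_eq_prime (by rw [pow_two]; exact D.sq z D.zP) D.ne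

theorem TwelveData.centralizer_P {z c : G} (D : TwelveData G H P z c) {g : G}
    (hg : ∀ p ∈ P, g * p = p * g) : g ∈ P := by
  have hgH : g ∈ H := D.cent ▸ mem_centralizer_singleton_iff.2 (hg z D.zP)
  by_contra hgP
  exact S.not_le_normalizer S.ne_bot (S.le_normalizer hgH hgP Subgroup.le_normalizer
    (centralizer_le_normalizer _ (mem_centralizer_iff.2 fun p hp => (hg p hp).symm)))

omit S in
theorem TwelveData.isKleinFour {z c : G} (D : TwelveData G H P z c) (h4 : Nat.card P = 4) :
    IsKleinFour P :=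
  ⟨h4, by
    haveI : Nontrivial P := Finite.one_lt_card_iff_nontrivial.1 (by omega)
    have hd : Monoid.exponent P ∣ 2 := Monoid.exponent_dvd_iff_forall_pow_eq_one.2 fun p =>
      Subtype.ext (by simpa [pow_two] using D.sq p p.2)
    exact ((Nat.dvd_prime Nat.prime_two).1 hd).resolve_left fun e =>
      not_subsingleton P (Monoid.exp_eq_one_iff.1 e)⟩

/-- A Sylow `2`-subgroup of order four. -/
theorem TwelveData.of_sylow {z c : G} (D : TwelveData G H P z c) (h4 : Nat.card P = 4)
    (h8 : ¬ 8 ∣ Nat.card G) :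
    Nonempty (G ≃* Matrix.ProjectiveSpecialLinearGroup (Fin 2) (ZMod 11)) ∨
      Nonempty (G ≃* Matrix.ProjectiveSpecialLinearGroup (Fin 2) (ZMod 13)) := by
  haveI : Fact (Nat.Prime 2) := ⟨Nat.prime_two⟩
  haveI hK4 := D.isKleinFour h4
  have hndvd : ¬ 2 ∣ P.index := fun hd => by
    obtain ⟨k, hk⟩ := hd
    refine h8 ⟨k, ?_⟩
    rw [← P.card_mul_index, h4, hk]; ring
  let T : Sylow 2 G := S.twoP.toSylow hndvd
  obtain ⟨g, hg, hgH⟩ := S.exists_norm
  have hno : ∀ N : Subgroup G, N.index ≠ 2 := by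
    intro N hN
    haveI := normal_of_index_eq_two hN
    have hPN : ¬ P ≤ N := fun hle => by
      have h1 := Subgroup.card_dvd_of_le hle
      rw [h4] at h1
      obtain ⟨k, hk⟩ := h1
      exact h8 ⟨k, by rw [← N.card_mul_index, hN, hk]; ring⟩
    obtain ⟨p₀, hp₀, hp₀N⟩ := SetLike.not_le_iff_exists.1 hPN
    have h2 : Nat.card ↥(N ⊓ P) = 2 := by
      have hi : ((N ⊓ P).subgroupOf P).index = 2 := by
        rw [index_eq_two_iff]
        refine ⟨⟨p₀, hp₀⟩, fun b => ?_⟩
        have hm := mul_mem_iff_of_index_two hN (a := (b : G)) (b := p₀)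
        by_cases hb : (b : G) ∈ N
        · exact Or.inr ⟨Subgroup.mem_inf.2 ⟨hb, b.2⟩, fun h => hp₀N
            ((hm.1 (Subgroup.mem_inf.1 h).1).1 hb)⟩
        · exact Or.inl ⟨Subgroup.mem_inf.2 ⟨hm.2 (iff_of_false hb hp₀N), mul_mem b.2 hp₀⟩,
            fun h => hb (Subgroup.mem_inf.1 h).1⟩
      have := ((N ⊓ P).subgroupOf P).card_mul_index
      rw [hi, Nat.card_congr (subgroupOfEquivOfLe inf_le_right).toEquiv, h4] at this
      omega
    obtain ⟨⟨u, hu⟩, ho⟩ := exists_prime_orderOf_dvd_card' (G := ↥(N ⊓ P)) 2 (by rw [h2])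
    rw [← Subgroup.orderOf_coe] at ho
    simp only at ho
    have hu1 : u ≠ 1 := fun e => by rw [e, orderOf_one] at ho; omega
    have hcases : ∀ v ∈ N ⊓ P, v = 1 ∨ v = u := by
      intro v hv
      have hle : zpowers u ≤ N ⊓ P := zpowers_le.2 hu
      have he := Subgroup.eq_of_le_of_card_ge hle (by rw [h2, Nat.card_zpowers, ho])
      rw [← he] at hv
      obtain ⟨i, rfl⟩ := hv
      show u ^ i = 1 ∨ u ^ i = u
      rw [← zpow_mod_orderOf, ho]
      rcases Int.emod_two_eq_zero_or_one i with h | h <;> simp [h]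
    have hgu : g * u * g⁻¹ = u := by
      refine (hcases _ (Subgroup.mem_inf.2 ⟨?_, ?_⟩)).resolve_left fun e => hu1 ?_
      · exact (inferInstance : N.Normal).conj_mem u (Subgroup.mem_inf.1 hu).1 g
      · exact (mem_normalizer_iff.1 hg u).1 (Subgroup.mem_inf.1 hu).2
      · simpa [mul_assoc] using congrArg (fun w => g⁻¹ * w * g) e
    have hgu' : Commute g u := mul_inv_eq_iff_eq_mul.1 hgu
    have hzu : u ≠ z := fun e => by
      subst e
      exact hgH (D.cent ▸ mem_centralizer_singleton_iff.2 hgu')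
    have hW : ∀ p ∈ P, p = 1 ∨ p = z ∨ p = u ∨ p = z * u := by
      intro p hp
      by_contra! hne
      haveI := hK4
      have hfour : Nat.card P = 4 := h4
      have hsub : ({1, z, u, z * u, p} : Set G) ⊆ P := by
        simp only [Set.insert_subset_iff, Set.singleton_subset_iff]
        exact ⟨one_mem _, D.zP, (Subgroup.mem_inf.1 hu).2, mul_mem D.zP (Subgroup.mem_inf.1 hu).2, hp⟩
      have h5 : ({1, z, u, z * u, p} : Set G).ncard = 5 := by
        have hzu1 : z * u ≠ 1 := fun e => hzu (by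
          have := congrArg (z * ·) e
          simpa [← mul_assoc, D.sq z D.zP] using this)
        rw [Set.ncard_insert_of_notMem, Set.ncard_insert_of_notMem, Set.ncard_insert_of_notMem,
          Set.ncard_pair hne.2.2.2.symm]
        · simp [hne.2.2.1.symm, D.ne]
        · simp [Ne.symm hzu, hne.2.1.symm, hu1]
        · simp [D.ne.symm, hu1.symm, hzu1.symm, hne.1.symm]
      have := Set.ncard_le_ncard hsub (Set.toFinite _)
      rw [h5, ← Nat.card_coe_set_eq, SetLike.coe_sort_coe, h4] at this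
      omega
    have hgz : g * z * g⁻¹ ∈ P := (mem_normalizer_iff.1 hg z).1 D.zP
    have hgz2 : g * (g * z * g⁻¹) * g⁻¹ = z := by
      rcases hW _ hgz with h | h | h | h
      · exact absurd (by simpa [mul_assoc] using congrArg (fun w => g⁻¹ * w * g) h) D.ne
      · exact absurd (D.cent ▸ mem_centralizer_singleton_iff.2 (mul_inv_eq_iff_eq_mul.1 h)) hgH
      · exact absurd (by simpa [mul_assoc] using congrArg (fun w => g⁻¹ * w * g) (h.trans hgu.symm))
          (Ne.symm hzu)
      · rw [h]
        calc g * (z * u) * g⁻¹ = (g * z * g⁻¹) * (g * u * g⁻¹) := by group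
          _ = z := by rw [h, hgu, mul_assoc, D.sq u (Subgroup.mem_inf.1 hu).2, mul_one]
    have hg2 : g * g ∈ P := D.centralizer_P S fun p hp => by
      have cz : Commute (g * g) z := by
        refine mul_inv_eq_iff_eq_mul.1 ?_
        simpa [mul_assoc] using hgz2
      have cu : Commute (g * g) u := hgu'.mul_left hgu'
      rcases hW p hp with rfl | rfl | rfl | rfl
      · simp
      · exact cz.eq
      · exact cu.eq
      · exact (cz.mul_right cu).eq
    have hgp : IsPGroup 2 (zpowers g) := by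
      refine IsPGroup.of_card (n := (Nat.card (zpowers g)).primeFactorsList.length)
        (Nat.eq_prime_pow_of_unique_prime_dvd Nat.card_pos.ne' fun {r} hr hd => ?_)
      have : orderOf g ∣ 2 ^ 2 := by
        refine orderOf_dvd_of_pow_eq_one ?_
        have := D.sq _ hg2
        rw [show g ^ 2 ^ 2 = g * g * (g * g) by norm_num [pow_succ, mul_assoc]]
        exact this
      rw [Nat.card_zpowers] at hd
      exact (Nat.prime_dvd_prime_iff_eq hr Nat.prime_two).1 (hr.dvd_of_dvd_pow (hd.trans this))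
    have hjoin : IsPGroup 2 ↥(zpowers g ⊔ P) :=
      IsPGroup.to_sup_of_normal_right' hgp S.twoP (zpowers_le.2 hg)
    have heq : zpowers g ⊔ P = P := T.3 hjoin le_sup_right
    exact hgH (S.le (heq ▸ mem_sup_left (mem_zpowers g)))
  haveI := S.isSimpleGroup S.ne_bot hno
  have hnc : ¬ ∀ a b : G, a * b = b * a := fun h => S.notSol (Group.isSolvable_of_comm h)
  obtain ⟨eD⟩ : Nonempty (P ≃* DihedralGroup 2) := IsKleinFour.nonempty_mulEquiv
  rcases BC77.CyclicCentPair.gw_simple (fun {X} _ _ _ R n hn hR => Cfsg.Agent.S0483.result R n hn hR)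
    hnc T (m := 2) eD with ⟨F, hF, hFt, hodd, -, ⟨e⟩⟩ | ⟨⟨e⟩⟩
  · have hz : orderOf (e z) = 2 := by rw [e.orderOf_eq]; exact D.orderOf_z
    have h12 : Nat.card ↥(centralizer ({e z} : Set _)) = 12 := by
      rw [← Alternating.centralizer_map_mulEquiv_card e z, D.cent, D.card]
    obtain ⟨h1, h3⟩ := psl_centralizer (F := F) (Nat.odd_iff.1 hodd) hz
    have hmod : Fintype.card F % 4 = 1 ∨ Fintype.card F % 4 = 3 := by
      have := Nat.odd_iff.1 hodd; omega
    rcases hmod with h | h
    · right
      haveI : Fact (Nat.Prime 13) := ⟨by norm_num⟩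
      have := h1 h
      exact ⟨e.trans (Linear.nonempty_pslCongr_zmod (ι := Fin 2) 13 (by omega)).some⟩
    · left
      haveI : Fact (Nat.Prime 11) := ⟨by norm_num⟩
      have := h3 h
      exact ⟨e.trans (Linear.nonempty_pslCongr_zmod (ι := Fin 2) 11 (by omega)).some⟩
  · refine absurd ?_ h8
    rw [Nat.card_congr e.toEquiv, nat_card_alternatingGroup, Nat.card_eq_fintype_card,
      Fintype.card_fin]
    decide

/-- A Sylow `2`-subgroup of order at least eight. -/
theorem TwelveData.of_not_sylow {z c : G} (D : TwelveData G H P z c) (h4 : Nat.card P = 4)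
    (h8 : 8 ∣ Nat.card G) :
    Nonempty (G ≃* Equiv.Perm (Fin 5)) ∨
      Nonempty (G ≃* GL (Fin 2) (ZMod 7) ⧸ center (GL (Fin 2) (ZMod 7))) := by
  haveI : Fact (Nat.Prime 2) := ⟨Nat.prime_two⟩
  obtain ⟨T, hPT⟩ := S.twoP.exists_le_sylow
  obtain ⟨n, hn⟩ := IsPGroup.iff_card.1 T.2
  have hn3 : 3 ≤ n := by
    have h := (show 2 ^ 3 ∣ Nat.card G by simpa using h8)
    have hd : 2 ^ 3 ∣ Nat.card (T : Subgroup G) := T.pow_dvd_card_of_pow_dvd_card h
    rw [hn] at hd
    exact (Nat.pow_dvd_pow_iff_le_right (by norm_num)).1 hd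
  set A := P.subgroupOf (T : Subgroup G)
  have hA : Nat.card A = 2 ^ 2 := by
    rw [Nat.card_congr (subgroupOfEquivOfLe hPT).toEquiv, h4]; norm_num
  have hCA : centralizer (A : Set (T : Subgroup G)) = A := by
    ext x
    rw [mem_centralizer_iff]
    refine ⟨fun hx => mem_subgroupOf.2 (D.centralizer_P S fun p hp => ?_), fun hx a ha => ?_⟩
    · exact (congrArg Subtype.val (hx ⟨p, hPT hp⟩ (mem_subgroupOf.2 hp))).symm
    · exact Subtype.ext (comm_of_sq_one D.sq (mem_subgroupOf.1 ha) (mem_subgroupOf.1 hx))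
  haveI : Group.IsNilpotent (T : Subgroup G) := T.2.isNilpotent
  have hclass := PGroups.class_of_self_centralizing_sq n A hn hA hCA
  have hd := PGroups.index_commutator_of_class (p := 2) n (by omega) hn hclass
  obtain ⟨C, hC, hC2⟩ := PGroups.exists_cyclic_index_two n hn3 hn (by simpa using hd)
  haveI := hC
  set M := C.map (T : Subgroup G).subtype with hM
  have hMT : M ≤ T := map_subtype_le C
  have hMrel : M.relIndex T = 2 := by rw [relIndex, subgroupOf, hM, comap_map_eq_self_of_injective (T : Subgroup G).subtype_injective]; exact hC2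
  have hzM : ∀ g : G, g * z * g⁻¹ ∉ M := by
    intro g hgM
    set y := g * z * g⁻¹ with hy
    have hyne : y ≠ 1 := fun e => D.ne (by simpa [hy, mul_assoc] using congrArg (fun w => g⁻¹ * w * g) e)
    have hy2 : y * y = 1 := by
      have := congrArg (fun w => g * w * g⁻¹) (D.sq z D.zP)
      simpa [hy, mul_assoc] using this
    have hyo : orderOf y = 2 := orderOf_eq_prime (by rw [pow_two, hy2]) hyne
    haveI : IsCyclic M := hM ▸ isCyclic_of_surjective
      (C.equivMapOfInjective _ (T : Subgroup G).subtype_injective).toMonoidHom (MulEquiv.surjective _)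
    have hcent : ∀ s ∈ (T : Subgroup G), s * y = y * s := by
      intro s hs
      have hn' : (M.subgroupOf (T : Subgroup G)).Normal := normal_of_index_eq_two hMrel
      have hsy : s * y * s⁻¹ ∈ M := (normal_subgroupOf_iff hMT).1 hn' y s hgM hs
      have hso : orderOf (s * y * s⁻¹) = 2 := by
        rw [← MulAut.conj_apply, MulEquiv.orderOf_eq, hyo]
      letI : Fintype M := Fintype.ofFinite _
      have hu := IsCyclic.card_orderOf_eq_totient (α := M) (d := 2) (by
        have h := orderOf_dvd_natCard (⟨y, hgM⟩ : M)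
        rwa [← Subgroup.orderOf_coe, hyo, Nat.card_eq_fintype_card] at h)
      rw [Nat.totient_two, Finset.card_eq_one] at hu
      obtain ⟨w, hw⟩ := hu
      have hmem : ∀ v : M, orderOf v = 2 → v = w := fun v hv =>
        Finset.mem_singleton.1 (hw ▸ Finset.mem_filter.2 ⟨Finset.mem_univ v, hv⟩)
      have he := (hmem ⟨s * y * s⁻¹, hsy⟩ (by rw [← Subgroup.orderOf_coe]; exact hso)).trans
        (hmem ⟨y, hgM⟩ (by rw [← Subgroup.orderOf_coe]; exact hyo)).symm
      exact mul_inv_eq_iff_eq_mul.1 (congrArg Subtype.val he)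
    have hle : (T : Subgroup G) ≤ centralizer ({y} : Set G) := fun s hs =>
      mem_centralizer_singleton_iff.2 (hcent s hs)
    have hdvd := Subgroup.card_dvd_of_le hle
    have h12 : Nat.card ↥(centralizer ({y} : Set G)) = 12 := by
      rw [hy, ← MulAut.conj_apply, ← Alternating.centralizer_map_mulEquiv_card (MulAut.conj g) z,
        D.cent, D.card]
    rw [hn, h12] at hdvd
    have h8' : 8 ∣ 12 := (pow_dvd_pow 2 hn3).trans hdvd
    norm_num at h8'
  have hMidx : M.index % 4 = 2 := by
    have h1 := relIndex_mul_index hMT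
    rw [hMrel] at h1
    obtain ⟨k, hk⟩ := Nat.odd_iff.2 (Nat.two_dvd_ne_zero.1 T.not_dvd_index)
    omega
  obtain ⟨N, hN2, hzN⟩ := Fusion.Thompson.exists_index_two_of_fixedPointFree (G := G) (α := G ⧸ M)
    hMidx z D.orderOf_z (fun x => by
      induction x using QuotientGroup.induction_on with
      | H k =>
        intro he
        rw [MulAction.Quotient.smul_mk, smul_eq_mul, QuotientGroup.eq] at he
        refine hzM k⁻¹ ?_
        simpa [mul_assoc] using M.inv_mem he)
  haveI := normal_of_index_eq_two hN2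
  have hcN : c ∈ N := by
    have h3 : c ^ 3 = 1 := D.ord ▸ pow_orderOf_eq_one c
    have h := sq_mem_of_index_two hN2 (c * c)
    rwa [show (c * c) ^ 2 = c by
      calc (c * c) ^ 2 = c ^ 3 * c := by simp [pow_succ, mul_assoc]
        _ = c := by rw [h3, one_mul]] at h
  set X := (zpowers c).subgroupOf N
  have hXN : zpowers c ≤ N := zpowers_le.2 hcN
  have hX3 : Nat.card X = 3 := by
    rw [Nat.card_congr (subgroupOfEquivOfLe hXN).toEquiv, Nat.card_zpowers, D.ord]
  have hCX : centralizer (X : Set N) = X := by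
    ext x
    rw [mem_centralizer_iff]
    refine ⟨fun hx => ?_, fun hx a ha => ?_⟩
    · rcases D.centX (x : G) (mem_centralizer_iff.2 fun a ha =>
        congrArg Subtype.val (hx ⟨a, hXN ha⟩ (mem_subgroupOf.2 ha))) with h | h
      · exact mem_subgroupOf.2 h
      · exact absurd (by simpa using mul_mem (hXN h) (inv_mem x.2)) hzN
    · exact Subtype.ext (setLike_mul_comm (mem_subgroupOf.1 ha) (mem_subgroupOf.1 hx))
  have hNne : N ≠ ⊥ := fun e => hcN |> fun h => by
    rw [e, mem_bot] at h
    have := D.ord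
    rw [h, orderOf_one] at this
    omega
  have hpc : ∀ E : Subgroup N, E.Normal → IsPGroup 2 E → E = ⊥ := by
    intro E hE hE2
    haveI := hE
    set Q := (Cfsg.pCore 2 N).map N.subtype with hQ
    have hQn : Q.Normal := ⟨fun x hx g => by
      obtain ⟨y, hy, rfl⟩ := hx
      let φ : MulAut N := MulAut.conjNormal g
      have hle : (Cfsg.pCore 2 N).map φ.toMonoidHom ≤ Cfsg.pCore 2 N := by
        unfold Cfsg.pCore
        rw [map_le_iff_le_comap]
        refine sSup_le fun R hR => map_le_iff_le_comap.1 (le_sSup ⟨?_, hR.2.map _⟩)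
        exact hR.1.map _ φ.surjective
      exact ⟨φ y, hle (mem_map_of_mem _ hy), MulAut.conjNormal_apply g y⟩⟩
    have hQ2 : IsPGroup 2 Q := (LargeExtra.Basic.pCore_isPGroup N).map _
    have hb := S.eq_bot_of_two hQn hQ2
    rw [hQ, map_eq_bot_iff_of_injective _ N.subtype_injective] at hb
    exact le_bot_iff.1 (hb ▸ le_sSup ⟨hE, hE2⟩)
  have hcentN : centralizer (N : Set G) = ⊥ := by
    by_contra hne
    have hdis : N ⊓ centralizer (N : Set G) = ⊥ := by
      haveI : (N ⊓ centralizer (N : Set G)).Normal := inferInstance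
      refine S.normal_eq_bot (Group.isSolvable_of_comm fun a b => Subtype.ext ?_)
      exact mem_centralizer_iff.1 (Subgroup.mem_inf.1 b.2).2 a (Subgroup.mem_inf.1 a.2).1
    have hs : Group.IsSolvable ↥(centralizer (N : Set G)) := by
      refine Group.isSolvable_of_comm fun a b => Subtype.ext ?_
      have hone : ∀ w ∈ centralizer (N : Set G), w ∈ N → w = 1 := fun w hw hwN => by
        have : w ∈ N ⊓ centralizer (N : Set G) := Subgroup.mem_inf.2 ⟨hwN, hw⟩
        rwa [hdis, mem_bot] at this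
      by_cases ha : (a : G) ∈ N
      · simp [hone a a.2 ha]
      by_cases hb : (b : G) ∈ N
      · simp [hone b b.2 hb]
      have hab := hone ((a : G) * b) (mul_mem a.2 b.2)
        ((mul_mem_iff_of_index_two hN2).2 (iff_of_false ha hb))
      have hba := hone ((b : G) * a) (mul_mem b.2 a.2)
        ((mul_mem_iff_of_index_two hN2).2 (iff_of_false hb ha))
      simp [hab, hba]
    exact hne (S.normal_eq_bot hs)
  rcases selfThree X hX3 hCX (S.notSol_of_index_two hN2) hpc with ⟨⟨e⟩⟩ | ⟨⟨e⟩⟩
  · left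
    obtain ⟨a⟩ := equiv_mulAut N e hN2 hcentN card_mulAut_alt_five
    exact ⟨a.trans perm_five_equiv.some⟩
  · right
    obtain ⟨hcard, ⟨b⟩⟩ := pgl_seven
    obtain ⟨a⟩ := equiv_mulAut N e hN2 hcentN hcard
    exact ⟨a.trans b⟩

end Cfsg.Agent.Lib.Suborbit46
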