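import Cfsg.Agent.Lib.Suborbit46.Reduce
import Cfsg.Agent.Lib.Suborbit46.Twelve
import Cfsg.Agent.Lib.Suborbit46.Case24
import Cfsg.Agent.Lib.Suborbit46.Case48

/-!
# Groups with a suborbit of length three
-/

set_option autoImplicit false
set_option linter.unusedSectionVars false

namespace Cfsg.Agent.Lib.Suborbit46

open Subgroup

universe u

variable {G : Type u} [Group G] [Finite G] {H P : Subgroup G}

theorem Setup.classification (S : Setup G H P) :
    Nonempty (G ≃* alternatingGroup (Fin 5)) ∨ Nonempty (G ≃* Equiv.Perm (Fin 5)) ∨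
      Nonempty (G ≃* GL (Fin 2) (ZMod 7) ⧸ center (GL (Fin 2) (ZMod 7))) ∨
      Nonempty (G ≃* Matrix.ProjectiveSpecialLinearGroup (Fin 2) (ZMod 11)) ∨
      Nonempty (G ≃* Matrix.ProjectiveSpecialLinearGroup (Fin 2) (ZMod 13)) ∨
      (∃ p : ℕ, p.Prime ∧ (p % 16 = 1 ∨ p % 16 = 15) ∧
        Nonempty (G ≃* Matrix.ProjectiveSpecialLinearGroup (Fin 2) (ZMod p))) ∨
      Nonempty (G ≃* Matrix.ProjectiveSpecialLinearGroup (Fin 3) (ZMod 3)) ∨
      (∃ N : Subgroup G, N.Normal ∧ N.index = 2 ∧ centralizer (N : Set G) = ⊥ ∧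
        Nonempty (N ≃* Matrix.ProjectiveSpecialLinearGroup (Fin 3) (ZMod 3))) := by
  have hP := S.ne_bot
  rcases S.con_or_central hP with C | ⟨d, hd, hdP, hdK⟩
  · rcases C.card_cases with ⟨h0, h1, h2, h3⟩ | ⟨h0, h1, h2, h3⟩
    · rcases C.case24 h0 h1 h2 h3 with h | h
      · exact Or.inr (Or.inr (Or.inr (Or.inr (Or.inr (Or.inl h)))))
      · exact Or.inr (Or.inr (Or.inr (Or.inr (Or.inr (Or.inr (Or.inl h))))))
    · exact Or.inr (Or.inr (Or.inr (Or.inr (Or.inr (Or.inr (Or.inr (C.case48 h0 h1 h2 h3)))))))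
  · obtain ⟨-, hK, -⟩ := S.central_case hP hd hdP hdK
    have h := S.card_core hP
    have hpos : 0 < Nat.card (coreIn H P) := Nat.card_pos
    obtain h2 | h4 : Nat.card P = 2 ∨ Nat.card P = 4 := by omega
    · exact Or.inl (S.six h2)
    obtain ⟨z, c, D⟩ := S.twelve_data h4
    by_cases h8 : 8 ∣ Nat.card G
    · rcases D.of_not_sylow S h4 h8 with h | h
      · exact Or.inr (Or.inl h)
      · exact Or.inr (Or.inr (Or.inl h))
    · rcases D.of_sylow S h4 h8 with h | h
      · exact Or.inr (Or.inr (Or.inr (Or.inl h)))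
      · exact Or.inr (Or.inr (Or.inr (Or.inr (Or.inl h))))

end Cfsg.Agent.Lib.Suborbit46
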