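import Cfsg.Agent.Lib.Suborbit46.Base

/-!
# `Z₀` has order at most two, and the commutator `[P, V]` is a single involution `ω ∉ Z₀`
-/

set_option autoImplicit false
set_option linter.unusedSectionVars false

namespace Cfsg.Agent.Lib.Suborbit46

open Subgroup
open scoped commutatorElement

universe u

variable {G : Type u} [Group G] [Finite G] {H P : Subgroup G}

omit [Finite G] in
theorem Z0_le_V : Z0 H P ≤ V H P := inf_le_left

variable (C : Con G H P)

include C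

theorem Con.ne_Z : V H P ≠ omegaCenter P := fun e => by
  have := C.card_V
  rw [e] at this
  have hpos : 0 < Nat.card (omegaCenter P) := Nat.card_pos
  omega

theorem Con.exists_notMem_Z : ∃ v ∈ V H P, v ∉ omegaCenter P := by
  by_contra! h
  exact C.ne_Z (le_antisymm h Z_le_V)

theorem Con.mul_mem_Z {v w : G} (hv : v ∈ V H P) (hw : w ∈ V H P) (hv' : v ∉ omegaCenter P)
    (hw' : w ∉ omegaCenter P) : v * w ∈ omegaCenter P := by
  have h2 : ((omegaCenter P).subgroupOf (V H P)).index = 2 := by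
    have := ((omegaCenter P).subgroupOf (V H P)).card_mul_index
    rw [Nat.card_congr (subgroupOfEquivOfLe Z_le_V).toEquiv, C.card_V] at this
    exact Nat.eq_of_mul_eq_mul_left Nat.card_pos (by linarith)
  have := (mul_mem_iff_of_index_two h2 (a := ⟨v, hv⟩) (b := ⟨w, hw⟩)).2
    (by simp [mem_subgroupOf, hv', hw'])
  simpa [mem_subgroupOf] using this

theorem Con.Z0_le : Z0 H P ≤ omegaCenter P := fun z hz =>
  ⟨coreIn_le (C.V_le (mem_Z0.1 hz).1), fun p hp => (mem_Z0.1 hz).2 p (C.setup.le hp),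
    C.sq_V (mem_Z0.1 hz).1⟩

theorem Con.eq_Z0 {h : G} (hh : h ∈ H) (hn : h ∉ P) :
    omegaCenter P ⊓ cj h (omegaCenter P) = Z0 H P := by
  refine le_antisymm (fun z hz => mem_Z0.2 ⟨Z_le_V hz.1, fun x hx => ?_⟩)
    (le_inf C.Z0_le fun z hz => mem_cj.2 ?_)
  · have hle : P ⊔ cj h P ≤ centralizer ({z} : Set G) := by
      refine sup_le (fun p hp => mem_centralizer_singleton_iff.2 (hz.1.2.1 p hp)) fun p hp => ?_
      rw [mem_centralizer_singleton_iff]
      have h1 := (mem_cj.1 hz.2).2.1 _ (mem_cj.1 hp)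
      have := congrArg (fun y => h * y * h⁻¹) h1
      simpa [mul_assoc] using this
    rw [C.setup.sup_conj_eq C.ne_bot hh hn] at hle
    exact mem_centralizer_singleton_iff.1 (hle hx)
  · obtain ⟨h1, h2⟩ := mem_Z0.1 hz
    rw [mul_assoc, ← h2 h hh, inv_mul_cancel_left]
    exact C.Z0_le hz

theorem Con.Z_not_le_Z0 : ¬ omegaCenter P ≤ Z0 H P := fun h => by
  obtain ⟨c, hc, hcP⟩ := C.setup.exists_notMem
  have hV : V H P ≤ omegaCenter P := (closure_le _).2 fun y ⟨k, hk, z, hz, e⟩ => by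
    rw [e, (mem_Z0.1 (h hz)).2 k hk, mul_inv_cancel_right]
    exact hz
  exact C.ne_Z (le_antisymm hV Z_le_V)

theorem Con.mul_mem_Z0 {v w : G} (hv : v ∈ omegaCenter P) (hw : w ∈ omegaCenter P)
    (hv' : v ∉ Z0 H P) (hw' : w ∉ Z0 H P) : v * w ∈ Z0 H P := by
  obtain ⟨h, hh, hn⟩ := C.setup.exists_notMem
  rw [← C.eq_Z0 hh hn] at hv' hw' ⊢
  have key : ∀ u ∈ omegaCenter P, u ∉ omegaCenter P ⊓ cj h (omegaCenter P) →
      h⁻¹ * u * h ∈ V H P ∧ h⁻¹ * u * h ∉ omegaCenter P := fun u hu hu' => by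
    refine ⟨?_, fun hm => hu' (Subgroup.mem_inf.2 ⟨hu, mem_cj.2 hm⟩)⟩
    have := conj_V (Z_le_V (H := H) hu) (inv_mem hh)
    rwa [inv_inv] at this
  obtain ⟨a1, a2⟩ := key v hv hv'
  obtain ⟨b1, b2⟩ := key w hw hw'
  refine Subgroup.mem_inf.2 ⟨mul_mem hv hw, mem_cj.2 ?_⟩
  have := C.mul_mem_Z a1 b1 a2 b2
  simpa [mul_assoc] using this

theorem Con.card_Z : Nat.card (omegaCenter P) = 2 * Nat.card (Z0 H P) := by
  obtain ⟨z, hz, hz'⟩ := SetLike.not_le_iff_exists.1 C.Z_not_le_Z0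
  have hi : ((Z0 H P).subgroupOf (omegaCenter P)).index = 2 := by
    rw [index_eq_two_iff]
    refine ⟨⟨z, hz⟩, fun b => ?_⟩
    by_cases hb : (b : G) ∈ Z0 H P
    · refine Or.inr ⟨hb, fun h => hz' ?_⟩
      simpa using mul_mem (inv_mem hb) (mem_subgroupOf.1 h)
    · exact Or.inl ⟨C.mul_mem_Z0 b.2 hz hb hz', fun h => hb h⟩
  have := ((Z0 H P).subgroupOf (omegaCenter P)).card_mul_index
  rw [hi, Nat.card_congr (subgroupOfEquivOfLe C.Z0_le).toEquiv] at this
  omega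

theorem Con.centralizer_Z0 {z : G} (hz : z ∈ Z0 H P) (h1 : z ≠ 1) :
    centralizer ({z} : Set G) = H :=
  C.setup.centralizer_eq (C.setup.le (C.Z0_le hz).1) h1 (mem_Z0.1 hz).2

theorem Con.conj_notMem_Z0 {z g : G} (hz : z ∈ Z0 H P) (h1 : z ≠ 1) (hg : g ∉ H) :
    g * z * g⁻¹ ∉ Z0 H P := by
  intro hz'
  have hne : g * z * g⁻¹ ≠ 1 := fun e => h1 (conj_eq_one_iff.1 e)
  have hC := C.centralizer_Z0 hz' hne
  refine hg (C.setup.normalizer_eq ▸ cj_eq_self.1 ?_)
  ext x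
  conv_rhs => rw [← hC]
  rw [mem_cj, mem_centralizer_singleton_iff]
  conv_lhs => rw [← C.centralizer_Z0 hz h1, mem_centralizer_singleton_iff]
  constructor <;> intro e
  · have := congrArg (fun y => g * y * g⁻¹) e
    simpa [mul_assoc] using this
  · have := congrArg (fun y => g⁻¹ * y * g) e
    simpa [mul_assoc] using this

theorem Con.card_Z0_le : Nat.card (Z0 H P) ≤ 2 := by
  classical
  obtain ⟨g, hg, hgH⟩ := C.setup.exists_norm
  by_contra hgt
  have h3 : 3 ≤ Nat.card (Z0 H P) := by omega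
  obtain ⟨a, ha, a1⟩ : ∃ a ∈ Z0 H P, a ≠ 1 := by
    by_contra! h
    have : Z0 H P = ⊥ := eq_bot_iff.2 fun x hx => mem_bot.2 (h x hx)
    rw [this, Subgroup.card_bot] at h3
    omega
  obtain ⟨b, hb, b1, b2⟩ : ∃ b ∈ Z0 H P, b ≠ 1 ∧ b ≠ a := by
    by_contra! h
    have hs : (Z0 H P : Set G) ⊆ {1, a} := fun x hx => by
      by_cases e : x = 1
      · simp [e]
      · simp [h x hx e]
    have h' := Set.ncard_le_ncard hs (Set.toFinite _)
    rw [← Nat.card_coe_set_eq] at h'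
    have h'' := Set.ncard_insert_le (1 : G) {a}
    rw [Set.ncard_singleton] at h''
    simp only [SetLike.coe_sort_coe] at h'
    omega
  have hgZ : ∀ z ∈ Z0 H P, g * z * g⁻¹ ∈ omegaCenter P := fun z hz =>
    cj_omegaCenter_le (cj_eq_self.2 hg) (conj_mem_cj (C.Z0_le hz))
  have hab : a⁻¹ * b ≠ 1 := fun e => b2 ((inv_mul_eq_one.1 e).symm)
  have key := C.mul_mem_Z0 (inv_mem (hgZ a ha)) (hgZ b hb)
    (fun h => C.conj_notMem_Z0 ha a1 hgH (by simpa using inv_mem h))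
    (C.conj_notMem_Z0 hb b1 hgH)
  refine C.conj_notMem_Z0 (mul_mem (inv_mem ha) hb) hab hgH ?_
  simpa [mul_assoc] using key

theorem Con.conj_mem_V {v x : G} (hv : v ∈ V H P) (hx : x ∈ P) : x * v * x⁻¹ ∈ V H P :=
  conj_V hv (C.setup.le hx)

theorem Con.comm_mem {v x : G} (hv : v ∈ V H P) (hx : x ∈ P) : ⁅x, v⁆ ∈ V H P := by
  rw [commutatorElement_def]
  exact mul_mem (C.conj_mem_V hv hx) (inv_mem hv)

theorem Con.comm_eq_one {v x : G} (hv : v ∈ V H P) (hx : x ∈ P)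
    (h : v ∈ omegaCenter P ∨ x ∈ coreIn H P) : ⁅x, v⁆ = 1 := by
  rw [commutatorElement_eq_one_iff_mul_comm]
  rcases h with h | h
  · exact h.2.1 x hx
  · exact C.comm_core hv h

theorem Con.comm_ne_one {v x : G} (hv : v ∈ V H P) (hx : x ∈ P) (hv' : v ∉ omegaCenter P)
    (hx' : x ∉ coreIn H P) : ⁅x, v⁆ ≠ 1 := fun e =>
  hv' (C.fixed hv hx hx' (commutatorElement_eq_one_iff_mul_comm.1 e))

/-- The commutator does not depend on the chosen elements. -/
theorem Con.comm_eq {v w x y : G} (hv : v ∈ V H P) (hw : w ∈ V H P) (hv' : v ∉ omegaCenter P)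
    (hw' : w ∉ omegaCenter P) (hx : x ∈ P) (hy : y ∈ P) (hx' : x ∉ coreIn H P)
    (hy' : y ∉ coreIn H P) : ⁅x, v⁆ = ⁅y, w⁆ := by
  have hz := C.mul_mem_Z hv hw hv' hw'
  have hk := C.setup.mul_mem_core C.ne_bot (inv_mem hy) hx (fun h => hy' (by simpa using inv_mem h)) hx'
  have e1 : y⁻¹ * x * v * (y⁻¹ * x)⁻¹ = v := by
    rw [C.comm_core hv hk, mul_inv_cancel_right]
  have e2 : x * v * x⁻¹ = y * v * y⁻¹ := by
    have := congrArg (fun u => y * u * y⁻¹) e1
    simpa [mul_assoc] using this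
  have e3 : v = v * w * w := by rw [mul_assoc, C.sq_V hw, mul_one]
  rw [commutatorElement_def, commutatorElement_def, e2]
  conv_lhs => rw [e3]
  have e4 : y * (v * w * w) * y⁻¹ = v * w * (y * w * y⁻¹) := by
    rw [← mul_assoc y, hz.2.1 y hy]; group
  rw [e4, mul_inv_rev, ← mul_assoc (_ * (y * w * y⁻¹)), mul_assoc (v * w),
    ← commutatorElement_def y w, C.comm_V (mul_mem hv hw) (C.comm_mem hw hy), mul_inv_cancel_right]

theorem Con.comm_mem_Z {v x : G} (hv : v ∈ V H P) (hx : x ∈ P) : ⁅x, v⁆ ∈ omegaCenter P := by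
  by_cases h : v ∈ omegaCenter P ∨ x ∈ coreIn H P
  · rw [C.comm_eq_one hv hx h]; exact one_mem _
  rw [not_or] at h
  refine C.fixed (C.comm_mem hv hx) hx h.2 ?_
  have hk : x * x ∈ coreIn H P := C.setup.mul_mem_core C.ne_bot hx hx h.2 h.2
  have e1 : x * (x * v * x⁻¹) * x⁻¹ = v := by
    calc x * (x * v * x⁻¹) * x⁻¹ = (x * x) * v * (x * x)⁻¹ := by group
      _ = v := by rw [C.comm_core hv hk, mul_inv_cancel_right]
  have e2 : x * ⁅x, v⁆ * x⁻¹ = ⁅x, v⁆ := by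
    rw [commutatorElement_def]
    calc x * (x * v * x⁻¹ * v⁻¹) * x⁻¹ = (x * (x * v * x⁻¹) * x⁻¹) * (x * v * x⁻¹)⁻¹ := by group
      _ = v * (x * v * x⁻¹)⁻¹ := by rw [e1]
      _ = (x * v * x⁻¹) * v⁻¹ := by
        rw [inv_eq_of_mul_eq_one_right (C.sq_V (C.conj_mem_V hv hx)),
          inv_eq_of_mul_eq_one_right (C.sq_V hv), C.comm_V hv (C.conj_mem_V hv hx)]
  exact eq_mul_inv_iff_mul_eq.1 e2.symm |>.symm

/-- `[P, V] ∩ Z₀ = 1`. -/
theorem Con.comm_notMem_Z0 {v x : G} (hv : v ∈ V H P) (hx : x ∈ P) (hv' : v ∉ omegaCenter P)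
    (hx' : x ∉ coreIn H P) : ⁅x, v⁆ ∉ Z0 H P := fun hmem => by
  set W := Z0 H P with hW
  -- every element of `P` centralises `V / Z₀`
  have hP : ∀ p ∈ P, ∀ u ∈ V H P, ⁅p, u⁆ ∈ W := fun p hp u hu => by
    by_cases h : u ∈ omegaCenter P ∨ p ∈ coreIn H P
    · rw [C.comm_eq_one hu hp h]; exact one_mem _
    rw [not_or] at h
    rw [C.comm_eq hu hv h.1 hv' hp hx h.2 hx']; exact hmem
  -- so does `H`
  let T : Subgroup G :=
    { carrier := {h | h ∈ H ∧ ∀ u ∈ V H P, ⁅h, u⁆ ∈ W}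
      one_mem' := ⟨one_mem H, fun u _ => by simp⟩
      mul_mem' := by
        rintro a b ⟨ha, ha'⟩ ⟨hb, hb'⟩
        refine ⟨mul_mem ha hb, fun u hu => ?_⟩
        have e : ⁅a * b, u⁆ = ⁅a, b * u * b⁻¹⁆ * ⁅b, u⁆ := by
          simp [commutatorElement_def, mul_assoc]
        exact e ▸ mul_mem (ha' _ (conj_V hu hb)) (hb' u hu)
      inv_mem' := by
        rintro a ⟨ha, ha'⟩
        refine ⟨inv_mem ha, fun u hu => ?_⟩
        have h1 := ha' _ (conj_V hu (inv_mem ha))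
        rw [inv_inv] at h1
        have e : ⁅a⁻¹, u⁆ = ⁅a, a⁻¹ * u * a⁆⁻¹ := by simp [commutatorElement_def, mul_assoc]
        exact e ▸ inv_mem h1 }
  have hT : H ≤ T := by
    obtain ⟨c, hc, hcP⟩ := C.setup.exists_notMem
    rw [← C.setup.sup_conj_eq C.ne_bot hc hcP]
    refine sup_le (fun p hp => ⟨C.setup.le hp, hP p hp⟩) fun p hp => ?_
    have hp' := mem_cj.1 hp
    refine ⟨?_, fun u hu => ?_⟩
    · simpa [mul_assoc] using mul_mem (mul_mem hc (C.setup.le hp')) (inv_mem hc)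
    · have h1 := conj_V hu (inv_mem hc)
      rw [inv_inv] at h1
      have h2 := hP _ hp' _ h1
      have e : ⁅p, u⁆ = c * ⁅c⁻¹ * p * c, c⁻¹ * u * c⁆ * c⁻¹ := by
        simp [commutatorElement_def, mul_assoc]
      rw [e, (mem_Z0.1 h2).2 c hc, mul_inv_cancel_right]
      exact h2
  -- an element of order three then centralises `V`
  obtain ⟨⟨d, hd⟩, hd3⟩ := @exists_prime_orderOf_dvd_card' H _ _ 3 ⟨Nat.prime_three⟩
    (by rw [C.setup.card_eq]; exact dvd_mul_right 3 _)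
  rw [← Subgroup.orderOf_coe] at hd3
  simp only at hd3
  have hdP : d ∉ P := fun h => by
    obtain ⟨k, hk⟩ := IsPGroup.iff_card.1 C.setup.twoP
    have := Subgroup.orderOf_dvd_natCard P h
    rw [hd3, hk] at this
    exact absurd (Nat.prime_three.dvd_of_dvd_pow this) (by norm_num)
  refine hdP (coreIn_le (C.cent_V hd fun u hu => ?_))
  set z := ⁅d, u⁆ with hz
  have hzW : z ∈ W := (hT hd).2 u hu
  have hzc := (mem_Z0.1 hzW).2 d hd
  have hdu : d * u * d⁻¹ = z * u := by rw [hz, commutatorElement_def]; group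
  have hpow : ∀ n : ℕ, d ^ n * u * (d ^ n)⁻¹ = z ^ n * u := by
    intro n
    induction n with
    | zero => simp
    | succ n ih =>
      calc d ^ (n + 1) * u * (d ^ (n + 1))⁻¹ = d * (d ^ n * u * (d ^ n)⁻¹) * d⁻¹ := by
            rw [pow_succ']; group
        _ = (d * z ^ n) * u * d⁻¹ := by rw [ih]; group
        _ = z ^ n * (d * u * d⁻¹) := by rw [(show Commute d z from hzc).pow_right n |>.eq]; group
        _ = z ^ (n + 1) * u := by rw [hdu, pow_succ]; group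
  have h3 := hpow 3
  rw [← hd3, pow_orderOf_eq_one, hd3, pow_succ, pow_two, C.sq_V (Z0_le_V hzW)] at h3
  have hz1 : z = 1 := by simpa using h3.symm
  exact commutatorElement_eq_one_iff_mul_comm.1 hz1

end Cfsg.Agent.Lib.Suborbit46
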