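import Cfsg.Agent.Lib.Suborbit46.Setup

/-!
# From a primitive group with a suborbit of length three to `Setup`
-/

set_option autoImplicit false
set_option linter.unusedSectionVars false

namespace Cfsg.Agent.Lib.Suborbit46

open Subgroup MulAction

universe u v

variable {G : Type u} [Group G] {Ω : Type v} [MulAction G Ω]

/-- The orbital of `(a, b)`. -/
def Orb (a b : Ω) (v w : Ω) : Prop := ∃ g : G, g • a = v ∧ g • b = w

omit [Group G] in
theorem subgroup_odd_fix {α : Type*} (f : α → α) (hinj : Function.Injective f) (s : Set α)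
    (hs : s.ncard = 3) (hmap : ∀ w ∈ s, f w ∈ s) {w₀ : α} (hw₀ : w₀ ∈ s) (hfix : f w₀ = w₀)
    {w : α} (hw : w ∈ s) : f (f w) = w := by
  by_cases h0 : w = w₀
  · rw [h0, hfix, hfix]
  by_cases h1 : f w = w
  · rw [h1, h1]
  by_contra h2
  have hne0 : f w ≠ w₀ := fun e => h0 (hinj (e.trans hfix.symm))
  have hne1 : f (f w) ≠ w₀ := fun e => hne0 (hinj (e.trans hfix.symm))
  have hne2 : f (f w) ≠ f w := fun e => h1 (hinj e)
  have hfin : s.Finite := Set.finite_of_ncard_pos (by omega)
  have hsub : ({w₀, w, f w, f (f w)} : Set α) ⊆ s := by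
    simp only [Set.insert_subset_iff, Set.singleton_subset_iff]
    exact ⟨hw₀, hw, hmap w hw, hmap _ (hmap w hw)⟩
  have := Set.ncard_le_ncard hsub hfin
  have h4 : ({w₀, w, f w, f (f w)} : Set α).ncard = 4 := by
    rw [Set.ncard_insert_of_notMem, Set.ncard_insert_of_notMem, Set.ncard_pair (Ne.symm hne2)]
    · simp [Ne.symm h1, Ne.symm h2]
    · simp [Ne.symm h0, Ne.symm hne0, Ne.symm hne1]
  omega

variable [Finite G]

/-- An element of odd order fixing one of three points fixes all of them. -/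
theorem fix_three {x : G} (hx : Odd (orderOf x)) {s : Set Ω} (hs : s.ncard = 3)
    (hmap : ∀ w ∈ s, x • w ∈ s) {w₀ : Ω} (hw₀ : w₀ ∈ s) (hfix : x • w₀ = w₀) {w : Ω} (hw : w ∈ s) :
    x • w = w := by
  have h2 : x • x • w = w :=
    subgroup_odd_fix (x • ·) (MulAction.injective x) s hs hmap hw₀ hfix hw
  obtain ⟨k, hk⟩ := hx
  have h : ∀ n : ℕ, (x * x) ^ n • w = w := by
    intro n
    induction n with
    | zero => simp
    | succ n ih => rw [pow_succ, mul_smul, mul_smul x x, h2, ih]
  calc x • w = x • (x * x) ^ k • w := by rw [h]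
    _ = x ^ (2 * k + 1) • w := by rw [← mul_smul, pow_succ', pow_mul, pow_two]
    _ = w := by rw [← hk, pow_orderOf_eq_one, one_smul]

theorem ncard_out {a b v : Ω} {g : G} (hg : g • a = v)
    (h3 : Nat.card (orbit (stabilizer G a) b) = 3) : {w | Orb (G := G) a b v w}.ncard = 3 := by
  have he : {w | Orb (G := G) a b v w} = (g • ·) '' (orbit (stabilizer G a) b) := by
    ext w
    constructor
    · rintro ⟨k, hk1, hk2⟩
      refine ⟨(g⁻¹ * k) • b, ⟨⟨g⁻¹ * k, ?_⟩, rfl⟩, ?_⟩
      · rw [mem_stabilizer_iff, mul_smul, hk1, ← hg, inv_smul_smul]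
      · simp [mul_smul, hk2]
    · rintro ⟨_, ⟨⟨k, hk⟩, rfl⟩, rfl⟩
      refine ⟨g * k, ?_, by simp [mul_smul]⟩
      rw [mul_smul, mem_stabilizer_iff.1 hk, hg]
  rw [he, Set.ncard_image_of_injective _ (MulAction.injective g), ← Nat.card_coe_set_eq, h3]

theorem card_stabilizer_inf (a b : Ω) :
    Nat.card (orbit (stabilizer G a) b) * Nat.card ↥(stabilizer G a ⊓ stabilizer G b) =
      Nat.card (stabilizer G a) := by
  rw [← Nat.card_congr (orbitProdStabilizerEquivGroup (stabilizer G a) b), Nat.card_prod]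
  congr 1
  refine Nat.card_congr
    { toFun := fun x => ⟨⟨x.1, x.2.1⟩, x.2.2⟩
      invFun := fun x => ⟨x.1.1, x.1.2, x.2⟩
      left_inv := fun x => rfl
      right_inv := fun x => rfl }

theorem card_stabilizer_eq [IsPretransitive G Ω] (a b : Ω) :
    Nat.card (stabilizer G a) = Nat.card (stabilizer G b) := by
  obtain ⟨g, rfl⟩ := exists_smul_eq G a b
  rw [stabilizer_smul_eq_stabilizer_map_conj]
  exact (Subgroup.card_map_of_injective (MulAut.conj g).injective).symm

theorem ncard_in [IsPretransitive G Ω] {a b w : Ω} {g : G} (hg : g • b = w)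
    (h3 : Nat.card (orbit (stabilizer G a) b) = 3) : {v | Orb (G := G) a b v w}.ncard = 3 := by
  have h3' : Nat.card (orbit (stabilizer G b) a) = 3 := by
    have h1 := card_stabilizer_inf (G := G) a b
    have h2 := card_stabilizer_inf (G := G) b a
    rw [inf_comm, card_stabilizer_eq (G := G) b a, ← h1, h3] at h2
    exact Nat.eq_of_mul_eq_mul_right Nat.card_pos h2
  rw [← ncard_out hg h3']
  exact congrArg Set.ncard (Set.ext fun v =>
    ⟨fun ⟨k, h1, h2⟩ => ⟨k, h2, h1⟩, fun ⟨k, h1, h2⟩ => ⟨k, h2, h1⟩⟩)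

theorem isPGroup_inf [Finite Ω] [FaithfulSMul G Ω] (hprim : IsPreprimitive G Ω) {a b : Ω}
    (h3 : Nat.card (orbit (stabilizer G a) b) = 3) :
    IsPGroup 2 ↥(stabilizer G a ⊓ stabilizer G b) := by
  haveI := hprim
  refine IsPGroup.of_card (n := (Nat.card ↥(stabilizer G a ⊓ stabilizer G b)).primeFactorsList.length)
    (Nat.eq_prime_pow_of_unique_prime_dvd Nat.card_pos.ne' fun {r} hr hdvd => ?_)
  by_contra hr2
  haveI := Fact.mk hr
  obtain ⟨⟨x, hxa, hxb⟩, hx⟩ := exists_prime_orderOf_dvd_card' r hdvd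
  rw [← Subgroup.orderOf_coe] at hx
  simp only at hx
  have hodd : Odd (orderOf x) := hx ▸ hr.odd_of_ne_two hr2
  set O := Orb (G := G) a b with hO
  let R : Ω → Ω → Prop := fun v v' => ∃ w, O v w ∧ O v' w
  let good : Ω → Prop := fun v => x • v = v ∧ ∀ w, O v w → x • w = w
  have hOsmul : ∀ (g : G) (v w : Ω), O v w → O (g • v) (g • w) := by
    rintro g v w ⟨k, rfl, rfl⟩
    exact ⟨g * k, mul_smul .., mul_smul ..⟩
  have hall : ∀ v w₀, x • v = v → O v w₀ → x • w₀ = w₀ → good v := by
    intro v w₀ hv h0 hw0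
    obtain ⟨g, hga, hgb⟩ := h0
    refine ⟨hv, fun w hw => fix_three hodd (ncard_out hga h3) (fun u hu => ?_) (w₀ := w₀)
      ⟨g, hga, hgb⟩ hw0 hw⟩
    have := hOsmul x v u hu
    rwa [hv] at this
  have hga : good a := hall a b hxa ⟨1, one_smul .., one_smul ..⟩ hxb
  have hR : ∀ v v', good v → R v v' → good v' := by
    rintro v v' ⟨hv, hall'⟩ ⟨w, hvw, hv'w⟩
    have hw := hall' w hvw
    obtain ⟨g, hga', hgb⟩ := hvw
    refine hall v' w (fix_three hodd (ncard_in hgb h3) (fun u hu => ?_) ⟨g, hga', hgb⟩ hv hv'w)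
      hv'w hw
    have := hOsmul x u w hu
    rwa [hw] at this
  have hsymm : ∀ v v', R v v' → R v' v := fun v v' ⟨w, h1, h2⟩ => ⟨w, h2, h1⟩
  let B : Set Ω := {v | Relation.ReflTransGen R a v}
  have hRsmul : ∀ (g : G) v v', Relation.ReflTransGen R v v' →
      Relation.ReflTransGen R (g • v) (g • v') := fun g v v' h =>
    h.lift (g • ·) fun p q ⟨w, h1, h2⟩ => ⟨g • w, hOsmul g _ _ h1, hOsmul g _ _ h2⟩
  have hsym : ∀ v v', Relation.ReflTransGen R v v' → Relation.ReflTransGen R v' v := by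
    intro v v' h
    induction h with
    | refl => exact .refl
    | tail _ h2 ih => exact (Relation.ReflTransGen.single (hsymm _ _ h2)).trans ih
  have hB : IsBlock G B := by
    rw [isBlock_iff_smul_eq_of_nonempty]
    rintro g ⟨_, ⟨v, hv, rfl⟩, hgv⟩
    have hag : Relation.ReflTransGen R a (g • a) := hgv.trans (hsym _ _ (hRsmul g a v hv))
    ext u
    constructor
    · rintro ⟨z, hz, rfl⟩
      exact hag.trans (hRsmul g a z hz)
    · intro hu
      refine ⟨g⁻¹ • u, ?_, smul_inv_smul g u⟩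
      have := hRsmul g⁻¹ _ _ ((hsym _ _ hag).trans hu)
      rwa [inv_smul_smul] at this
  have huniv : B = Set.univ := by
    rcases hprim.isTrivialBlock_of_isBlock hB with h | h
    · exfalso
      have hin := ncard_in (G := G) (a := a) (b := b) (one_smul G b) h3
      obtain ⟨v, hv, hva⟩ := Set.exists_ne_of_one_lt_ncard
        (s := {v | Orb (G := G) a b v b}) (by omega) a
      exact hva (h (Relation.ReflTransGen.single ⟨b, ⟨1, one_smul .., one_smul ..⟩, hv⟩) .refl)
    · exact h
  have hfix : ∀ v, x • v = v := fun v => by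
    have hv : v ∈ B := huniv ▸ Set.mem_univ v
    have : good v := by
      induction hv with
      | refl => exact hga
      | tail _ h2 ih => exact hR _ _ ih h2
    exact this.1
  have hx1 : x = 1 := FaithfulSMul.eq_of_smul_eq_smul (α := Ω) fun v => by rw [hfix, one_smul]
  rw [hx1, orderOf_one] at hx
  exact hr.ne_one hx.symm

/-- The set-up attached to a suborbit of length three. -/
theorem exists_setup [Finite Ω] [FaithfulSMul G Ω] (hsol : ¬ Group.IsSolvable G)
    (hprim : IsPreprimitive G Ω) {a b : Ω} (h3 : Nat.card (orbit (stabilizer G a) b) = 3) :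
    ∃ P : Subgroup G, Setup G (stabilizer G a) P := by
  haveI := hprim
  haveI : Fact (Nat.Prime 2) := ⟨Nat.prime_two⟩
  have hab : b ≠ a := by
    rintro rfl
    have h1 : orbit (stabilizer G b) b = {b} := Set.eq_singleton_iff_unique_mem.2
      ⟨mem_orbit_self _, by rintro _ ⟨⟨k, hk⟩, rfl⟩; exact hk⟩
    rw [h1, Nat.card_coe_set_eq, Set.ncard_singleton] at h3
    omega
  haveI : Nontrivial Ω := ⟨⟨b, a, hab⟩⟩
  set P := stabilizer G a ⊓ stabilizer G b with hP
  have hP2 : IsPGroup 2 ↥P := isPGroup_inf hprim h3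
  have hcard := card_stabilizer_inf (G := G) a b
  rw [h3] at hcard
  have hidx : P.relIndex (stabilizer G a) = 3 := by
    have h := (P.subgroupOf (stabilizer G a)).card_mul_index
    rw [Nat.card_congr (subgroupOfEquivOfLe inf_le_left).toEquiv, ← hcard, ← hP] at h
    exact Nat.eq_of_mul_eq_mul_left Nat.card_pos (h.trans (mul_comm 3 _))
  refine ⟨P, IsPreprimitive.isCoatom_stabilizer_of_isPreprimitive G a, fun A hA hn => ?_,
    inf_le_left, hP2, hidx, ?_, hsol⟩
  · refine eq_bot_iff.2 fun x hx => ?_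
    refine FaithfulSMul.eq_of_smul_eq_smul (α := Ω) fun v => ?_
    obtain ⟨g, rfl⟩ := exists_smul_eq G a v
    have h := hA (hn.conj_mem x hx g⁻¹)
    rw [mem_stabilizer_iff, inv_inv, mul_smul, mul_smul, inv_smul_eq_iff] at h
    rw [h, one_smul]
  obtain ⟨g₀, rfl⟩ := exists_smul_eq G a b
  set Hb := stabilizer G (g₀ • a) with hHb
  have hle : P ≤ Hb := inf_le_right
  have hle' : cj g₀ P ≤ Hb := by
    rw [hHb, stabilizer_smul_eq_stabilizer_map_conj]
    exact map_mono inf_le_left
  have hcb : Nat.card Hb = 3 * Nat.card P := by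
    rw [hHb, ← card_stabilizer_eq (G := G) a, ← hcard]
  let T := fun (A : Subgroup G) (h : A ≤ Hb) (hc : Nat.card A = Nat.card P) =>
    (show IsPGroup 2 ↥(A.subgroupOf Hb) from
      IsPGroup.of_equiv (IsPGroup.iff_card.2 (hc ▸ IsPGroup.iff_card.1 hP2))
        (subgroupOfEquivOfLe h).symm).toSylow (by
      intro hd
      have := (A.subgroupOf Hb).card_mul_index
      rw [Nat.card_congr (subgroupOfEquivOfLe h).toEquiv, hc, hcb, mul_comm 3] at this
      rw [Nat.eq_of_mul_eq_mul_left Nat.card_pos this] at hd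
      omega)
  obtain ⟨k, hk⟩ := exists_smul_eq Hb (T (cj g₀ P) hle' (card_cj g₀ P)) (T P hle rfl)
  have hk' : cj ((k : G) * g₀) P = P := by
    have e := congrArg (fun Q : Sylow 2 Hb => (Q : Subgroup Hb).map Hb.subtype) hk
    simp only [Sylow.coe_subgroup_smul, T, IsPGroup.toSylow_coe, subgroupOf_map_subtype] at e
    rw [cj_mul]
    refine Eq.trans ?_ ((inf_eq_left.2 hle))
    rw [← e]
    ext y
    simp only [mem_cj, mem_map, Subgroup.mem_pointwise_smul_iff_inv_smul_mem, mem_subgroupOf,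
      MulAut.smul_def, MulAut.conj_inv_apply, Subgroup.coe_subtype]
    constructor
    · intro hy
      refine ⟨⟨y, ?_⟩, by simpa using hy, rfl⟩
      have := mul_mem (mul_mem k.2 (hle' (mem_cj.2 hy))) (inv_mem k.2)
      simpa [mul_assoc] using this
    · rintro ⟨z, hz, rfl⟩
      simpa [mul_assoc] using hz
  refine ⟨(k : G) * g₀, cj_eq_self.1 hk', fun hmem => hab ?_⟩
  have hkb : (k : G) • g₀ • a = g₀ • a := k.2
  rw [mem_stabilizer_iff, mul_smul, hkb] at hmem
  exact hmem

end Cfsg.Agent.Lib.Suborbit46
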