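import Mathlib

/-!
# Core-free maximal subgroups with a suborbit of length three

`Setup G H P`: `H` is a core-free maximal subgroup of the non-soluble group `G`, `P` is a
2-subgroup of index three in `H`, normalised by an element outside `H`.  For a primitive group
`H` is a point stabiliser and `P` the stabiliser of an arc of an orbital of out-valency three.
-/

set_option autoImplicit false
set_option linter.unusedSectionVars false

namespace Cfsg.Agent.Lib.Suborbit46

open Subgroup

universe u

variable {G : Type u} [Group G]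

/-- The standing hypotheses. -/
structure Setup (G : Type u) [Group G] (H P : Subgroup G) : Prop where
  coatom : IsCoatom H
  core : ∀ A : Subgroup G, A ≤ H → A.Normal → A = ⊥
  le : P ≤ H
  twoP : IsPGroup 2 P
  index_three : P.relIndex H = 3
  exists_norm : ∃ g ∈ normalizer (P : Set G), g ∉ H
  notSol : ¬ Group.IsSolvable G

/-- Conjugation of a subgroup. -/
def cj (g : G) (A : Subgroup G) : Subgroup G := A.map (MulAut.conj g).toMonoidHom

theorem mem_cj {g x : G} {A : Subgroup G} : x ∈ cj g A ↔ g⁻¹ * x * g ∈ A := by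
  rw [cj, mem_map_equiv, MulAut.conj_symm_apply]

theorem conj_mem_cj {g x : G} {A : Subgroup G} (hx : x ∈ A) : g * x * g⁻¹ ∈ cj g A :=
  mem_cj.2 (by simpa [mul_assoc] using hx)

theorem cj_one (A : Subgroup G) : cj 1 A = A := by ext x; simp [mem_cj]

theorem cj_mul (g h : G) (A : Subgroup G) : cj (g * h) A = cj g (cj h A) := by
  ext x; simp [mem_cj, mul_assoc]

theorem cj_mono {A B : Subgroup G} (g : G) (h : A ≤ B) : cj g A ≤ cj g B := map_mono h

theorem cj_eq_self {g : G} {A : Subgroup G} : cj g A = A ↔ g ∈ normalizer (A : Set G) := by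
  rw [mem_normalizer_iff']
  constructor
  · intro h n
    conv_rhs => rw [← h, mem_cj]
    simp [mul_assoc]
  · intro h
    ext x
    rw [mem_cj, h]
    simp [mul_assoc]

theorem cj_inv_eq_self {g : G} {A : Subgroup G} (h : cj g A = A) : cj g⁻¹ A = A := by
  rw [cj_eq_self] at h ⊢
  exact inv_mem h

theorem card_cj (g : G) (A : Subgroup G) : Nat.card (cj g A) = Nat.card A :=
  Subgroup.card_map_of_injective (MulAut.conj g).injective

theorem le_normalizer_of_conj_mem [Finite G] {A B : Subgroup G}
    (h : ∀ b ∈ B, ∀ a ∈ A, b * a * b⁻¹ ∈ A) : B ≤ normalizer (A : Set G) := fun b hb => by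
  rw [mem_normalizer_iff]
  refine fun n => ⟨h b hb n, fun hn => ?_⟩
  simpa [mul_assoc] using h b⁻¹ (inv_mem hb) _ hn

variable [Finite G] {H P : Subgroup G} (S : Setup G H P)

include S

/-- A nontrivial subgroup of `H` is normalised only by elements of `H`, if `H` normalises it. -/
theorem Setup.norm_le {A : Subgroup G} (hA : A ≤ H) (hne : A ≠ ⊥)
    (hH : H ≤ normalizer (A : Set G)) : normalizer (A : Set G) ≤ H := by
  by_contra hn
  have : normalizer (A : Set G) = ⊤ :=
    S.coatom.2 _ (lt_of_le_of_ne hH fun e => hn e.symm.le)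
  exact hne (S.core A hA (normalizer_eq_top_iff.1 this))

theorem Setup.ne_top : H ≠ ⊤ := S.coatom.1

theorem Setup.normalizer_eq : normalizer (H : Set G) = H := by
  refine le_antisymm (S.norm_le le_rfl ?_ le_normalizer) le_normalizer
  intro h
  have := S.index_three
  rw [h, relIndex_bot_right] at this
  omega

theorem Setup.card_eq : Nat.card H = 3 * Nat.card P := by
  have := S.index_three
  rw [relIndex] at this
  have h2 := (P.subgroupOf H).card_mul_index
  rw [this, Nat.card_congr (subgroupOfEquivOfLe S.le).toEquiv] at h2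
  omega

/-- `P` is a maximal subgroup of `H`. -/
theorem Setup.eq_of_lt {A : Subgroup G} (hPA : P ≤ A) (hAH : A ≤ H) (hne : ¬ A ≤ P) : A = H := by
  have h := relIndex_mul_relIndex P A H hPA hAH
  rw [S.index_three] at h
  rcases (Nat.dvd_prime Nat.prime_three).1 (Dvd.intro_left _ h) with e | e
  · exact le_antisymm hAH (relIndex_eq_one.1 e)
  · rw [e] at h
    exact absurd (relIndex_eq_one.1 (by omega)) hne

theorem Setup.sup_eq {h : G} (hh : h ∈ H) (hn : h ∉ P) : P ⊔ zpowers h = H :=
  S.eq_of_lt le_sup_left (sup_le S.le (zpowers_le.2 hh))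
    fun hle => hn (hle (le_sup_right (b := zpowers h) (mem_zpowers h)))

/-- Subgroups normalised by `P` and an element of `H` outside `P`. -/
theorem Setup.le_normalizer {A : Subgroup G} {h : G} (hh : h ∈ H) (hn : h ∉ P)
    (hP : P ≤ normalizer (A : Set G)) (ha : h ∈ normalizer (A : Set G)) :
    H ≤ normalizer (A : Set G) :=
  S.sup_eq hh hn ▸ sup_le hP (zpowers_le.2 ha)

theorem Setup.exists_notMem : ∃ h ∈ H, h ∉ P := by
  by_contra! h
  have := S.index_three
  rw [relIndex_eq_one.2 h] at this
  omega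

/-- A subgroup normalised by `H` and by an element outside `H` is trivial. -/
theorem Setup.eq_bot_of_norm {A : Subgroup G} (hA : A ≤ H) (hH : H ≤ normalizer (A : Set G))
    {g : G} (hg : g ∉ H) (hgA : cj g A = A) : A = ⊥ := by
  by_contra hne
  exact hg (S.norm_le hA hne hH (cj_eq_self.1 hgA))

theorem Setup.eq_bot_of_cent {A : Subgroup G} (hA : A ≤ H)
    (hH : H ≤ centralizer (A : Set G)) {g : G} (hg : g ∉ H) (hgA : g ∈ centralizer (A : Set G)) :
    A = ⊥ :=
  S.eq_bot_of_norm hA (hH.trans (centralizer_le_normalizer _)) hg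
    (cj_eq_self.2 (centralizer_le_normalizer _ hgA))

/-- An element centralised by `H` is centralised by nothing outside `H`. -/
theorem Setup.centralizer_eq {z : G} (hz : z ∈ H) (h1 : z ≠ 1)
    (hc : ∀ h ∈ H, h * z = z * h) : centralizer ({z} : Set G) = H := by
  have hH : H ≤ centralizer ({z} : Set G) := fun h hh => mem_centralizer_singleton_iff.2 (hc h hh)
  refine le_antisymm (fun g hg => ?_) hH
  by_contra hgH
  have e : centralizer (zpowers z : Set G) = centralizer ({z} : Set G) := by
    rw [zpowers_eq_closure, centralizer_closure]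
  exact h1 (zpowers_eq_bot.1 (S.eq_bot_of_cent (zpowers_le.2 hz) (e ▸ hH) hgH (e ▸ hg)))

omit S in
/-- The largest subgroup of `P` normal in `H`. -/
def coreIn (H P : Subgroup G) : Subgroup G := (P.subgroupOf H).normalCore.map H.subtype

omit S in
theorem mem_coreIn {k : G} : k ∈ coreIn H P ↔ k ∈ H ∧ ∀ h ∈ H, h * k * h⁻¹ ∈ P := by
  simp only [coreIn, mem_map]
  constructor
  · rintro ⟨x, hx, rfl⟩
    exact ⟨x.2, fun h hh => hx ⟨h, hh⟩⟩
  · rintro ⟨hk, h⟩
    exact ⟨⟨k, hk⟩, fun y => h y y.2, rfl⟩

omit S in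
theorem coreIn_le_left : coreIn H P ≤ H := fun _ hk => (mem_coreIn.1 hk).1

omit S in
theorem coreIn_le : coreIn H P ≤ P := fun k hk => by
  simpa using (mem_coreIn.1 hk).2 1 (one_mem _)

omit S in
theorem coreIn_conj {k h : G} (hk : k ∈ coreIn H P) (hh : h ∈ H) : h * k * h⁻¹ ∈ coreIn H P :=
  mem_coreIn.2 ⟨mul_mem (mul_mem hh (mem_coreIn.1 hk).1) (inv_mem hh), fun x hx => by
    simpa [mul_assoc] using (mem_coreIn.1 hk).2 (x * h) (mul_mem hx hh)⟩

omit S in
theorem le_normalizer_coreIn : H ≤ normalizer (coreIn H P : Set G) :=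
  le_normalizer_of_conj_mem fun _ hb _ ha => coreIn_conj ha hb

omit S in
theorem le_coreIn {A : Subgroup G} (hA : A ≤ P) (hAH : A ≤ H) (hn : H ≤ normalizer (A : Set G)) :
    A ≤ coreIn H P := fun a ha =>
  mem_coreIn.2 ⟨hAH ha, fun h hh => hA ((mem_normalizer_iff.1 (hn hh) a).1 ha)⟩

theorem Setup.le_core {A : Subgroup G} (hA : A ≤ P) (hn : H ≤ normalizer (A : Set G)) :
    A ≤ coreIn H P := le_coreIn hA (hA.trans S.le) hn

/-- `P` is not normal in `H`. -/
theorem Setup.not_le_normalizer (hP : P ≠ ⊥) : ¬ H ≤ normalizer (P : Set G) := fun h => by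
  obtain ⟨g, hg, hgH⟩ := S.exists_norm
  exact hP (S.eq_bot_of_norm S.le h hgH (cj_eq_self.2 hg))

/-- The core has index two in `P`. -/
theorem Setup.card_core (hP : P ≠ ⊥) : 2 * Nat.card (coreIn H P) = Nat.card P := by
  classical
  set Q := P.subgroupOf H with hQ
  have hidx : Q.index = 3 := S.index_three
  haveI : Finite (H ⧸ Q) := inferInstance
  have hne : Q.normalCore ≠ Q := fun e => S.not_le_normalizer hP fun h hh => by
    have hn : Q.Normal := e ▸ Q.normalCore_normal
    rw [mem_normalizer_iff]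
    refine fun n => ⟨fun hn' => ?_, fun hn' => ?_⟩
    · exact hn.conj_mem ⟨n, S.le hn'⟩ hn' ⟨h, hh⟩
    · have := hn.conj_mem ⟨_, S.le hn'⟩ hn' ⟨h, hh⟩⁻¹
      simpa [mem_subgroupOf, hQ, mul_assoc] using this
  have hdvd : Q.normalCore.index ∣ 6 := by
    rw [normalCore_eq_ker, index_ker]
    have hd := card_subgroup_dvd_card (MulAction.toPermHom H (H ⧸ Q)).range
    rw [Nat.card_perm, ← index_eq_card, hidx] at hd
    exact hd
  have hmul := relIndex_mul_index Q.normalCore_le
  rw [hidx] at hmul
  have h6 : Q.normalCore.relIndex Q = 2 := by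
    have : Q.normalCore.relIndex Q ∣ 2 :=
      Nat.dvd_of_mul_dvd_mul_right (by norm_num : 0 < 3) (by rw [hmul]; exact hdvd)
    rcases (Nat.dvd_prime Nat.prime_two).1 this with e | e
    · exact absurd (le_antisymm Q.normalCore_le (relIndex_eq_one.1 e)) hne
    · exact e
  have hc := (Q.normalCore.subgroupOf Q).card_mul_index
  rw [Nat.card_congr (subgroupOfEquivOfLe Q.normalCore_le).toEquiv,
    show (Q.normalCore.subgroupOf Q).index = 2 from h6,
    hQ, Nat.card_congr (subgroupOfEquivOfLe S.le).toEquiv] at hc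
  rw [coreIn, Subgroup.card_map_of_injective H.subtype_injective, ← hc, mul_comm]

theorem Setup.mul_mem_core (hP : P ≠ ⊥) {s t : G} (hs : s ∈ P) (ht : t ∈ P)
    (hs' : s ∉ coreIn H P) (ht' : t ∉ coreIn H P) : s * t ∈ coreIn H P := by
  have h2 : (((coreIn H P).subgroupOf P)).index = 2 := by
    have := ((coreIn H P).subgroupOf P).card_mul_index
    rw [Nat.card_congr (subgroupOfEquivOfLe coreIn_le).toEquiv] at this
    have h := S.card_core hP
    have hpos : 0 < Nat.card (coreIn H P) := Nat.card_pos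
    exact mul_left_cancel₀ hpos.ne' (by linarith)
  have := (mul_mem_iff_of_index_two h2 (a := ⟨s, hs⟩) (b := ⟨t, ht⟩)).2
    (by simp [mem_subgroupOf, hs', ht'])
  simpa [mem_subgroupOf] using this

theorem Setup.exists_notMem_core (hP : P ≠ ⊥) : ∃ t ∈ P, t ∉ coreIn H P := by
  by_contra! h
  have h2 := Subgroup.card_le_of_le h
  have h3 := S.card_core hP
  have hpos : 0 < Nat.card (coreIn H P) := Nat.card_pos
  omega

/-- `P` is generated by the core and any of its elements outside. -/
theorem Setup.le_of_core_le (hP : P ≠ ⊥) {A : Subgroup G} {t : G} (ht : t ∈ P)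
    (ht' : t ∉ coreIn H P) (hK : coreIn H P ≤ A) (htA : t ∈ A) : P ≤ A := fun p hp => by
  by_cases hpK : p ∈ coreIn H P
  · exact hK hpK
  · have := hK (S.mul_mem_core hP hp ht hpK ht')
    simpa [mul_assoc] using mul_mem this (inv_mem htA)

theorem Setup.conj_notMem {h : G} (hP : P ≠ ⊥) (hh : h ∈ H) (hn : h ∉ P) : cj h P ≠ P := fun e => by
  refine S.not_le_normalizer hP (S.le_normalizer hh hn Subgroup.le_normalizer ?_)
  exact cj_eq_self.1 e

theorem Setup.sup_conj_eq {h : G} (hP : P ≠ ⊥) (hh : h ∈ H) (hn : h ∉ P) : P ⊔ cj h P = H := by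
  refine S.eq_of_lt le_sup_left (sup_le S.le ?_) fun hle => ?_
  · exact (cj_mono h S.le).trans (cj_eq_self.2 (Subgroup.le_normalizer hh)).le
  · exact S.conj_notMem hP hh hn (Subgroup.eq_of_le_of_card_ge (le_sup_right.trans hle)
      (by rw [card_cj]))

end Cfsg.Agent.Lib.Suborbit46
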