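import Cfsg.Agent.Lib.Suborbit46.General
import Cfsg.Agent.S3331
import Cfsg.Agent.Lib.SmallGroups.Order168Four
import Cfsg.Agent.Lib.Linear.Simple
import Cfsg.Agent.Lib.Linear.Order

/-!
# Suborbits of length three: point stabilisers of order three and six
-/

set_option autoImplicit false
set_option linter.unusedSectionVars false
set_option linter.style.haveILetI false

namespace Cfsg.Agent.Lib.Suborbit46

open Subgroup

universe u

/-- A group with a self-centralising subgroup of order three, no soluble normal subgroup. -/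
theorem selfThree {M : Type u} [Group M] [Finite M] (X : Subgroup M) (hX : Nat.card X = 3)
    (hC : centralizer (X : Set M) = X) (hns : ¬ Group.IsSolvable M)
    (hsol : ∀ E : Subgroup M, E.Normal → IsPGroup 2 E → E = ⊥) :
    Nonempty (M ≃* alternatingGroup (Fin 5)) ∨
      Nonempty (M ≃* Matrix.ProjectiveSpecialLinearGroup (Fin 2) (ZMod 7)) := by
  rcases Cfsg.Agent.S3331.result X hX hC with ⟨N, hN, hnil, -, hq⟩ | ⟨N, hN, -, hel, ⟨e⟩⟩ | h
  · exfalso
    haveI := hnil
    haveI : Group.IsSolvable N := inferInstance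
    haveI : Group.IsSolvable (M ⧸ N) := by
      refine HallNumber68.isSolvable_of_not_four_dvd ?_
      rcases hq with hq | ⟨⟨e⟩⟩
      · rw [hq]; norm_num
      · rw [Nat.card_congr e.toEquiv, Nat.card_perm, Nat.card_eq_fintype_card, Fintype.card_fin]
        decide
    exact hns (Group.isSolvable_of_ker_le_range N.subtype (QuotientGroup.mk' N) (by simp))
  · have hb : N = ⊥ := hsol N hN fun n => ⟨1, Subtype.ext (by simpa using hel n n.2)⟩
    subst hb
    exact Or.inl ⟨QuotientGroup.quotientBot.symm.trans e⟩
  · exact Or.inr h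

theorem card_psl_two_seven :
    Nat.card (Matrix.ProjectiveSpecialLinearGroup (Fin 2) (ZMod 7)) = 168 := by
  haveI : Fact (Nat.Prime 7) := ⟨by norm_num⟩
  have h := Linear.two_mul_card_PSL_two_of_odd (F := ZMod 7) (by rw [ZMod.card]; decide)
  rw [ZMod.card] at h
  norm_num at h ⊢
  omega

theorem isSimple_psl_two_seven :
    IsSimpleGroup (Matrix.ProjectiveSpecialLinearGroup (Fin 2) (ZMod 7)) := by
  haveI : Fact (Nat.Prime 7) := ⟨by norm_num⟩
  exact Linear.isSimpleGroup_PSL le_rfl (fun _ => by rw [Nat.card_eq_fintype_card, ZMod.card]; norm_num)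

variable {G : Type u} [Group G] [Finite G] {H P : Subgroup G} (S : Setup G H P)

include S

theorem Setup.eq_bot_of_two {E : Subgroup G} (hn : E.Normal) (hE : IsPGroup 2 E) : E = ⊥ := by
  haveI := hn
  haveI : Fact (Nat.Prime 2) := ⟨Nat.prime_two⟩
  haveI := hE.isNilpotent
  exact S.normal_eq_bot inferInstance

theorem Setup.ne_bot : P ≠ ⊥ := by
  intro hP
  haveI : Fact (Nat.Prime 3) := ⟨Nat.prime_three⟩
  have h3 : Nat.card H = 3 := by rw [S.card_eq, hP, card_bot, mul_one]
  haveI : IsCyclic H := isCyclic_of_prime_card h3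
  have hle : H ≤ centralizer (H : Set G) := Subgroup.le_centralizer H
  have hC : centralizer (H : Set G) = H :=
    le_antisymm ((centralizer_le_normalizer _).trans S.normalizer_eq.le) hle
  obtain ⟨hsimp, hdvd, hcard⟩ : IsSimpleGroup G ∧ ¬ 9 ∣ Nat.card G ∧ 3 < Nat.card G := by
    rcases selfThree H h3 hC S.notSol (fun E => S.eq_bot_of_two) with ⟨⟨e⟩⟩ | ⟨⟨e⟩⟩
    · haveI := alternatingGroup.isSimpleGroup_five
      have h60 : Nat.card (alternatingGroup (Fin 5)) = 60 := by
        rw [nat_card_alternatingGroup, Nat.card_eq_fintype_card, Fintype.card_fin]; decide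
      exact ⟨MulEquiv.isSimpleGroup e, by rw [Nat.card_congr e.toEquiv, h60]; norm_num,
        by rw [Nat.card_congr e.toEquiv, h60]; norm_num⟩
    · haveI := isSimple_psl_two_seven
      exact ⟨MulEquiv.isSimpleGroup e, by rw [Nat.card_congr e.toEquiv, card_psl_two_seven]; norm_num,
        by rw [Nat.card_congr e.toEquiv, card_psl_two_seven]; norm_num⟩
  let T : Sylow 3 G := (IsPGroup.of_card (p := 3) (n := 1) (by rw [h3, pow_one])).toSylow fun hd => by
    refine hdvd ?_
    have h := H.card_mul_index
    rw [h3] at h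
    obtain ⟨k, hk⟩ := hd
    rw [hk] at h
    exact Dvd.intro k (by rw [← h]; ring)
  have hT : (T : Subgroup G) = H := rfl
  have hN : normalizer ((T : Subgroup G) : Set G) ≤ centralizer ((T : Subgroup G) : Set G) := by
    rw [hT, S.normalizer_eq, hC]
  have hcomp := MonoidHom.ker_transferSylow_isComplement' T hN
  have hm : Nat.card (MonoidHom.transferSylow T hN).ker * 3 = Nat.card G := by
    have := hcomp.card_mul_card
    rwa [show Nat.card (T : Subgroup G) = 3 from h3] at this
  rcases (inferInstance : (MonoidHom.transferSylow T hN).ker.Normal).eq_bot_or_eq_top with h | h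
  · rw [h, card_bot] at hm; omega
  · rw [h, card_top] at hm; omega

/-- The point stabiliser has order six only in `A₅`. -/
theorem Setup.six (h2 : Nat.card P = 2) : Nonempty (G ≃* alternatingGroup (Fin 5)) := by
  haveI : Fact (Nat.Prime 3) := ⟨Nat.prime_three⟩
  have hP := S.ne_bot
  have h6 : Nat.card H = 6 := by rw [S.card_eq, h2]
  obtain ⟨⟨c, hcH⟩, hc⟩ := exists_prime_orderOf_dvd_card' (G := H) 3 (by rw [h6]; norm_num)
  rw [← Subgroup.orderOf_coe] at hc
  simp only at hc
  set X := zpowers c with hX
  have hX3 : Nat.card X = 3 := by rw [hX, Nat.card_zpowers, hc]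
  have hXH : X ≤ H := zpowers_le.2 hcH
  have hcP : c ∉ P := fun h => by
    have := Subgroup.card_dvd_of_le (zpowers_le.2 h)
    rw [Nat.card_zpowers, hc, h2] at this
    norm_num at this
  have hidx : (X.subgroupOf H).index = 2 := by
    have := (X.subgroupOf H).card_mul_index
    rw [Nat.card_congr (subgroupOfEquivOfLe hXH).toEquiv, hX3, h6] at this
    omega
  have hHX : H ≤ normalizer (X : Set G) :=
    (normal_subgroupOf_iff_le_normalizer hXH).1 (normal_of_index_eq_two hidx)
  have hXne : X ≠ ⊥ := fun e => by rw [e, card_bot] at hX3; omega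
  have hNX : normalizer (X : Set G) = H := le_antisymm (S.norm_le hXH hXne hHX) hHX
  have hC : centralizer (X : Set G) = X := by
    refine le_antisymm (fun g hg => ?_) (Subgroup.le_centralizer X)
    have hgH : g ∈ H := hNX ▸ centralizer_le_normalizer _ hg
    by_contra hgX
    refine S.not_le_normalizer hP (S.le_normalizer hcH hcP Subgroup.le_normalizer ?_)
    have hall : H ≤ centralizer (X : Set G) := fun y hy => by
      by_cases hyX : y ∈ X
      · exact Subgroup.le_centralizer X hyX
      have hm : (⟨y, hy⟩ : H) * ⟨g, hgH⟩ ∈ X.subgroupOf H :=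
        (mul_mem_iff_of_index_two hidx).2 (by simp [mem_subgroupOf, hyX, hgX])
      rw [mem_subgroupOf] at hm
      simpa [mul_assoc] using mul_mem (Subgroup.le_centralizer X hm) (inv_mem hg)
    refine centralizer_le_normalizer _ (mem_centralizer_iff.2 fun p hp => ?_)
    exact (mem_centralizer_iff.1 (hall (S.le hp)) c (mem_zpowers c)).symm
  rcases selfThree X hX3 hC S.notSol (fun E => S.eq_bot_of_two) with h | ⟨⟨e⟩⟩
  · exact h
  exfalso
  have h168 : Nat.card G = 168 := by rw [Nat.card_congr e.toEquiv, card_psl_two_seven]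
  haveI := isSimple_psl_two_seven
  haveI : IsSimpleGroup G := MulEquiv.isSimpleGroup e
  let T : Sylow 3 G := (IsPGroup.of_card (p := 3) (n := 1) (by rw [hX3, pow_one])).toSylow fun hd => by
    have h := X.card_mul_index
    rw [hX3, h168] at h
    obtain ⟨k, hk⟩ := hd
    omega
  obtain ⟨U, hU, hle⟩ := SmallGroups.Order168Four.six_le h168 T
  rw [show ((T : Subgroup G) : Set G) = (X : Set G) from rfl, hNX] at hle
  have h24 := SmallGroups.Order168Four.card_normalizer_four h168 hU
  rcases hle.lt_or_eq with hlt | heq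
  · have htop := S.coatom.2 _ hlt
    rw [htop, card_top, h168] at h24
    omega
  · rw [heq, h24] at h6
    omega

end Cfsg.Agent.Lib.Suborbit46
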