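import Cfsg.Agent.Lib.Suborbit46.IndexTwo
import Cfsg.Agent.Lib.Suborbit46.Split
import Cfsg.Agent.Lib.Suborbit46.Six
import Cfsg.Agent.Lib.Cores.Basic

/-!
# Point stabilisers of order 48: the simple subgroup of index two
-/

set_option autoImplicit false
set_option linter.unusedSectionVars false
set_option linter.style.haveILetI false

namespace Cfsg.Agent.Lib.Suborbit46

open Subgroup
open scoped commutatorElement
open Cfsg.Agent.Lib.SDBlock25.Count (core core_comm core_odd)

universe u

variable {G : Type u} [Group G] [Finite G] {H P : Subgroup G} {g c z : G} {W : Subgroup G}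
  (B : Big G H P g c z W) {L : Subgroup G} (hL : L.index = 2) (hz : z ∉ L)

include B hL hz

theorem Big.normal_L : L.Normal := normal_of_index_eq_two hL

theorem Big.c_mem : c ∈ L := by
  have h : (c * c) * (c * c) ∈ L := (mul_mem_iff_of_index_two hL).2 Iff.rfl
  rwa [show c * c * (c * c) = c * (c * c * c) by group, B.c3, mul_one] at h

theorem Big.W_le : W ≤ L := by
  intro w hw
  by_contra hn
  by_cases h1 : w = 1
  · exact hn (h1 ▸ one_mem _)
  have hu : c * w * c⁻¹ ∉ L := fun h => hn (by
    simpa [mul_assoc] using (B.normal_L hL hz).conj_mem _ h c⁻¹)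
  have h : w * (c * w * c⁻¹) ∈ L := (mul_mem_iff_of_index_two hL).2 (iff_of_false hn hu)
  rw [← B.conj_conj hw h1] at h
  exact hu (by simpa [mul_assoc] using (B.normal_L hL hz).conj_mem _ h c⁻¹)

theorem Big.V_inf : ∀ v ∈ V H P, v ∈ L → v ∈ W := by
  intro v hv hvL
  have hle : W ≤ V H P ⊓ L := le_inf B.WV (B.W_le hL hz)
  have h1 := Subgroup.card_dvd_of_le (inf_le_left : V H P ⊓ L ≤ V H P)
  have h2 := Subgroup.card_dvd_of_le hle
  rw [B.cardV] at h1
  rw [B.W4] at h2
  have hne : V H P ⊓ L ≠ V H P := fun e => hz (inf_eq_left.1 e B.zV)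
  have h3 : Nat.card ↥(V H P ⊓ L) < 8 := by
    by_contra h
    exact hne (Subgroup.eq_of_le_of_card_ge inf_le_left (by rw [B.cardV]; omega))
  have heq := Subgroup.eq_of_le_of_card_ge hle (by
    rw [B.W4]; interval_cases hn : Nat.card ↥(V H P ⊓ L) <;> omega)
  rw [heq]
  exact Subgroup.mem_inf.2 ⟨hv, hvL⟩

theorem Big.card_inf : Nat.card ↥(H ⊓ L) = 24 := by
  have hi : ((H ⊓ L).subgroupOf H).index = 2 := by
    rw [index_eq_two_iff]
    refine ⟨⟨z, B.pair.con.setup.le (B.pair.con.V_le_P B.zV)⟩, fun b => ?_⟩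
    simp only [mem_subgroupOf, Subgroup.coe_mul, Subgroup.mem_inf]
    have hm := mul_mem_iff_of_index_two hL (a := (b : G)) (b := z)
    by_cases hb : (b : G) ∈ L
    · exact Or.inr ⟨⟨b.2, hb⟩, fun h => hz ((hm.1 h.2).1 hb)⟩
    · exact Or.inl ⟨⟨mul_mem b.2 (B.pair.con.setup.le (B.pair.con.V_le_P B.zV)),
        hm.2 (iff_of_false hb hz)⟩, fun h => hb h.2⟩
  have := ((H ⊓ L).subgroupOf H).card_mul_index
  rw [hi, Nat.card_congr (subgroupOfEquivOfLe inf_le_left).toEquiv, B.cardH] at this
  omega

theorem Big.eq_top_of_conj {A : Subgroup G} (hA : A ≤ L) (hLA : L ≤ normalizer (A : Set G))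
    (hzA : cj z A = A) : A.Normal := by
  refine normalizer_eq_top_iff.1 (eq_top_iff.2 fun x _ => ?_)
  by_cases hx : x ∈ L
  · exact hLA hx
  · have h : x * z ∈ L := (mul_mem_iff_of_index_two hL).2 (iff_of_false hx hz)
    simpa using mul_mem (hLA h) (inv_mem (cj_eq_self.1 hzA))

theorem Big.ne_bot_L : L ≠ ⊥ := fun e => B.c1 (by
  have := B.c_mem hL hz
  rwa [e, mem_bot] at this)

/-- `L` is perfect. -/
theorem Big.commutator_L : ⁅L, L⁆ = L := by
  haveI := B.normal_L hL hz
  have S := B.pair.con.setup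
  refine le_antisymm (Subgroup.commutator_le_left L L) ?_
  set D := ⁅L, L⁆ with hD
  haveI hDn : D.Normal := inferInstance
  have hWD : W ≤ D := by
    intro w hw
    by_cases h1 : w = 1
    · exact h1 ▸ one_mem _
    set u := c * w * c⁻¹ with hu
    have huW : u ∈ W := (mem_normalizer_iff.1 (B.Wn B.cH) w).1 hw
    have h := commutator_mem_commutator (B.c_mem hL hz) (B.W_le hL hz huW)
    rw [show ⁅c, u⁆ = (c * u * c⁻¹) * u⁻¹ from commutatorElement_def c u,
      B.conj_conj hw h1, mul_inv_cancel_right] at h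
    exact h
  have hW'D : cj g W ≤ D := fun x hx => by
    simpa [mul_assoc] using hDn.conj_mem _ (hWD (mem_cj.1 hx)) g
  have hne : D ≠ ⊥ := fun e => B.W_ne (le_bot_iff.1 (e ▸ hWD))
  have hsup := S.sup_normal hne
  -- `D (H ⊓ L) = L`
  have hdec : ∀ x ∈ L, ∃ d ∈ D, ∃ h ∈ H ⊓ L, x = d * h := by
    intro x hx
    have hx' : x ∈ D ⊔ H := hsup.symm ▸ mem_top x
    rw [← SetLike.mem_coe, Subgroup.normal_mul] at hx'
    obtain ⟨d, hd, h, hh, rfl⟩ := Set.mem_mul.1 hx'
    refine ⟨d, hd, h, Subgroup.mem_inf.2 ⟨hh, ?_⟩, rfl⟩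
    simpa using mul_mem (inv_mem (Subgroup.commutator_le_left L L hd)) hx
  by_contra hle
  -- `H ⊓ D` is the subgroup of order eight
  have hle8 : W ⊔ cj g W ≤ H ⊓ D :=
    le_inf (B.D_le.trans S.le) (sup_le hWD hW'D)
  have hHD : H ⊓ D = W ⊔ cj g W := by
    refine (Subgroup.eq_of_le_of_card_ge hle8 ?_).symm
    rw [B.card_D]
    have h1 : H ⊓ D ≤ H ⊓ L := inf_le_inf_left _ (Subgroup.commutator_le_left L L)
    have h2 := Subgroup.card_dvd_of_le h1
    have h3 := Subgroup.card_dvd_of_le hle8
    rw [B.card_inf hL hz] at h2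
    rw [B.card_D] at h3
    have h4 : H ⊓ D ≠ H ⊓ L := fun e => hle fun x hx => by
      obtain ⟨d, hd, h, hh, rfl⟩ := hdec x hx
      exact mul_mem hd (Subgroup.mem_inf.1 (e.symm ▸ hh)).2
    have h5 : Nat.card ↥(H ⊓ D) < 24 := by
      by_contra h
      exact h4 (Subgroup.eq_of_le_of_card_ge h1 (by rw [B.card_inf hL hz]; omega))
    interval_cases hn : Nat.card ↥(H ⊓ D) <;> omega
  have hnorm : H ≤ normalizer (↑(W ⊔ cj g W) : Set G) := le_normalizer_of_conj_mem fun b hb a ha => by
    rw [← hHD] at ha ⊢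
    exact Subgroup.mem_inf.2 ⟨mul_mem (mul_mem hb (Subgroup.mem_inf.1 ha).1) (inv_mem hb),
      hDn.conj_mem _ (Subgroup.mem_inf.1 ha).2 b⟩
  have hV : W ⊔ cj g W ≤ V H P := B.pair.con.core_eq_V ▸ S.le_core B.D_le hnorm
  have hW' : cj g W ≤ omegaCenter P := fun x hx =>
    B.pair.inf_eq (hV (mem_sup_right hx)) (cj_mono g B.WV hx)
  have heq := Subgroup.eq_of_le_of_card_ge hW' (by
    have := B.pair.con.card_V
    rw [B.cardV] at this
    rw [card_cj, B.W4]
    omega)
  exact B.z_notMem_D (mem_sup_right (heq.symm ▸ B.pair.con.Z0_le B.zMem))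

theorem Big.notSol_L : ¬ Group.IsSolvable L :=
  haveI := B.normal_L hL hz
  B.pair.con.setup.notSol_of_index_two hL

theorem Big.eq_of_normal {M : Subgroup G} [M.Normal] (hM : M ≤ L) (hne : M ≠ ⊥) : M = L := by
  haveI := B.pair.con.setup.isSolvable_quotient hne
  refine le_antisymm hM ?_
  by_contra hle
  set A := L.map (QuotientGroup.mk' M) with hA
  have hAne : A ≠ ⊥ := fun e => hle (by
    rw [hA, Subgroup.map_eq_bot_iff, QuotientGroup.ker_mk'] at e
    exact e)
  have := Group.IsSolvable.commutator_lt_of_ne_bot hAne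
  rw [hA, ← Subgroup.map_commutator, B.commutator_L hL hz] at this
  exact lt_irrefl _ this

/-- `L` is simple. -/
theorem Big.isSimple_L : IsSimpleGroup L := by
  haveI := B.normal_L hL hz
  haveI : Nontrivial L := (Subgroup.nontrivial_iff_ne_bot L).2 (B.ne_bot_L hL hz)
  refine ⟨fun N hN => or_iff_not_imp_left.2 fun hne => ?_⟩
  set K := N.map L.subtype with hK
  have hKL : K ≤ L := map_subtype_le N
  have hKN : L ≤ normalizer (K : Set G) := le_normalizer_of_conj_mem fun b hb a ha => by
    obtain ⟨n, hn, rfl⟩ := ha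
    exact ⟨⟨b, hb⟩ * n * ⟨b, hb⟩⁻¹, hN.conj_mem n hn _, rfl⟩
  set K' := cj z K with hK'
  have hzi : z⁻¹ = z := inv_eq_of_mul_eq_one_right B.zz
  have hK'L : K' ≤ L := fun x hx => by
    simpa [mul_assoc] using (B.normal_L hL hz).conj_mem _ (hKL (mem_cj.1 hx)) z
  have hK'N : L ≤ normalizer (K' : Set G) := le_normalizer_of_conj_mem fun b hb a ha => by
    rw [hK', mem_cj] at ha ⊢
    have hb' : z⁻¹ * b * z ∈ L := by
      simpa using (B.normal_L hL hz).conj_mem b hb z⁻¹
    have := (mem_normalizer_iff.1 (hKN hb') _).1 ha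
    simpa [mul_assoc] using this
  have hswap : cj z K' = K := by rw [hK', ← cj_mul, B.zz, cj_one]
  have htop : K = L → N = ⊤ := fun e =>
    Subgroup.map_injective L.subtype_injective (by
      rw [← hK, e, ← MonoidHom.range_eq_map, Subgroup.range_subtype])
  by_cases hM : K ⊓ K' = ⊥
  · exfalso
    -- `K` embeds into `C(z) = H`
    have hcomm : ∀ k ∈ K, ∀ k' ∈ K', Commute k k' := fun k hk k' hk' => by
      have h1 : ⁅k, k'⁆ ∈ K := by
        rw [commutatorElement_def, show k * k' * k⁻¹ * k'⁻¹ = k * (k' * k⁻¹ * k'⁻¹) by group]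
        exact mul_mem hk ((mem_normalizer_iff.1 (hKN (hK'L hk')) _).1 (inv_mem hk))
      have h2 : ⁅k, k'⁆ ∈ K' := by
        rw [commutatorElement_def]
        exact mul_mem ((mem_normalizer_iff.1 (hK'N (hKL hk)) _).1 hk') (inv_mem hk')
      have h3 : ⁅k, k'⁆ ∈ K ⊓ K' := Subgroup.mem_inf.2 ⟨h1, h2⟩
      rw [hM, mem_bot] at h3
      exact commutatorElement_eq_one_iff_mul_comm.1 h3
    have hz' : ∀ k : K, z * (k : G) * z ∈ K' := fun k => by
      rw [hK', mem_cj, hzi, show z * (z * (k : G) * z) * z = (z * z) * k * (z * z) by group, B.zz]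
      simp
    let f : K →* H :=
      { toFun := fun k => ⟨(k : G) * (z * k * z), by
          rw [← B.centralizer_z, mem_centralizer_singleton_iff]
          have hc := (hcomm _ k.2 _ (hz' k)).eq
          calc (k : G) * (z * k * z) * z = (k : G) * (z * k) * (z * z) := by group
            _ = (k : G) * (z * k) := by rw [B.zz, mul_one]
            _ = (z * z) * (k * (z * k)) := by rw [B.zz, one_mul]
            _ = z * ((z * k * z) * k) := by group
            _ = z * ((k : G) * (z * k * z)) := by rw [← hc]⟩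
        map_one' := Subtype.ext (by simp [B.zz])
        map_mul' := fun a b => Subtype.ext (by
          show (a * b : G) * (z * (a * b) * z) = (a : G) * (z * a * z) * ((b : G) * (z * b * z))
          have hc := (hcomm _ b.2 _ (hz' a)).eq
          calc (a * b : G) * (z * (a * b) * z)
              = (a : G) * (b * (z * a * (z * z) * b * z)) := by rw [B.zz]; group
            _ = (a : G) * ((b * (z * a * z)) * (z * b * z)) := by group
            _ = (a : G) * (((z * a * z) * b) * (z * b * z)) := by rw [hc]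
            _ = _ := by group) }
    have hf : Function.Injective f := (injective_iff_map_eq_one f).2 fun k hk => by
      have hk' : (k : G) * (z * k * z) = 1 := congrArg Subtype.val hk
      have h1 : (k : G) ∈ K ⊓ K' := Subgroup.mem_inf.2 ⟨k.2, by
        rw [eq_inv_of_mul_eq_one_left hk']; exact inv_mem (hz' k)⟩
      rw [hM, mem_bot] at h1
      exact Subtype.ext h1
    haveI := B.pair.con.setup.isSolvable_left
    haveI : Group.IsSolvable K := solvable_of_solvable_injective hf
    haveI : Group.IsSolvable K' := solvable_of_surjective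
      (f := ((K.equivMapOfInjective _ (MulAut.conj z).injective).toMonoidHom : K →* K'))
      (MulEquiv.surjective _)
    have hKne : K ≠ ⊥ := fun e => hne (by
      rwa [hK, Subgroup.map_eq_bot_iff_of_injective _ L.subtype_injective] at e)
    set U := K ⊔ K' with hU
    haveI : U.Normal := B.eq_top_of_conj hL hz (sup_le hKL hK'L)
      (fun x hx => cj_eq_self.1 (by
        rw [hU, cj, Subgroup.map_sup]
        exact congrArg₂ (· ⊔ ·) (cj_eq_self.2 (hKN hx)) (cj_eq_self.2 (hK'N hx))))
      (by rw [hU, cj, Subgroup.map_sup]; change cj z K ⊔ cj z K' = _; rw [hswap, sup_comm])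
    have hUL := B.eq_of_normal hL hz (M := U) (sup_le hKL hK'L)
      fun e => hKne (le_bot_iff.1 (e ▸ le_sup_left))
    let φ : K × K' →* G := MonoidHom.noncommCoprod K.subtype K'.subtype
      fun a b => hcomm _ a.2 _ b.2
    have hr : φ.range = L := by
      rw [show φ.range = K.subtype.range ⊔ K'.subtype.range from MonoidHom.noncommCoprod_range _ _ _,
        Subgroup.range_subtype, Subgroup.range_subtype]
      exact hUL
    refine B.notSol_L hL hz ?_
    exact hr ▸ solvable_of_surjective (f := φ.rangeRestrict) φ.rangeRestrict_surjective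
  · refine htop (le_antisymm hKL ?_)
    haveI : (K ⊓ K').Normal := B.eq_top_of_conj hL hz (inf_le_left.trans hKL)
      (le_normalizer_of_conj_mem fun b hb a ha => Subgroup.mem_inf.2
        ⟨(mem_normalizer_iff.1 (hKN hb) a).1 (Subgroup.mem_inf.1 ha).1,
          (mem_normalizer_iff.1 (hK'N hb) a).1 (Subgroup.mem_inf.1 ha).2⟩)
      (by
        rw [cj, Subgroup.map_inf _ _ _ (MulAut.conj z).injective]
        change cj z K ⊓ cj z K' = _
        rw [hswap, inf_comm])
    exact (B.eq_of_normal hL hz (M := K ⊓ K') (inf_le_left.trans hKL) hM).ge.trans inf_le_left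

theorem Big.nc_L : ¬ ∀ a b : L, a * b = b * a := fun h =>
  B.notSol_L hL hz (Group.isSolvable_of_comm h)

theorem Big.centralizer_L : centralizer (L : Set G) = ⊥ := by
  haveI := B.normal_L hL hz
  set C := centralizer (L : Set G) with hC
  haveI : C.Normal := inferInstance
  have hCL : C ⊓ L = ⊥ := by
    by_contra hne
    refine B.nc_L hL hz fun a b => Subtype.ext ?_
    have hb : (b : G) ∈ C ⊓ L := (B.eq_of_normal hL hz inf_le_right hne).symm ▸ b.2
    exact mem_centralizer_iff.1 (Subgroup.mem_inf.1 hb).1 a a.2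
  haveI : Fact (Nat.Prime 2) := ⟨Nat.prime_two⟩
  refine B.pair.con.setup.eq_bot_of_two inferInstance fun x => ⟨1, Subtype.ext ?_⟩
  have h : (x : G) * x ∈ C ⊓ L :=
    Subgroup.mem_inf.2 ⟨mul_mem x.2 x.2, (mul_mem_iff_of_index_two hL).2 Iff.rfl⟩
  rw [hCL, mem_bot] at h
  simpa [pow_two] using h

theorem Big.normalizer_sub :
    normalizer (W.subgroupOf L : Set L) = H.subgroupOf L := by
  ext x
  rw [mem_subgroupOf, ← B.normalizer_W, mem_normalizer_iff, mem_normalizer_iff]
  constructor
  · intro h n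
    by_cases hn : n ∈ L
    · exact h ⟨n, hn⟩
    · refine iff_of_false (fun h' => hn (B.W_le hL hz h')) fun h' => hn ?_
      simpa [mul_assoc] using (B.normal_L hL hz).conj_mem _ (B.W_le hL hz h') (x : G)⁻¹
  · exact fun h n => h n

theorem Big.four : Four L (W.subgroupOf L) ⟨c, B.c_mem hL hz⟩ where
  simple := B.isSimple_L hL hz
  nc := B.nc_L hL hz
  card := by rw [Nat.card_congr (subgroupOfEquivOfLe (B.W_le hL hz)).toEquiv, B.W4]
  sq w hw := Subtype.ext (B.pair.con.sq_V (B.WV hw))
  cent := by
    ext x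
    rw [mem_centralizer_iff, mem_subgroupOf]
    constructor
    · intro h
      refine B.V_inf hL hz _ ?_ x.2
      rw [← B.centralizer_W]
      exact mem_centralizer_iff.2 fun w hw =>
        congrArg Subtype.val (h ⟨w, B.W_le hL hz hw⟩ hw)
    · intro h w hw
      exact Subtype.ext (B.pair.con.comm_V (B.WV hw) (B.WV h))
  cN := by
    rw [B.normalizer_sub hL hz]
    exact B.cH
  c3 := Subtype.ext B.c3
  cMove w hw h1 e := B.cMove hw (fun h => h1 (Subtype.ext h)) (congrArg Subtype.val e)
  normCard := by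
    rw [B.normalizer_sub hL hz, ← inf_subgroupOf_right,
      Nat.card_congr (subgroupOfEquivOfLe inf_le_right).toEquiv, B.card_inf hL hz]
  big := by
    have h := B.pair.card_normalizer
    rw [B.cardP] at h
    have h2 := Subgroup.card_subgroup_dvd_card (normalizer (P : Set G))
    rw [h, ← L.card_mul_index, hL] at h2
    omega

omit B in
theorem card_core_map {L' : Type*} [Group L'] [Finite L'] (φ : L' ≃* L') (w : L') (h : φ w = w) :
    (core w).map φ.toMonoidHom = core w := by
  set C := centralizer ({w} : Set L') with hC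
  have hmap : C.map φ.toMonoidHom = C := by
    ext y
    rw [mem_map_equiv, hC, mem_centralizer_singleton_iff, mem_centralizer_singleton_iff]
    constructor <;> intro e
    · simpa [h] using congrArg φ e
    · apply φ.injective; simpa [h] using e
  let e : C ≃* C := (φ.subgroupMap C).trans (MulEquiv.subgroupCongr hmap)
  rw [core, ← hC, Subgroup.map_map]
  conv_rhs => rw [← Cores.map_pPrimeCore_equiv (p := 2) e, Subgroup.map_map]
  rfl

/-- The hypothesis used for killing the cores. -/
theorem Big.fam : Fam (W.subgroupOf L) := by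
  haveI := B.normal_L hL hz
  have F := B.four hL hz
  intro w hw hw1 E hE hEne M hM
  have hzi : z⁻¹ = z := inv_eq_of_mul_eq_one_right B.zz
  -- `z` inverts the core
  let σ : L ≃* L := MulAut.conjNormal z
  have hσw : σ w = w := Subtype.ext (by
    show z * (w : G) * z⁻¹ = w
    rw [← B.zc (B.W_H (mem_subgroupOf.1 hw)), mul_inv_cancel_right])
  have hσcore : ∀ x ∈ core w, σ x ∈ core w := fun x hx => by
    rw [← card_core_map hL hz σ w hσw]
    exact mem_map_of_mem _ hx
  have hσσ : ∀ x : L, σ (σ x) = x := fun x => Subtype.ext (by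
    show z * (z * (x : G) * z⁻¹) * z⁻¹ = x
    rw [hzi, show z * (z * (x : G) * z) * z = (z * z) * x * (z * z) by group, B.zz]
    simp)
  have hinvert : ∀ e ∈ core w, σ e = e⁻¹ := by
    intro e he
    let φ : core w → core w := fun x =>
      ⟨(x : L)⁻¹ * σ x, mul_mem (inv_mem x.2) (hσcore x x.2)⟩
    have hinj : Function.Injective φ := by
      intro a b hab
      have hab' : (a : L)⁻¹ * σ a = (b : L)⁻¹ * σ b := congrArg Subtype.val hab
      have hfix : σ ((b : L) * (a : L)⁻¹) = b * (a : L)⁻¹ := by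
        rw [map_mul, map_inv, show σ (b : L) = b * ((b : L)⁻¹ * σ b) by group, ← hab']
        group
      set d := (b : L) * (a : L)⁻¹ with hd
      have hdcore : d ∈ core w := mul_mem b.2 (inv_mem a.2)
      have hdH : (d : G) ∈ H := B.centralizer_z ▸ mem_centralizer_singleton_iff.2
        (mul_inv_eq_iff_eq_mul.1 (congrArg Subtype.val hfix : z * (d : G) * z⁻¹ = d)).symm
      have hdN : d ∈ normalizer (W.subgroupOf L : Set L) := by
        rw [B.normalizer_sub hL hz]; exact hdH
      have hd1 := F.eq_one_of_odd hdN (core_odd hdcore) hw hw1 (core_comm hdcore).eq.symm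
      exact Subtype.ext (mul_inv_eq_one.1 hd1).symm
    obtain ⟨x, hx⟩ := Finite.surjective_of_injective hinj ⟨e, he⟩
    have hx' : (x : L)⁻¹ * σ x = e := congrArg Subtype.val hx
    rw [← hx', map_mul, map_inv, hσσ]
    group
  set X : Set L := {y | ∃ h ∈ normalizer (W.subgroupOf L : Set L), ∃ e ∈ E, h * e * h⁻¹ = y}
  set T := (closure X).map L.subtype with hT
  have hTM : closure X ≤ M := (closure_le M).2 fun y ⟨h, hh, e, he, hy⟩ => hy ▸ hM h hh e he
  have hEX : E ≤ closure X := fun e he => subset_closure ⟨1, one_mem _, e, he, by simp⟩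
  have hXN : H.subgroupOf L ≤ normalizer (closure X : Set L) :=
    le_normalizer_of_conj_mem fun b hb a ha => by
      rw [← B.normalizer_sub hL hz] at hb
      induction ha using closure_induction with
      | mem x hx =>
        obtain ⟨h, hh, e, he, rfl⟩ := hx
        exact subset_closure ⟨b * h, mul_mem hb hh, e, he, by group⟩
      | one => simp
      | mul x y _ _ ihx ihy => simpa [mul_assoc] using mul_mem ihx ihy
      | inv x _ ihx => simpa [mul_assoc] using inv_mem ihx
  have hσX : ∀ a ∈ closure X, σ a ∈ closure X := fun a ha => by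
    induction ha using closure_induction with
    | mem x hx =>
      obtain ⟨h, hh, e, he, rfl⟩ := hx
      have hσh : σ h = h := by
        rw [B.normalizer_sub hL hz] at hh
        exact Subtype.ext (mul_inv_eq_iff_eq_mul.2 (B.zc hh).symm)
      rw [map_mul, map_mul, map_inv, hσh, hinvert e (hE he)]
      exact subset_closure ⟨h, hh, e⁻¹, inv_mem he, rfl⟩
    | one => simp
    | mul x y _ _ ihx ihy => rw [map_mul]; exact mul_mem ihx ihy
    | inv x _ ihx => rw [map_inv]; exact inv_mem ihx
  have hzT : cj z T = T := Subgroup.eq_of_le_of_card_ge (fun x hx => by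
    rw [mem_cj] at hx
    obtain ⟨a, ha, hax⟩ := hx
    refine ⟨σ a, hσX a ha, ?_⟩
    show z * (a : G) * z⁻¹ = x
    rw [show (a : G) = z⁻¹ * x * z from hax]
    group) (by rw [card_cj])
  have hHT : H ≤ normalizer (T : Set G) := by
    intro h hh
    have key : ∀ k ∈ H, k ∈ L → k ∈ normalizer (T : Set G) := fun k hk hkL => by
      have := le_normalizer_map L.subtype (mem_map_of_mem L.subtype (hXN (show
        (⟨k, hkL⟩ : L) ∈ H.subgroupOf L from hk)))
      exact this
    by_cases hhL : h ∈ L
    · exact key h hh hhL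
    · have h1 := key (h * z) (mul_mem hh (B.pair.con.setup.le (B.pair.con.V_le_P B.zV)))
        ((mul_mem_iff_of_index_two hL).2 (iff_of_false hhL hz))
      simpa using mul_mem h1 (inv_mem (cj_eq_self.1 hzT))
  by_cases hTH : T ≤ H
  · exfalso
    refine hEne (eq_bot_iff.2 fun e he => mem_bot.2 ?_)
    refine F.eq_one_of_odd ?_ (core_odd (hE he)) hw hw1 (core_comm (hE he)).eq.symm
    rw [B.normalizer_sub hL hz]
    exact hTH (mem_map_of_mem L.subtype (hEX he))
  · have htop : normalizer (T : Set G) = ⊤ := B.pair.con.setup.coatom.2 _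
      (lt_of_le_of_ne hHT fun e => hTH (e.symm ▸ Subgroup.le_normalizer))
    haveI := normalizer_eq_top_iff.1 htop
    have hTne : T ≠ ⊥ := fun e => hEne (by
      rw [hT, Subgroup.map_eq_bot_iff_of_injective _ L.subtype_injective] at e
      exact le_bot_iff.1 (e ▸ hEX))
    have hTL := B.eq_of_normal hL hz (map_subtype_le _ : T ≤ L) hTne
    refine top_le_iff.1 fun x _ => hTM ?_
    obtain ⟨a, ha, hax⟩ : (x : G) ∈ T := hTL.symm.le x.2
    rwa [← Subtype.ext hax]

end Cfsg.Agent.Lib.Suborbit46
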